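import Cfsg.Agent.ClassicalMax.Sp4.SubfieldEven
import Cfsg.Agent.Classical.TwoTrans
import Cfsg.Agent.ClassicalMax.Subfield.Sympl

/-!
Subfield groups in four-dimensional symplectic groups in odd characteristic are maximal: two transvection groups generate
a special linear group of a plane over the field of their parameters, so the centres of transvections in an overgroup
which has no full transvection group are rational.
-/

set_option autoImplicit false
set_option linter.unusedSectionVars false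
set_option linter.style.haveILetI false

namespace Cfsg.Agent.ClassicalMax.Sp4

open Module Matrix Cfsg.Agent.Classical Cfsg.Agent.ClassicalMax Cfsg.Agent.ClassicalMax.Subfield Cfsg.Agent.RootSub.Dickson
open scoped MatrixGroups

section Plane

variable {F V : Type*} [Field F] [AddCommGroup V] [Module F V] {B : LinearMap.BilinForm F V}

/-- a matrix acting on a hyperbolic pair -/
def planeLin (hA : B.IsAlt) (u p : V) (M : Matrix (Fin 2) (Fin 2) F) : V →ₗ[F] V where
  toFun x := x + ((M 0 0 - 1) * B x p + M 0 1 * B u x) • u + (M 1 0 * B x p + (M 1 1 - 1) * B u x) • p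
  map_add' x y := by simp [mul_add, add_smul]; abel
  map_smul' c x := by simp [smul_add, smul_smul, mul_add, mul_left_comm c]

theorem planeLin_mul (hA : B.IsAlt) {u p : V} (h : B u p = 1) (M N : Matrix (Fin 2) (Fin 2) F) (x : V) :
    planeLin hA u p (M * N) x = planeLin hA u p M (planeLin hA u p N x) := by
  have h' : B p u = -1 := by rw [← LinearMap.IsAlt.neg hA, h]
  simp [planeLin, Matrix.mul_apply, Fin.sum_univ_two, hA u, hA p, h, h']
  module

/-- the action of the special linear group on a hyperbolic pair -/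
noncomputable def planeHom (hA : B.IsAlt) {u p : V} (h : B u p = 1) : SL(2, F) →* (V ≃ₗ[F] V) :=
  (LinearMap.GeneralLinearGroup.generalLinearEquiv F V).toMonoidHom.comp
    (MonoidHom.toHomUnits
      { toFun := fun g => planeLin hA u p (g : Matrix (Fin 2) (Fin 2) F)
        map_one' := LinearMap.ext fun x => by simp [planeLin]
        map_mul' := fun g k => LinearMap.ext fun x => planeLin_mul hA h g.1 k.1 x })

theorem planeHom_apply (hA : B.IsAlt) {u p : V} (h : B u p = 1) (g : SL(2, F)) (x : V) :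
    planeHom hA h g x = planeLin hA u p (g : Matrix (Fin 2) (Fin 2) F) x := rfl

theorem planeHom_upR (hA : B.IsAlt) {u p : V} (h : B u p = 1) (t : F) : planeHom hA h (upR t) = Alt.tv hA u (-t) :=
  LinearEquiv.ext fun x => by
    rw [planeHom_apply, Alt.tv_apply, ← LinearMap.IsAlt.neg hA u x]
    simp [planeLin, coe_upR]

theorem planeHom_lowR (hA : B.IsAlt) {u p : V} (h : B u p = 1) (t : F) : planeHom hA h (lowR t) = Alt.tv hA p t :=
  LinearEquiv.ext fun x => by
    rw [planeHom_apply, Alt.tv_apply]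
    simp [planeLin, coe_lowR]

end Plane

variable {ι : Type} [Fintype ι] [DecidableEq ι] {F : Type*} [Field F] [Fintype F]

/-- rational upper and scaled rational lower transvections generate the special linear group -/
theorem dickson_top {F₀ : Subfield F} (h2 : (2 : F) ≠ 0) {r : ℕ} (hr : r.Prime) (hcard : Fintype.card F = Nat.card F₀ ^ r)
    (H : Subgroup SL(2, F)) {μ : F} (hn : μ ∉ F₀) (hne : ¬ (Nat.card F₀ = 3 ∧ μ ^ 2 = -1))
    (hup : ∀ a ∈ F₀, upR a ∈ H) (hlow : ∀ a ∈ F₀, lowR (a * μ) ∈ H) : H = ⊤ := by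
  classical
  have hμ0 : μ ≠ 0 := fun e => hn (by rw [e]; exact F₀.zero_mem)
  by_cases h3 : Nat.card F₀ = 3
  · have hgen : Subfield.closure ({μ} : Set F) = ⊤ := by
      have hle : F₀ ≤ Subfield.closure ({μ} : Set F) := fun x hx => by
        have : Fintype F₀ := Fintype.ofFinite F₀
        have h2m : (2 : F) ∈ F₀ := by rw [← one_add_one_eq_two]; exact F₀.add_mem F₀.one_mem F₀.one_mem
        have h12 : (2 : F) ≠ 1 := fun e => one_ne_zero (α := F) (by linear_combination e)
        have hset : (F₀ : Set F) = {0, 1, 2} := (Set.eq_of_subset_of_ncard_le (by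
          rintro z (rfl | rfl | rfl)
          exacts [F₀.zero_mem, F₀.one_mem, h2m]) (by
          rw [← Nat.card_coe_set_eq]
          have : Nat.card (F₀ : Set F) = 3 := h3
          rw [this, Set.ncard_insert_of_notMem (by simp [h2.symm]) (Set.toFinite _),
            Set.ncard_pair h12.symm]) (Set.toFinite _)).symm
        rcases (hset.le hx : x ∈ ({0, 1, 2} : Set F)) with rfl | rfl | rfl
        · exact zero_mem _
        · exact one_mem _
        · rw [← one_add_one_eq_two]; exact add_mem (one_mem _) (one_mem _)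
      rcases subfield_eq_or_top hr hcard hle with h1 | h1
      · exact absurd (h1 μ (Subfield.subset_closure rfl)) hn
      · exact eq_top_iff.2 fun x _ => h1 x
    have hT := TwoTrans.top_of_not_exceptional h2 hμ0 hgen (fun e => hne ⟨h3, e.2⟩)
    refine eq_top_iff.2 fun g _ => ?_
    have h1 : Subgroup.closure ({lowR 1, upR μ} : Set SL(2, F)) ≤ H.comap (MulAut.conj (TwoTrans.wSL F)).toMonoidHom := by
      rw [Subgroup.closure_le]
      rintro z (rfl | rfl)
      · show TwoTrans.wSL F * lowR 1 * (TwoTrans.wSL F)⁻¹ ∈ H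
        rw [TwoTrans.wSL_lowR, mul_inv_cancel_right]
        exact hup _ (F₀.neg_mem F₀.one_mem)
      · show TwoTrans.wSL F * upR μ * (TwoTrans.wSL F)⁻¹ ∈ H
        rw [TwoTrans.wSL_upR, mul_inv_cancel_right, ← neg_one_mul]
        exact hlow _ (F₀.neg_mem F₀.one_mem)
    have h2 : (MulAut.conj (TwoTrans.wSL F)).symm g ∈ H.comap (MulAut.conj (TwoTrans.wSL F)).toMonoidHom :=
      h1 (by rw [hT]; exact Subgroup.mem_top _)
    simpa only [Subgroup.mem_comap, MulEquiv.coe_toMonoidHom, MulEquiv.apply_symm_apply] using h2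
  · letI : Algebra F₀ F := F₀.toAlgebra
    haveI : FiniteDimensional F₀ F := Module.Finite.of_finite
    have hk2 : (2 : F₀) ≠ 0 := fun e => h2 ((map_ofNat F₀.subtype 2).symm.trans ((congrArg F₀.subtype e).trans (map_zero _)))
    have hgen : Algebra.adjoin F₀ ({μ} : Set F) = ⊤ := by
      have hA : (Algebra.adjoin F₀ ({μ} : Set F)).toSubring.toAddSubgroup = _ := rfl
      let S : Subfield F := (IntermediateField.adjoin F₀ ({μ} : Set F)).toSubfield
      have hle : F₀ ≤ S := fun x hx => (IntermediateField.adjoin F₀ ({μ} : Set F)).algebraMap_mem ⟨x, hx⟩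
      have hI : IntermediateField.adjoin F₀ ({μ} : Set F) = ⊤ := by
        rcases subfield_eq_or_top hr hcard hle with h1 | h1
        · exact absurd (h1 μ (IntermediateField.subset_adjoin F₀ _ rfl)) hn
        · exact eq_top_iff.2 fun x _ => h1 x
      rw [← IntermediateField.adjoin_simple_toSubalgebra_of_isAlgebraic (Algebra.IsAlgebraic.isAlgebraic μ), hI,
        IntermediateField.top_toSubalgebra]
    have hT := dicksonGroup_eq_top (k := F₀) hk2 h3 hμ0 hgen
    refine eq_top_iff.2 (hT ▸ ?_)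
    rw [dicksonGroup, Subgroup.closure_le]
    rintro z (⟨t, rfl⟩ | ⟨t, rfl⟩)
    · exact hup _ t.2
    · exact hlow _ t.2

/-- the hypotheses on the group -/
structure OddOver (F₀ : Subfield F) (B : LinearMap.BilinForm F (ι → F)) (X : Subgroup ((ι → F) ≃ₗ[F] (ι → F))) :
    Prop where
  alt : B.IsAlt
  two : (2 : F) ≠ 0
  nd : ∀ x, (∀ y, B x y = 0) → x = 0
  form : ∀ u v : ι → F, RV F₀ u → RV F₀ v → B u v ∈ F₀
  card : 3 ≤ Fintype.card ι
  prime : ∃ r : ℕ, r.Prime ∧ Fintype.card F = Nat.card F₀ ^ r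
  iso : X ≤ Alt.isoGroup B
  rat : ∀ (v : ι → F) (c : F), RV F₀ v → c ∈ F₀ → Alt.tv alt v c ∈ X

namespace OddOver

variable {F₀ : Subfield F} {B : LinearMap.BilinForm F (ι → F)} {X : Subgroup ((ι → F) ≃ₗ[F] (ι → F))}

theorem swap (hO : OddOver F₀ B X) (u v : ι → F) : B v u = -B u v := (LinearMap.IsAlt.neg hO.alt u v).symm

theorem exists_of_rf (hO : OddOver F₀ B X) {f : Dual F (ι → F)} (hf : RF F₀ f) : ∃ y, RV F₀ y ∧ ∀ x, B y x = f x := by
  haveI : Fintype F₀ := Fintype.ofFinite F₀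
  let L : (ι → F₀) →ₗ[F₀] (ι → F₀) :=
    { toFun := fun y i => ⟨B (fun j => (y j : F)) (Pi.single i 1), hO.form _ _ (fun j => (y j).2) (rv_single i)⟩
      map_add' := fun a b => funext fun i => Subtype.ext (by
        show B (fun j => ((a + b) j : F)) (Pi.single i 1) = B _ _ + B _ _
        rw [← LinearMap.add_apply, ← map_add]
        rfl)
      map_smul' := fun a b => funext fun i => Subtype.ext (by
        show B (fun j => ((a • b) j : F)) (Pi.single i 1) = (a : F) * B _ _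
        rw [← smul_eq_mul, ← LinearMap.smul_apply, ← map_smul]
        rfl) }
  have hinj : Function.Injective L := (injective_iff_map_eq_zero L).2 fun y hy => by
    have h0 : (fun j => (y j : F)) = 0 := hO.nd _ fun z => by
      rw [apply_eq_sum (B fun j => (y j : F)) z]
      refine Finset.sum_eq_zero fun i _ => ?_
      rw [show B (fun j => (y j : F)) (Pi.single i 1) = 0 from congrArg Subtype.val (congrFun hy i), mul_zero]
    exact funext fun j => Subtype.ext (congrFun h0 j)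
  obtain ⟨y, hy⟩ := LinearMap.surjective_of_injective hinj (fun i => ⟨f (Pi.single i 1), hf i⟩)
  refine ⟨fun j => (y j : F), fun j => (y j).2, fun x => ?_⟩
  rw [apply_eq_sum (B fun j => (y j : F)) x, apply_eq_sum f x]
  refine Finset.sum_congr rfl fun i _ => ?_
  congr 1
  exact congrArg Subtype.val (congrFun hy i)

theorem rv_of_forms (hO : OddOver F₀ B X) {k : ι → F} (h : ∀ i, B (Pi.single i 1) k ∈ F₀) : RV F₀ k := by
  obtain ⟨y, hy, hyk⟩ := hO.exists_of_rf (f := B k) fun i => by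
    rw [hO.swap]
    exact F₀.neg_mem (h i)
  have : k = y := sub_eq_zero.1 (hO.nd _ fun z => by rw [map_sub, LinearMap.sub_apply, hyk, sub_self])
  rwa [this]

/-- two rational vectors in general position have rational vectors with any given rational values -/
theorem exists_dual2 (hO : OddOver F₀ B X) {a b : ι → F} (ha : RV F₀ a) (hb : RV F₀ b) (ha0 : a ≠ 0) (hn : b ∉ F ∙ a)
    {s t : F} (hs : s ∈ F₀) (ht : t ∈ F₀) : ∃ y, RV F₀ y ∧ B y a = s ∧ B y b = t := by
  have hb0 : b ≠ 0 := fun e => hn (by rw [e]; exact zero_mem _)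
  have hn' : a ∉ F ∙ b := fun h => by
    obtain ⟨c, hc⟩ := Submodule.mem_span_singleton.1 h
    have hc0 : c ≠ 0 := fun e => ha0 (by rw [← hc, e, zero_smul])
    exact hn (Submodule.mem_span_singleton.2 ⟨c⁻¹, by rw [← hc, inv_smul_smul₀ hc0]⟩)
  obtain ⟨f, hf, hfa, hfb⟩ := exists_rf_one hb ha hn'
  obtain ⟨g, hg, hgb, hga⟩ := exists_rf_one ha hb hn
  obtain ⟨y, hy, e⟩ := hO.exists_of_rf hf
  obtain ⟨z, hz, e'⟩ := hO.exists_of_rf hg
  exact ⟨s • y + t • z, (hy.smul hs).add (hz.smul ht), by simp [e, e', hfa, hga], by simp [e, e', hfb, hgb]⟩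

theorem exists_dual1 (hO : OddOver F₀ B X) {a : ι → F} (ha : RV F₀ a) (ha0 : a ≠ 0) : ∃ y, RV F₀ y ∧ B y a = 1 := by
  obtain ⟨f, hf, hfa, -⟩ := exists_rf_one (fun _ => F₀.zero_mem : RV F₀ (0 : ι → F)) ha (by
    show a ∉ F ∙ (0 : ι → F)
    rw [Submodule.span_zero_singleton]; exact ha0)
  obtain ⟨y, hy, e⟩ := hO.exists_of_rf hf
  exact ⟨y, hy, by rw [e, hfa]⟩

/-- two opposite root groups over the subfield with a non-rational product generate the full group -/
theorem plane (hO : OddOver F₀ B X) {u p : ι → F} {l : F} (hu : ∀ a ∈ F₀, Alt.tv hO.alt u a ∈ X)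
    (hp : ∀ a ∈ F₀, Alt.tv hO.alt p (a * l) ∈ X) (hn : l * B u p ^ 2 ∉ F₀)
    (hne : ¬ (Nat.card F₀ = 3 ∧ (l * B u p ^ 2) ^ 2 = -1)) : u ∈ centres hO.alt X := by
  classical
  set μ := l * B u p ^ 2 with hμ
  have hb : B u p ≠ 0 := fun e => hn (by rw [hμ, e]; simp)
  have hμ0 : μ ≠ 0 := fun e => hn (by rw [e]; exact F₀.zero_mem)
  have h : B u ((B u p)⁻¹ • p) = 1 := by rw [map_smul, smul_eq_mul, inv_mul_cancel₀ hb]
  set H := X.comap (planeHom hO.alt h) with hH
  have hup : ∀ a ∈ F₀, upR a ∈ H := fun a ha => by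
    rw [hH, Subgroup.mem_comap, planeHom_upR]; exact hu _ (F₀.neg_mem ha)
  have hlow : ∀ a ∈ F₀, lowR (a * μ) ∈ H := fun a ha => by
    rw [hH, Subgroup.mem_comap, planeHom_lowR, Alt.tv_smul]
    convert hp a ha using 2
    rw [hμ]; field_simp
  suffices hT : H = ⊤ by
    intro c
    have h1 : upR (-c) ∈ H := hT ▸ Subgroup.mem_top _
    rwa [hH, Subgroup.mem_comap, planeHom_upR, neg_neg] at h1
  obtain ⟨r, hr, hcard⟩ := hO.prime
  exact dickson_top hO.two hr hcard H hn hne hup hlow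

theorem rat_centre (hO : OddOver F₀ B X) {g : (ι → F) ≃ₗ[F] (ι → F)} (hg : g ∈ X) {v : ι → F} (hv : RV F₀ v) :
    ∀ a ∈ F₀, Alt.tv hO.alt (g v) a ∈ X := fun a ha => by
  rw [← Alt.conj_tv hO.alt (hO.iso hg)]
  exact mul_mem (mul_mem hg (hO.rat _ _ hv ha)) (inv_mem hg)

theorem exists_good (hO : OddOver F₀ B X) : ∃ m : F, m ∉ F₀ ∧ ¬ (Nat.card F₀ = 3 ∧ m ^ 2 = -1) := by
  obtain ⟨r, hr, hcard⟩ := hO.prime
  obtain ⟨l, hl⟩ : ∃ l, l ∉ F₀ := by
    by_contra! hc
    have h1 : Nat.card F₀ = Nat.card F := Nat.card_congr (Equiv.subtypeUnivEquiv hc)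
    rw [Nat.card_eq_fintype_card (α := F), hcard] at h1
    have := Nat.pow_right_injective Finite.one_lt_card ((pow_one _).trans h1)
    exact hr.ne_one this.symm
  by_cases h : Nat.card F₀ = 3 ∧ l ^ 2 = -1
  · refine ⟨l + 1, fun e => hl (by simpa using F₀.sub_mem e F₀.one_mem), fun h' => ?_⟩
    have h1 : 2 * l = -1 := by linear_combination h'.2 - h.2
    have h2 : (2 : F) ∈ F₀ := by rw [← one_add_one_eq_two]; exact F₀.add_mem F₀.one_mem F₀.one_mem
    exact hl (by rw [show l = -1 / 2 by rw [← h1]; field_simp [hO.two]]; exact F₀.div_mem (F₀.neg_mem F₀.one_mem) h2)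
  · exact ⟨l, hl, h⟩

/-- one full rational root group gives all of them -/
theorem rational_full (hO : OddOver F₀ B X) {v : ι → F} (hv : RV F₀ v) (hv0 : v ≠ 0) (hf : v ∈ centres hO.alt X) :
    ∀ w, RV F₀ w → w ∈ centres hO.alt X := by
  have step : ∀ a b, RV F₀ b → a ∈ centres hO.alt X → B b a ≠ 0 → b ∈ centres hO.alt X := fun a b hb ha hab => by
    obtain ⟨m, hm, hm'⟩ := hO.exists_good
    have e : m / B b a ^ 2 * B b a ^ 2 = m := div_mul_cancel₀ _ (pow_ne_zero _ hab)
    exact hO.plane (fun c hc => hO.rat _ _ hb hc) (fun c _ => ha _) (l := m / B b a ^ 2) (e.symm ▸ hm) (e.symm ▸ hm')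
  intro w hw
  by_cases hvw : w ∈ F ∙ v
  · obtain ⟨c, rfl⟩ := Submodule.mem_span_singleton.1 hvw
    exact smul_mem_centres hf c
  obtain ⟨y, hy, hya, hyb⟩ := hO.exists_dual2 hv hw hv0 hvw F₀.one_mem F₀.one_mem
  exact step y w hw (step v y hy hf (by rw [hya]; exact one_ne_zero)) (by rw [hO.swap, hyb]; simp)

/-- rational centres give all centres -/
theorem all_of_rational (hO : OddOver F₀ B X) (hrv : ∀ v, RV F₀ v → v ∈ centres hO.alt X) :
    ∀ x, x ∈ centres hO.alt X := by
  classical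
  have hpair : ∀ a b, RV F₀ a → RV F₀ b → ∀ s : F, a + s • b ∈ centres hO.alt X := fun a b ha hb s => by
    by_cases hab : B a b = 0
    swap
    · exact add_smul_mem_centres (hrv a ha) (hrv b hb) hab s
    by_cases ha0 : a = 0
    · rw [ha0, zero_add]; exact smul_mem_centres (hrv b hb) s
    by_cases hn : b ∈ F ∙ a
    · obtain ⟨c, rfl⟩ := Submodule.mem_span_singleton.1 hn
      rw [smul_smul]
      nth_rw 1 [← one_smul F a]
      rw [← add_smul]
      exact smul_mem_centres (hrv a ha) _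
    obtain ⟨t, ht, ht0, hts⟩ : ∃ t ∈ F₀, t ≠ 0 ∧ 1 + s * t ≠ 0 := by
      by_cases h1 : 1 + s = 0
      · exact ⟨-1, F₀.neg_mem F₀.one_mem, neg_ne_zero.2 one_ne_zero, fun e => hO.two (by linear_combination e + h1)⟩
      · exact ⟨1, F₀.one_mem, one_ne_zero, by rwa [mul_one]⟩
    obtain ⟨y, hy, hya, hyb⟩ := hO.exists_dual2 ha hb ha0 hn F₀.one_mem ht
    have h1 := add_smul_mem_centres (hrv a ha) (hrv y hy) (by rw [hO.swap, hya]; simp) 1
    rw [one_smul] at h1
    have h2 := add_smul_mem_centres h1 (hrv b hb) (by rw [map_add, LinearMap.add_apply, hab, zero_add, hyb]; exact ht0) s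
    have h3 := add_smul_mem_centres h2 (hrv y hy) (by
      rw [map_add, LinearMap.add_apply, map_add, LinearMap.add_apply, hO.alt y, add_zero, map_smul, LinearMap.smul_apply,
        hO.swap y a, hO.swap y b, hya, hyb, smul_eq_mul]
      intro e
      exact hts (by linear_combination -e)) (-1)
    convert h3 using 1
    module
  suffices key : ∀ (s : Finset ι) (c : ι → F), (∑ i ∈ s, c i • Pi.single i (1 : F) : ι → F) ∈ centres hO.alt X by
    intro x
    rw [eq_sum_single x]
    exact key Finset.univ x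
  intro s c
  induction s using Finset.induction_on with
  | empty => rw [Finset.sum_empty]; exact zero_mem_centres
  | insert i s hi ih =>
    rw [Finset.sum_insert hi, add_comm]
    set x' := ∑ j ∈ s, c j • Pi.single j (1 : F) with hx'
    set e : ι → F := Pi.single i 1 with he
    have hec : e ∈ centres hO.alt X := hrv _ (rv_single i)
    by_cases hxe : B x' e = 0
    swap
    · exact add_smul_mem_centres ih hec hxe _
    by_cases hx'0 : x' = 0
    · rw [hx'0, zero_add]; exact smul_mem_centres hec _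
    set x := x' + c i • e with hx
    by_cases hx0 : x = 0
    · rw [hx0]; exact zero_mem_centres
    have hnz : ∀ z : ι → F, z ≠ 0 → ∃ a, RV F₀ a ∧ B z a ≠ 0 := fun z hz => by
      by_contra! hc
      refine hz (hO.nd _ fun y => ?_)
      rw [eq_sum_single y, map_sum]
      simp [hc _ (rv_single _)]
    have he0 : e ≠ 0 := fun h => by simpa [he] using congrFun h i
    obtain ⟨y₁, hy₁, h1, h3⟩ : ∃ y, RV F₀ y ∧ B x' y ≠ 0 ∧ B x y ≠ 0 := by
      obtain ⟨a, ha, ha'⟩ := hnz _ hx'0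
      obtain ⟨b, hb, hb'⟩ := hnz _ hx0
      by_cases h1 : B x a = 0
      · by_cases h2 : B x' b = 0
        · exact ⟨a + b, ha.add hb, by rw [map_add, h2, add_zero]; exact ha', by rw [map_add, h1, zero_add]; exact hb'⟩
        · exact ⟨b, hb, h2, hb'⟩
      · exact ⟨a, ha, ha', h1⟩
    obtain ⟨y, hy, hy1, hy2, hy3⟩ : ∃ y, y ∈ centres hO.alt X ∧ B x' y ≠ 0 ∧ B e y ≠ 0 ∧ B x y ≠ 0 := by
      by_cases hey : B e y₁ = 0
      swap
      · exact ⟨y₁, hrv _ hy₁, h1, hey, h3⟩
      obtain ⟨y₂, hy₂, hey₂⟩ := hnz _ he0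
      obtain ⟨r, hr, hcard⟩ := hO.prime
      have h4 : 4 ≤ Fintype.card F := by
        rw [hcard]
        have h0 : 2 ≤ Nat.card F₀ := Finite.one_lt_card
        calc 4 = 2 ^ 2 := rfl
          _ ≤ Nat.card F₀ ^ 2 := Nat.pow_le_pow_left h0 2
          _ ≤ Nat.card F₀ ^ r := Nat.pow_le_pow_right (by omega) hr.two_le
      obtain ⟨t, -, ht⟩ : ∃ t ∈ (Finset.univ : Finset F),
          t ∉ ({0, -(B x' y₁ / B x' y₂), -(B x y₁ / B x y₂)} : Finset F) := by
        refine Finset.exists_mem_notMem_of_card_lt_card ?_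
        exact lt_of_le_of_lt Finset.card_le_three (by rw [Finset.card_univ]; omega)
      simp only [Finset.mem_insert, Finset.mem_singleton, not_or] at ht
      have hgen : ∀ z : ι → F, B z y₁ ≠ 0 → t ≠ -(B z y₁ / B z y₂) → B z (y₁ + t • y₂) ≠ 0 := by
        intro z hz ht' h0
        rw [map_add, map_smul, smul_eq_mul] at h0
        rcases eq_or_ne (B z y₂) 0 with h2 | h2
        · rw [h2, mul_zero, add_zero] at h0; exact hz h0
        · exact ht' (by rw [eq_neg_iff_add_eq_zero, ← div_self h2] at *; field_simp; linear_combination h0)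
      exact ⟨y₁ + t • y₂, hpair _ _ hy₁ hy₂ t, hgen _ h1 ht.2.1, by
        rw [map_add, map_smul, hey, zero_add, smul_eq_mul]; exact mul_ne_zero ht.1 hey₂, hgen _ h3 ht.2.2⟩
    have hz1 : x' + (1 : F) • y ∈ centres hO.alt X := add_smul_mem_centres ih hy hy1 1
    rw [one_smul] at hz1
    have hz2 : x' + y + c i • e ∈ centres hO.alt X := add_smul_mem_centres hz1 hec (by
      rw [map_add, LinearMap.add_apply, hxe, zero_add, hO.swap]
      exact neg_ne_zero.2 hy2) _
    have hz3 : x' + y + c i • e + (-1 : F) • y ∈ centres hO.alt X := add_smul_mem_centres hz2 hy (by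
      rw [show x' + y + c i • e = x + y by rw [hx]; abel, map_add, LinearMap.add_apply, hO.alt y, add_zero]
      exact hy3) _
    rwa [show x' + y + c i • e + (-1 : F) • y = x by rw [hx, neg_smul, one_smul]; abel] at hz3

/-- in the field of nine elements, a centre with isotropic real and imaginary parts gives a full rational root group -/
theorem full_of_iso (hO : OddOver F₀ B X) {i : F} (hi : i ^ 2 = -1) (hgenF : ∀ z : F, ∃ a ∈ F₀, ∃ b ∈ F₀, z = a + b * i)
    {a b : ι → F} (ha : RV F₀ a) (hb : RV F₀ b) (ha0 : a ≠ 0) (hn : b ∉ F ∙ a) (hab : B a b = 0)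
    (hT : Alt.tv hO.alt (a + i • b) 1 ∈ X) (h3 : ∀ z ∈ F₀, z = 0 ∨ z = 1 ∨ z = -1) : a ∈ centres hO.alt X := by
  have hK : cr hO.alt a b i ∈ X := by
    have e := tv_add_smul hO.alt hab i 1
    rw [one_mul, one_mul, hi] at e
    have := mul_mem (mul_mem (inv_mem (hO.rat a 1 ha F₀.one_mem)) hT) (inv_mem (hO.rat b (-1) hb (F₀.neg_mem F₀.one_mem)))
    rw [e] at this
    simpa [mul_assoc] using this
  obtain ⟨w, hw, hwa, hwb⟩ := hO.exists_dual2 ha hb ha0 hn F₀.zero_mem F₀.one_mem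
  have hk' : cr hO.alt a w 1 ∈ X :=
    mul_mem (mul_mem (hO.rat _ _ (ha.add hw) F₀.one_mem) (hO.rat _ _ ha (F₀.neg_mem F₀.one_mem)))
      (hO.rat _ _ hw (F₀.neg_mem F₀.one_mem))
  have haw : B a w = 0 := by rw [hO.swap, hwa, neg_zero]
  have e : cr hO.alt a w 1 * cr hO.alt a b i * (cr hO.alt a w 1)⁻¹ = cr hO.alt a b i * Alt.tv hO.alt a (-2 * i) := by
    rw [cr_conj hO.alt (cr_mem _ _ _ _)]
    refine LinearEquiv.ext fun x => ?_
    have hba : B b a = 0 := by rw [hO.swap, hab, neg_zero]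
    have hbw : B b w = -1 := by rw [hO.swap, hwb]
    have ea : cr hO.alt a w 1 a = a := by rw [cr_apply hO.alt haw, hO.alt a, haw]; simp
    have eb : cr hO.alt a w 1 b = b + (-1 : F) • a := by rw [cr_apply hO.alt haw, hba, hbw]; simp
    rw [ea, eb, cr_apply hO.alt (by simp [hab, hO.alt a]), LinearEquiv.mul_apply, cr_apply hO.alt hab, Alt.tv_apply]
    simp [hab, hO.alt a]
    module
  have hl : Alt.tv hO.alt a (-2 * i) ∈ X := by
    have := mul_mem (inv_mem hK) (mul_mem (mul_mem hk' hK) (inv_mem hk'))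
    rwa [e, inv_mul_cancel_left] at this
  have hl' : Alt.tv hO.alt a i ∈ X := by
    have h2 : (-2 : F) = 1 := by
      have h2' : (2 : F) ∈ F₀ := by rw [← one_add_one_eq_two]; exact F₀.add_mem F₀.one_mem F₀.one_mem
      rcases h3 2 h2' with e | e | e
      · exact absurd e hO.two
      · exact absurd e fun e => one_ne_zero (α := F) (by linear_combination e)
      · linear_combination -e
    rwa [h2, one_mul] at hl
  intro c
  obtain ⟨s, hs, t, ht, rfl⟩ := hgenF c
  rw [← Alt.tv_add]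
  refine mul_mem (hO.rat _ _ ha hs) ?_
  rcases h3 t ht with rfl | rfl | rfl
  · rw [zero_mul, Alt.tv_zero]; exact one_mem X
  · rwa [one_mul]
  · rw [neg_one_mul, ← Alt.tv_inv]; exact inv_mem hl'

/-- in the exceptional case some rational root group is full -/
theorem full_nine (hO : OddOver F₀ B X) (hι : 4 ≤ Fintype.card ι) (hc : Nat.card F₀ = 3) {i : F} (hi : i ^ 2 = -1)
    (hin : i ∉ F₀) {g : (ι → F) ≃ₗ[F] (ι → F)} (hg : g ∈ X) {v : ι → F} (hv : RV F₀ v) (hv0 : v ≠ 0)
    (hirr : ∀ w, RV F₀ w → g v ∉ F ∙ w) : ∃ w, RV F₀ w ∧ w ≠ 0 ∧ w ∈ centres hO.alt X := by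
  classical
  obtain ⟨r, hr, hcard⟩ := hO.prime
  have h3 : ∀ z ∈ F₀, z = 0 ∨ z = 1 ∨ z = -1 := fun z hz => by
    have hset : ({0, 1, -1} : Set F) = (F₀ : Set F) := Set.eq_of_subset_of_ncard_le (by
      rintro x (rfl | rfl | rfl)
      exacts [F₀.zero_mem, F₀.one_mem, F₀.neg_mem F₀.one_mem]) (by
      rw [← Nat.card_coe_set_eq]
      have : Nat.card (F₀ : Set F) = 3 := hc
      rw [this, Set.ncard_insert_of_notMem (by simp) (Set.toFinite _),
        Set.ncard_pair (fun e => hO.two (by linear_combination e))]) (Set.toFinite _)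
    exact (hset.ge hz : z ∈ ({0, 1, -1} : Set F))
  have hsum : ∀ a ∈ F₀, ∀ b ∈ F₀, a * a + b * b = 0 → b = 0 := fun a ha b hb e => by
    by_contra hb0
    refine hin ?_
    rcases mul_self_eq_mul_self_iff.1 (show (a / b) * (a / b) = i * i by
      rw [← sq i, hi, div_mul_div_comm, div_eq_iff (mul_ne_zero hb0 hb0)]; linear_combination e) with h | h
    · rw [← h]; exact F₀.div_mem ha hb
    · rw [← neg_neg i, ← h]; exact F₀.neg_mem (F₀.div_mem ha hb)
  let S : Subfield F :=
    { carrier := {z | ∃ a ∈ F₀, ∃ b ∈ F₀, z = a + b * i}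
      zero_mem' := ⟨0, F₀.zero_mem, 0, F₀.zero_mem, by simp⟩
      one_mem' := ⟨1, F₀.one_mem, 0, F₀.zero_mem, by simp⟩
      add_mem' := by
        rintro _ _ ⟨a, ha, b, hb, rfl⟩ ⟨c, hc, d, hd, rfl⟩
        exact ⟨a + c, F₀.add_mem ha hc, b + d, F₀.add_mem hb hd, by ring⟩
      neg_mem' := by
        rintro _ ⟨a, ha, b, hb, rfl⟩
        exact ⟨-a, F₀.neg_mem ha, -b, F₀.neg_mem hb, by ring⟩
      mul_mem' := by
        rintro _ _ ⟨a, ha, b, hb, rfl⟩ ⟨c, hc, d, hd, rfl⟩
        exact ⟨a * c - b * d, F₀.sub_mem (F₀.mul_mem ha hc) (F₀.mul_mem hb hd), a * d + b * c,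
          F₀.add_mem (F₀.mul_mem ha hd) (F₀.mul_mem hb hc), by linear_combination b * d * hi⟩
      inv_mem' := by
        rintro _ ⟨a, ha, b, hb, rfl⟩
        by_cases e : a * a + b * b = 0
        · have hb0 := hsum a ha b hb e
          subst hb0
          exact ⟨a⁻¹, F₀.inv_mem ha, 0, F₀.zero_mem, by simp⟩
        refine ⟨a / (a * a + b * b), F₀.div_mem ha (F₀.add_mem (F₀.mul_mem ha ha) (F₀.mul_mem hb hb)),
          -b / (a * a + b * b), F₀.div_mem (F₀.neg_mem hb) (F₀.add_mem (F₀.mul_mem ha ha) (F₀.mul_mem hb hb)),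
          inv_eq_of_mul_eq_one_right ?_⟩
        rw [div_mul_eq_mul_div, ← add_div, ← mul_div_assoc, div_eq_one_iff_eq e]
        linear_combination -(b * b) * hi }
  have hgenF : ∀ z : F, ∃ a ∈ F₀, ∃ b ∈ F₀, z = a + b * i := fun z => by
    rcases subfield_eq_or_top hr hcard (S := S) (fun x hx => ⟨x, hx, 0, F₀.zero_mem, by simp⟩) with h | h
    · exact absurd (h i ⟨0, F₀.zero_mem, 1, F₀.one_mem, by simp⟩) hin
    · exact h z
  choose ra hra rb hrb hz using hgenF
  set p := g v with hp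
  set a : ι → F := fun k => ra (p k) with had
  set b : ι → F := fun k => rb (p k) with hbd
  have hab : p = a + i • b := funext fun k => by
    simp only [Pi.add_apply, Pi.smul_apply, smul_eq_mul, had, hbd]; rw [mul_comm]; exact hz _
  have ha : RV F₀ a := fun k => hra _
  have hb : RV F₀ b := fun k => hrb _
  have hp0 : p ≠ 0 := fun e => hv0 (g.map_eq_zero_iff.1 e)
  have ha0 : a ≠ 0 := fun e => hirr b hb (by rw [hab, e, zero_add]; exact Submodule.smul_mem _ _ (Submodule.mem_span_singleton_self _))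
  have hn : b ∉ F ∙ a := fun h => by
    obtain ⟨c, hc'⟩ := Submodule.mem_span_singleton.1 h
    refine hirr a ha ?_
    rw [hab, ← hc']
    exact add_mem (Submodule.mem_span_singleton_self _) (Submodule.smul_mem _ _ (Submodule.smul_mem _ _ (Submodule.mem_span_singleton_self _)))
  have hcen : ∀ {h : (ι → F) ≃ₗ[F] (ι → F)}, h ∈ X → Alt.tv hO.alt (h p) 1 ∈ X := fun {h} hh => by
    rw [hp, ← LinearEquiv.mul_apply]
    exact hO.rat_centre (mul_mem hh hg) hv 1 F₀.one_mem
  have hgenF' : ∀ z : F, ∃ a ∈ F₀, ∃ b ∈ F₀, z = a + b * i := fun z => ⟨_, hra z, _, hrb z, hz z⟩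
  rcases h3 _ (hO.form _ _ ha hb) with hβ | hβ
  · refine ⟨a, ha, ha0, hO.full_of_iso hi hgenF' ha hb ha0 hn hβ ?_ h3⟩
    have := hcen (one_mem X)
    rwa [LinearEquiv.coe_one, id, hab] at this
  -- a hyperbolic pair and the orientation of the square root
  obtain ⟨j, f, hj, hjn, hf, hβ', hpj, hgenJ⟩ : ∃ (j : F) (f : ι → F), j ^ 2 = -1 ∧ j ∉ F₀ ∧ RV F₀ f ∧ B a f = 1 ∧
      p = a + j • f ∧ (∀ z : F, ∃ a ∈ F₀, ∃ b ∈ F₀, z = a + b * j) := by
    rcases hβ with hβ | hβ
    · exact ⟨i, b, hi, hin, hb, hβ, hab, hgenF'⟩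
    · refine ⟨-i, -b, by rw [neg_sq, hi], fun e => hin (by simpa using F₀.neg_mem e), hb.neg, by simp [hβ], ?_, fun z => ?_⟩
      · rw [hab, neg_smul_neg]
      · obtain ⟨s, hs, t, ht, e⟩ := hgenF' z
        exact ⟨s, hs, -t, F₀.neg_mem ht, by rw [e]; ring⟩
  obtain ⟨e₂, he₂, hea, hen⟩ := exists_avoid ![B a, B f] (by
    intro k; fin_cases k <;> intro l
    exacts [hO.form _ _ ha (rv_single l), hO.form _ _ hf (rv_single l)]) ![a] (by intro k; fin_cases k; exact ha) (by omega)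
  have hae : B a e₂ = 0 := hea 0
  have hfe : B f e₂ = 0 := hea 1
  have hfa : B f a = -1 := by rw [hO.swap, hβ']
  have he20 : e₂ ≠ 0 := fun e => hen (by rw [e]; exact zero_mem _)
  obtain ⟨f₀, hf₀, hf₀e⟩ := hO.exists_dual1 he₂ he20
  set f₂ : ι → F := -(f₀ - (B f₀ f) • a + (B f₀ a) • f) with hf2
  have hf₂ : RV F₀ f₂ := ((hf₀.sub (ha.smul (hO.form _ _ hf₀ hf))).add (hf.smul (hO.form _ _ hf₀ ha))).neg
  have h1 : B e₂ f₂ = 1 := by
    rw [hf2]; simp [hO.swap a e₂, hO.swap f e₂, hae, hfe, hO.swap f₀ e₂, hf₀e]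
  have h2 : B a f₂ = 0 := by
    rw [hf2]; simp [hO.alt a, hβ', hO.swap f₀ a]
  have h2' : B f f₂ = 0 := by
    rw [hf2]; simp [hO.alt f, hfa, hO.swap f₀ f]
  set d := -a - f + e₂ with hd
  set d' := -a + e₂ + f₂ with hd'
  set h := Alt.tv hO.alt d' 1 * Alt.tv hO.alt d (-1) with hhd
  have hhX : h ∈ X := mul_mem (hO.rat _ _ ((ha.neg.add he₂).add hf₂) F₀.one_mem)
    (hO.rat _ _ ((ha.neg.sub hf).add he₂) (F₀.neg_mem F₀.one_mem))
  have h2e : (2 : F) = -1 := by
    have h2' : (2 : F) ∈ F₀ := by rw [← one_add_one_eq_two]; exact F₀.add_mem F₀.one_mem F₀.one_mem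
    rcases h3 2 h2' with e | e | e
    · exact absurd e hO.two
    · exact absurd e fun e => one_ne_zero (α := F) (by linear_combination e)
    · exact e
  have hha : h a = -f + e₂ := by
    rw [hhd, hd, hd', LinearEquiv.mul_apply, Alt.tv_apply, Alt.tv_apply]
    simp [hO.alt a, hO.alt f, hO.alt e₂, hβ', hfa, hae, hfe, h1, h2, h2', hO.swap a e₂, hO.swap f e₂]
    module
  have hhf : h f = -f + f₂ := by
    rw [hhd, hd, hd', LinearEquiv.mul_apply, Alt.tv_apply, Alt.tv_apply]
    simp [hO.alt a, hO.alt f, hO.alt e₂, hβ', hfa, hae, hfe, h1, h2, h2', hO.swap a e₂, hO.swap f e₂]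
    match_scalars <;> first | linear_combination (0 : F) | linear_combination h2e | linear_combination -h2e
  set T := Alt.tv hO.alt p 1 with hT
  have hTX : T ∈ X := hO.rat_centre hg hv 1 F₀.one_mem
  set y₀ := e₂ + a + f with hy0
  set y₁ := a + f₂ with hy1
  have hTy : (T * h) p = y₀ + j • y₁ := by
    rw [LinearEquiv.mul_apply, hT, Alt.tv_apply, hpj, map_add, map_smul, hha, hhf, hy0, hy1]
    simp [hO.alt a, hO.alt f, hβ', hfa, hO.swap a e₂, hO.swap f e₂, hae, hfe, hO.swap a f₂, hO.swap f f₂, h2, h2']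
    match_scalars <;> grind
  refine ⟨y₀, (he₂.add ha).add hf, fun e => ?_, hO.full_of_iso hj hgenJ ((he₂.add ha).add hf) (ha.add hf₂) (fun e => ?_)
    (fun hm => ?_) ?_ ?_ h3⟩
  · have := congrArg (fun z => B a z) e
    simp [hy0, hae, hO.alt a, hβ'] at this
  · have := congrArg (fun z => B a z) e
    simp [hy0, hae, hO.alt a, hβ'] at this
  · obtain ⟨c, hc'⟩ := Submodule.mem_span_singleton.1 hm
    have e1 := congrArg (fun z => B e₂ z) hc'
    simp [hy0, hy1, hO.alt e₂, hO.swap a e₂, hO.swap f e₂, hae, hfe, h1] at e1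
  · simp [hy0, hy1, hO.alt a, hfa, hO.swap a e₂, hae, h1, h2, h2']
  · rw [← hTy]; exact hcen (mul_mem hTX hhX)

/-- an element outside the normaliser gives all transvections -/
theorem all_centres (hO : OddOver F₀ B X) (hι : 4 ≤ Fintype.card ι) (hout : ∃ g ∈ X, ¬ Ratty F₀ g) :
    ∀ x, x ∈ centres hO.alt X := by
  classical
  suffices h : ∃ w, RV F₀ w ∧ w ≠ 0 ∧ w ∈ centres hO.alt X by
    obtain ⟨w, hw, hw0, hwc⟩ := h
    exact hO.all_of_rational (hO.rational_full hw hw0 hwc)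
  obtain ⟨g, hg, hgr⟩ := hout
  obtain ⟨i₀⟩ : Nonempty ι := Fintype.card_pos_iff.1 (by omega)
  obtain ⟨v, hv, hv0, hirr⟩ : ∃ v, RV F₀ v ∧ v ≠ 0 ∧ ∀ w, RV F₀ w → g v ∉ F ∙ w := by
    by_contra! hc
    have hex : ∀ i, ∃ w, RV F₀ w ∧ ∃ a : F, g (Pi.single i 1) = a • w := fun i => by
      obtain ⟨w, hw, hm⟩ := hc _ (rv_single i) (fun h => by simpa using congrFun h i)
      obtain ⟨a, ha⟩ := Submodule.mem_span_singleton.1 hm
      exact ⟨w, hw, a, ha.symm⟩
    choose w hw a hwa using hex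
    have hne : ∀ i, a i ≠ 0 ∧ w i ≠ 0 := fun i => by
      have : g (Pi.single i 1) ≠ 0 := fun h => by simpa using congrFun (g.map_eq_zero_iff.1 h) i
      rw [hwa] at this
      exact smul_ne_zero_iff.1 this
    refine hgr ⟨(a i₀)⁻¹, inv_ne_zero (hne i₀).1, fun i => ?_⟩
    rw [hwa, smul_smul]
    refine (hw i).smul ?_
    rcases eq_or_ne i i₀ with rfl | hi
    · rw [inv_mul_cancel₀ (hne i).1]; exact F₀.one_mem
    have hn : w i ∉ F ∙ w i₀ := fun h => by
      obtain ⟨c, hc'⟩ := Submodule.mem_span_singleton.1 h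
      have e : g (Pi.single i 1) = g ((a i * c / a i₀) • Pi.single i₀ 1) := by
        rw [map_smul, hwa, hwa, ← hc', smul_smul, smul_smul, div_mul_cancel₀ _ (hne i₀).1]
      simpa [hi] using congrFun (g.injective e) i
    have hn' : w i₀ ∉ F ∙ w i := fun h => by
      obtain ⟨c, hc'⟩ := Submodule.mem_span_singleton.1 h
      have hc0 : c ≠ 0 := fun e => (hne i₀).2 (by rw [← hc', e, zero_smul])
      exact hn (Submodule.mem_span_singleton.2 ⟨c⁻¹, by rw [← hc', inv_smul_smul₀ hc0]⟩)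
    obtain ⟨u, hu, hum⟩ := hc _ ((rv_single i₀).add (rv_single i)) (fun h => by simpa [hi] using congrFun h i₀)
    obtain ⟨s, hs⟩ := Submodule.mem_span_singleton.1 hum
    rw [map_add, hwa, hwa] at hs
    obtain ⟨f₁, hf₁, h11, h10⟩ := exists_rf_one (hw i) (hw i₀) hn'
    obtain ⟨f₂, hf₂, h22, h20⟩ := exists_rf_one (hw i₀) (hw i) hn
    have e1 := congrArg f₁ hs
    have e2 := congrArg f₂ hs
    simp [h11, h10] at e1
    simp [h22, h20] at e2
    have hs0 : s ≠ 0 := fun e => (hne i₀).1 (by rw [← e1, e, zero_mul])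
    rw [← e1, ← e2, mul_inv, mul_mul_mul_comm, inv_mul_cancel₀ hs0, one_mul, ← div_eq_inv_mul]
    exact F₀.div_mem (hf₂.apply hu) (hf₁.apply hu)
  obtain ⟨u, hu, hμ⟩ : ∃ u, RV F₀ u ∧ B u (g v) ^ 2 ∉ F₀ := by
    by_contra! hc
    obtain ⟨k, hk⟩ : ∃ k, B (Pi.single k 1) (g v) ≠ 0 := by
      by_contra! h0
      refine hv0 (g.map_eq_zero_iff.1 (hO.nd _ fun x => ?_))
      rw [hO.swap, eq_sum_single x, map_sum, LinearMap.sum_apply]
      simp [h0]
    set b := B (Pi.single k 1) (g v) with hb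
    refine hirr (b⁻¹ • g v) (hO.rv_of_forms fun i => ?_)
      (Submodule.mem_span_singleton.2 ⟨b, by rw [smul_smul, mul_inv_cancel₀ hk, one_smul]⟩)
    have h1 := hc _ (rv_single k)
    have h2 := hc _ (rv_single i)
    have h3 := hc _ ((rv_single k).add (rv_single i))
    rw [map_add, LinearMap.add_apply, ← hb] at h3
    rw [← hb] at h1
    have h4 : b * B (Pi.single i 1) (g v) ∈ F₀ := by
      have h5 := F₀.div_mem (F₀.sub_mem (F₀.sub_mem h3 h1) h2) (F₀.add_mem F₀.one_mem F₀.one_mem)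
      convert h5 using 1
      rw [one_add_one_eq_two, eq_div_iff hO.two]; ring
    have h5 := F₀.div_mem h4 h1
    rw [map_smul, smul_eq_mul]
    convert h5 using 1
    field_simp
  by_cases he : Nat.card F₀ = 3 ∧ (B u (g v) ^ 2) ^ 2 = -1
  · exact hO.full_nine hι he.1 he.2 hμ hg hv hv0 hirr
  · refine ⟨u, hu, fun e => hμ (by rw [e]; simp), hO.plane (p := g v) (l := 1) (fun c hc => hO.rat _ _ hu hc)
      (fun c hc => by rw [mul_one]; exact hO.rat_centre hg hv c hc) (by rwa [one_mul]) (by rwa [one_mul])⟩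

end OddOver

/-- subfield groups -/
theorem maximal_subfield_odd {F : Type*} [Field F] [Fintype F] (h2 : (2 : F) ≠ 0) (F₀ : Subfield F) (r : ℕ) (hr : r.Prime)
    (hcard : Fintype.card F = Nat.card F₀ ^ r) (P : Matrix.GeneralLinearGroup (Fin 2 ⊕ Fin 2) F) (ζ : F) (hζ : ζ ≠ 0)
    (hP : Cfsg.Geo.IsFormRationalStructure (Cfsg.sympForm 2 F) F₀ ζ P) :
    Cfsg.Geo.IsMaximalIn (Cfsg.spGL 2 F) (Cfsg.Geo.subfieldSubgroup F₀ P ⊓ Cfsg.spGL 2 F) := by
  classical
  set e : (Fin 2 ⊕ Fin 2 → F) ≃ₗ[F] (Fin 2 ⊕ Fin 2 → F) := glEquiv (Fin 2 ⊕ Fin 2) F P with he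
  set B : LinearMap.BilinForm F (Fin 2 ⊕ Fin 2 → F) := ζ • (sympB 2 F).compl₁₂ e.toLinearMap e.toLinearMap with hBd
  have hB : ∀ x y, B x y = ζ * sympB 2 F (e x) (e y) := fun x y => rfl
  have hA : B.IsAlt := fun x => by rw [hB, sympB_isAlt, mul_zero]
  have hK : ∀ g, g ∈ Cfsg.Geo.subfieldSubgroup F₀ P ↔ Ratty F₀ (e⁻¹ * glEquiv (Fin 2 ⊕ Fin 2) F g * e) := fun g => by
    rw [he, ← map_inv, ← map_mul, ← map_mul, ← mem_ratScalar_iff, Cfsg.Geo.subfieldSubgroup, Subgroup.mem_map]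
    constructor
    · rintro ⟨y, hy, rfl⟩
      simpa [MulAut.conj_apply, mul_assoc] using hy
    · intro h
      exact ⟨_, h, by simp [MulAut.conj_apply, mul_assoc]⟩
  have htv : ∀ v c, e * Alt.tv hA v c * e⁻¹ = Alt.tv sympB_isAlt (e v) (c * ζ) := fun v c => LinearEquiv.ext fun x => by
    rw [LinearEquiv.mul_apply, LinearEquiv.mul_apply, Alt.tv_apply, Alt.tv_apply, hB, map_add, map_smul, apply_inv]
    ring_nf
  obtain ⟨l, hl⟩ : ∃ l, l ∉ F₀ := by
    by_contra! hc
    have h1 : Nat.card F₀ = Nat.card F := Nat.card_congr (Equiv.subtypeUnivEquiv hc)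
    have h0 : 1 < Nat.card F₀ := Finite.one_lt_card
    rw [Nat.card_eq_fintype_card (α := F), hcard] at h1
    have := Nat.pow_right_injective h0 ((pow_one _).trans h1)
    exact hr.ne_one this.symm
  have hform : ∀ u v, RV F₀ u → RV F₀ v → B u v ∈ F₀ := fun u v hu hv => by
    rw [hB, sympB_apply]
    exact hP u v hu hv
  refine isMaximalIn_spGL _ ?_ ?_
  · set i₀ : Fin 2 ⊕ Fin 2 := Sum.inl ⟨0, by omega⟩ with hi₀
    refine ⟨e (Pi.single i₀ 1), l * ζ, fun h => ?_⟩
    rw [hK, MulEquiv.apply_symm_apply, ← htv] at h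
    rw [show e⁻¹ * (e * Alt.tv hA (Pi.single i₀ 1) l * e⁻¹) * e = Alt.tv hA (Pi.single i₀ 1) l by group] at h
    obtain ⟨b, hb, hbr⟩ := h
    obtain ⟨j, hj⟩ : ∃ j, B (Pi.single j 1) (Pi.single i₀ 1) ≠ 0 := by
      by_contra! hc
      have h0 : e (Pi.single i₀ 1) = 0 := sympB_nondeg.2 _ fun y => by
        have h1 : B (e⁻¹ y) (Pi.single i₀ 1) = 0 := by
          rw [eq_sum_single (e⁻¹ y), map_sum, LinearMap.sum_apply]
          simp [hc]
        rw [hB, apply_inv] at h1
        exact (mul_eq_zero.1 h1).resolve_left hζ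
      have := congrFun (e.map_eq_zero_iff.1 h0) i₀
      simp at this
    obtain ⟨k, hki, hkj⟩ : ∃ k, k ≠ i₀ ∧ k ≠ j := by
      by_contra! hc
      have := Finset.card_le_card (s := Finset.univ) (t := {i₀, j}) fun k _ => by
        by_cases h : k = i₀ <;> simp [h]; exact hc k h
      have h2 := Finset.card_le_two (a := i₀) (b := j)
      simp at this h2
      omega
    have hji : j ≠ i₀ := fun h => hj (by rw [h]; exact hA _)
    have h1 := hbr k k
    have h2' := hbr j i₀
    simp [Alt.tv_apply, hki] at h1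
    simp [Alt.tv_apply, hji.symm] at h2'
    have h3 := F₀.div_mem h2' (F₀.mul_mem h1 (hform _ _ (rv_single j) (rv_single i₀)))
    refine hl (by convert h3 using 1; field_simp)
  · intro M hM hout
    let X : Subgroup ((Fin 2 ⊕ Fin 2 → F) ≃ₗ[F] (Fin 2 ⊕ Fin 2 → F)) :=
      M.comap (MulAut.conj e).toMonoidHom ⊓ Alt.isoGroup B
    have hiso : ∀ x, x ∈ Alt.isoGroup B ↔ e * x * e⁻¹ ∈ Alt.isoGroup (sympB 2 F) := fun x => by
      constructor
      · intro h u v
        have h1 := h (e⁻¹ u) (e⁻¹ v)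
        rw [hB, hB, apply_inv, apply_inv] at h1
        exact mul_left_cancel₀ hζ h1
      · intro h u v
        have h1 := h (e u) (e v)
        simp only [LinearEquiv.mul_apply, inv_apply] at h1
        rw [hB, hB, h1]
    have hO : OddOver F₀ B X := by
      refine ⟨hA, h2, fun x hx => e.map_eq_zero_iff.1 (sympB_nondeg.1 _ fun y => ?_), hform, by simp, ⟨r, hr, hcard⟩,
        inf_le_right, fun v c hv hc => ⟨?_, Alt.tv_mem_isoGroup _ _ _⟩⟩
      · have := hx (e⁻¹ y)
        rw [hB, apply_inv] at this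
        exact (mul_eq_zero.1 this).resolve_left hζ
      · show e * Alt.tv hA v c * e⁻¹ ∈ M
        refine hM _ ((hiso _).1 (Alt.tv_mem_isoGroup _ _ _)) ?_
        rw [hK, MulEquiv.apply_symm_apply, show e⁻¹ * (e * Alt.tv hA v c * e⁻¹) * e = Alt.tv hA v c by group]
        refine ⟨1, one_ne_zero, fun i => ?_⟩
        rw [one_smul, Alt.tv_apply]
        exact (rv_single i).add (hv.smul (F₀.mul_mem hc (hform _ _ (rv_single i) hv)))
    obtain ⟨g, hg, hgi, hgK⟩ := hout
    have hall := hO.all_centres (by simp) ⟨e⁻¹ * g * e, ⟨by show e * (e⁻¹ * g * e) * e⁻¹ ∈ M; simpa [mul_assoc] using hg,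
      (hiso _).2 (by simpa [mul_assoc] using hgi)⟩, fun h => hgK ((hK _).2 (by rwa [MulEquiv.apply_symm_apply]))⟩
    intro w c
    have h1 : e * Alt.tv hA (e⁻¹ w) (c / ζ) * e⁻¹ ∈ M := (hall (e⁻¹ w) (c / ζ)).1
    rwa [htv, apply_inv, div_mul_cancel₀ _ hζ] at h1

end Cfsg.Agent.ClassicalMax.Sp4
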