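import Cfsg.Agent.ClassicalMax.Sp4.Rational
import Cfsg.Prelude.Def_GeometricClasses

/-!
Subfield groups in four-dimensional symplectic groups in characteristic two are maximal.
-/

set_option autoImplicit false
set_option linter.unusedSectionVars false
set_option linter.style.haveILetI false

namespace Cfsg.Agent.ClassicalMax.Sp4

open Module Cfsg.Agent.Classical Cfsg.Agent.ClassicalMax Cfsg.Agent.ClassicalMax.Subfield

/-- a finite subfield of prime index has no proper overfield but the whole -/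
theorem subfield_eq_or_top {F : Type*} [Field F] [Fintype F] {F₀ S : Subfield F} {r : ℕ} (hr : r.Prime)
    (hcard : Fintype.card F = Nat.card F₀ ^ r) (hle : F₀ ≤ S) : (∀ x ∈ S, x ∈ F₀) ∨ ∀ x, x ∈ S := by
  letI : Algebra F₀ S := (Subfield.inclusion hle).toAlgebra
  haveI : IsScalarTower F₀ S F := IsScalarTower.of_algebraMap_eq fun _ => rfl
  have h0 : 1 < Nat.card F₀ := Finite.one_lt_card
  have hrk : finrank F₀ F = r := by
    have := Module.natCard_eq_pow_finrank (K := F₀) (V := F)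
    rw [Nat.card_eq_fintype_card, hcard] at this
    exact (Nat.pow_right_injective h0 this).symm
  have htow := Module.finrank_mul_finrank F₀ S F
  rw [hrk] at htow
  rcases (Nat.dvd_prime hr).1 (Dvd.intro _ htow) with h1 | h1
  · refine Or.inl ?_
    have hS : Nat.card S = Nat.card F₀ := by
      rw [Module.natCard_eq_pow_finrank (K := F₀) (V := S), h1, pow_one]
    have : (F₀ : Set F) = (S : Set F) := Set.eq_of_subset_of_ncard_le hle
      (by rw [← Nat.card_coe_set_eq, ← Nat.card_coe_set_eq]; exact hS.le)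
    exact fun x hx => this.ge hx
  · refine Or.inr ?_
    have h2 : finrank S F = 1 := by
      rw [h1] at htow
      exact Nat.eq_of_mul_eq_mul_left hr.pos (by rw [mul_one]; exact htow)
    have hSF : (S : Set F) = Set.univ := Set.eq_of_subset_of_ncard_le (Set.subset_univ _) (by
      rw [Set.ncard_univ, ← Nat.card_coe_set_eq, Module.natCard_eq_pow_finrank (K := S) (V := F), h2, pow_one]
      exact le_rfl)
    exact Set.eq_univ_iff_forall.1 hSF

variable {ι : Type} [Fintype ι] [DecidableEq ι] {F : Type*} [Field F] [Fintype F] {F₀ : Subfield F}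
  {B : LinearMap.BilinForm F (ι → F)} {X : Subgroup ((ι → F) ≃ₗ[F] (ι → F))}

namespace EvenOver

theorem exists_move (hO : EvenOver F₀ B X) {v w : ι → F} (hv : RV F₀ v) (hw : RV F₀ w) (hv0 : v ≠ 0) (hw0 : w ≠ 0) :
    ∃ g ∈ X, g v = w := by
  have key : ∀ {v w : ι → F}, RV F₀ v → RV F₀ w → B v w ≠ 0 → ∃ g ∈ X, g v = w := by
    intro v w hv hw h
    refine ⟨_, hO.rat (v + w) (B v w)⁻¹ (hv.add hw) (F₀.inv_mem (hO.form _ _ hv hw)), ?_⟩
    rw [Alt.tv_apply, map_add, hO.alt v, zero_add, inv_mul_cancel₀ h, one_smul, ← add_assoc, hO.vself, zero_add]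
  by_cases h : B v w = 0
  swap
  · exact key hv hw h
  obtain ⟨a, ha, hva⟩ := hO.exists_partner hv hv0
  obtain ⟨b, hb, hwb⟩ := hO.exists_partner hw hw0
  obtain ⟨c, hc, h1, h2⟩ : ∃ c, RV F₀ c ∧ B v c ≠ 0 ∧ B c w ≠ 0 := by
    by_cases h1 : B v b = 0
    · by_cases h2 : B w a = 0
      · exact ⟨a + b, ha.add hb, by rw [map_add, hva, h1, add_zero]; exact one_ne_zero,
          by rw [hO.symm, map_add, h2, hwb, zero_add]; exact one_ne_zero⟩
      · exact ⟨a, ha, by rw [hva]; exact one_ne_zero, by rwa [hO.symm]⟩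
    · exact ⟨b, hb, h1, by rw [hO.symm, hwb]; exact one_ne_zero⟩
  obtain ⟨g, hg, hgv⟩ := key hv hc h1
  obtain ⟨g', hg', hgc⟩ := key hc hw h2
  exact ⟨g' * g, mul_mem hg' hg, by rw [LinearEquiv.mul_apply, hgv, hgc]⟩

/-- the parameters of transvections with rational centres -/
def C (hO : EvenOver F₀ B X) : Set F := {c | ∀ v, RV F₀ v → Alt.tv hO.alt v c ∈ X}

theorem C_of (hO : EvenOver F₀ B X) {v : ι → F} (hv : RV F₀ v) (hv0 : v ≠ 0) {c : F}
    (h : Alt.tv hO.alt v c ∈ X) : c ∈ hO.C := by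
  intro w hw
  rcases eq_or_ne w 0 with rfl | hw0
  · have : Alt.tv hO.alt (0 : ι → F) c = 1 := LinearEquiv.ext fun x => by simp [Alt.tv_apply]
    rw [this]; exact one_mem X
  obtain ⟨g, hg, rfl⟩ := hO.exists_move hv hw hv0 hw0
  rw [← Alt.conj_tv hO.alt (hO.iso hg)]
  exact conj_mem hg h

theorem pair_exists (hO : EvenOver F₀ B X) : ∃ v w e f : ι → F, RV F₀ v ∧ RV F₀ w ∧ RV F₀ e ∧ RV F₀ f ∧ B v w = 1 ∧
    B e f = 1 ∧ B v e = 0 ∧ B w e = 0 ∧ B v f = 0 ∧ B w f = 0 := by
  obtain ⟨i⟩ : Nonempty ι := Fintype.card_pos_iff.1 (by rw [hO.card]; omega)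
  obtain ⟨w, hw, hvw⟩ := hO.exists_partner (rv_single (F₀ := F₀) i) (fun h => by simpa using congrFun h i)
  obtain ⟨e, f, he, hf, hef, h1, h2, h3, h4⟩ := hO.exists_pair (rv_single i) hw hvw
  exact ⟨_, w, e, f, rv_single i, hw, he, hf, hvw, hef, h1, h2, h3, h4⟩

theorem C_cross (hO : EvenOver F₀ B X) {c : F} (hc : c ∈ hO.C) {u e : ι → F} (h : Pair F₀ B u e) :
    el hO.alt u e 0 0 c ∈ X := by
  have h1 := hc _ (h.ru.add h.re)
  rw [← one_smul F u, ← one_smul F e, tv_el hO.alt h.orth] at h1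
  have h2 : el hO.alt u e c c 0 ∈ X := by
    rw [el, show cr hO.alt u e (0 : F) = 1 by simp [cr, Alt.tv_zero], mul_one]
    exact mul_mem (hc _ h.ru) (hc _ h.re)
  have h3 := mul_mem h2 h1
  rw [el_add hO.alt h.orth] at h3
  simpa [hO.self_add] using h3

/-- every parameter occurs -/
theorem C_univ (hO : EvenOver F₀ B X) {r : ℕ} (hr : r.Prime) (hcard : Fintype.card F = Nat.card F₀ ^ r)
    (hout : ∃ g ∈ X, ¬ Ratty F₀ g) (c : F) : c ∈ hO.C := by
  classical
  have h0C : ∀ a ∈ F₀, a ∈ hO.C := fun a ha v hv => hO.rat v a hv ha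
  obtain ⟨l, hl, hlF⟩ : ∃ l ∈ hO.C, l ∉ F₀ := by
    by_contra hC
    push Not at hC
    have hS : Strict F₀ B X := ⟨hO, fun v c hv hv0 h => hC c (hO.C_of hv hv0 h)⟩
    obtain ⟨g, hg, hgr⟩ := hout
    exact hgr ⟨1, one_ne_zero, fun i => by rw [one_smul]; exact hS.all_rat g hg _ (rv_single i)⟩
  have hadd : ∀ a b, a ∈ hO.C → b ∈ hO.C → a + b ∈ hO.C := fun a b ha hb v hv => by
    rw [← Alt.tv_add]
    exact mul_mem (ha v hv) (hb v hv)
  have hscal : ∀ a ∈ F₀, ∀ b ∈ hO.C, a * b ∈ hO.C := fun a ha b hb v hv => by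
    obtain ⟨y, hy⟩ := FiniteField.isSquare_of_char_two
      (CharP.ringChar_of_prime_eq_zero Nat.prime_two hO.two : ringChar F = 2) a
    rw [← sq] at hy
    rw [hy, ← Alt.tv_smul]
    exact hb _ (hv.smul (hO.mem_of_sq (by rw [← hy]; exact ha)))
  obtain ⟨v, w, e, f, hv, hw, he, hf, hvw, hef, hve, hwe, hvf, hwf⟩ := hO.pair_exists
  have hv0 : v ≠ 0 := fun h => by rw [h, map_zero] at hvw; exact zero_ne_one hvw
  have he0 : e ≠ 0 := fun h => by rw [h, map_zero] at hef; exact zero_ne_one hef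
  have hp : Pair F₀ B v e := pair_of hO hv he hve (fun hm => by
    obtain ⟨s, hs⟩ := Submodule.mem_span_singleton.1 hm
    rw [← hs, map_smul, LinearMap.smul_apply, hO.symm e w, hwe, smul_zero] at hvw
    exact zero_ne_one hvw) he0
  -- cross parameters are parameters
  have hD : ∀ {u x : ι → F}, Pair F₀ B u x → ∀ {d : F}, el hO.alt u x 0 0 d ∈ X → d ∈ hO.C := by
    let D : Set F := {d | ∃ u x : ι → F, Pair F₀ B u x ∧ el hO.alt u x 0 0 d ∈ X}
    have hsub : hO.C ⊆ D := fun a ha => ⟨v, e, hp, hO.C_cross ha hp⟩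
    have hle : D.ncard ≤ hO.C.ncard := Set.ncard_le_ncard_of_injOn (fun d => d ^ 2) (by
      rintro d ⟨u, x, h, hd⟩
      have := hO.tv_sq_mem h hd
      rw [zero_add] at this
      exact hO.C_of h.ru (fun e' => h.nu (by rw [e']; exact zero_mem _)) this) (by
      intro a _ b _ hab
      have h3 : (a - b) ^ 2 = 0 := by
        have : a ^ 2 = b ^ 2 := hab
        linear_combination this + (b * b - a * b) * hO.two
      exact sub_eq_zero.1 (pow_eq_zero_iff (n := 2) (by norm_num) |>.1 h3))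
    have heq := Set.eq_of_subset_of_ncard_le hsub hle
    intro u x h d hd
    rw [heq]
    exact ⟨u, x, h, hd⟩
  have hquad : ∀ a ∈ hO.C, ∀ b ∈ hO.C, a * (b ^ 2 + b) ∈ hO.C := fun a ha b hb => by
    have hp' : Pair F₀ B w e := pair_of hO hw he hwe (fun hm => by
      obtain ⟨s, hs⟩ := Submodule.mem_span_singleton.1 hm
      rw [← hs, map_smul, hve, smul_zero] at hvw
      exact zero_ne_one hvw) he0
    have hg := hO.C_cross hb hp
    rw [el_cr] at hg
    have h1 := conj_mem hg (ha w hw)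
    rw [Alt.conj_tv hO.alt (hO.iso hg), cr_apply hO.alt hve, hwe, mul_zero, zero_smul, add_zero, hO.symm w v, hvw,
      mul_one, ← one_smul F w, tv_el hO.alt hwe] at h1
    have h2 := mul_mem (ha w hw) h1
    rw [← el_long hO.alt w e a, el_add hO.alt hwe, el_comm hO.alt hwe] at h2
    simp only [one_pow, mul_one, hO.self_add, zero_add] at h2
    have h3 := hD (hp'.swap hO) (hO.el_sum_mem (hp'.swap hO) h2)
    rwa [mul_add]
  let M : Subfield F :=
    { carrier := {m | ∀ a ∈ hO.C, m * a ∈ hO.C}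
      mul_mem' := fun {x y} hx hy a ha => by rw [mul_assoc]; exact hx _ (hy a ha)
      one_mem' := fun a ha => by rwa [one_mul]
      add_mem' := fun {x y} hx hy a ha => by rw [add_mul]; exact hadd _ _ (hx a ha) (hy a ha)
      zero_mem' := fun a _ => by rw [zero_mul]; exact h0C _ F₀.zero_mem
      neg_mem' := fun {x} hx a ha => by rw [hO.neg_eq]; exact hx a ha
      inv_mem' := fun x hx => by
        rcases eq_or_ne x 0 with rfl | h0
        · rw [inv_zero]; exact hx
        have hpow : ∀ n : ℕ, ∀ a ∈ hO.C, x ^ n * a ∈ hO.C := fun n => by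
          induction n with
          | zero => intro a ha; rwa [pow_zero, one_mul]
          | succ n ih => intro a ha; rw [pow_succ, mul_assoc]; exact ih _ (hx a ha)
        have : x⁻¹ = x ^ (Fintype.card F - 2) := by
          refine inv_eq_of_mul_eq_one_right ?_
          rw [← pow_succ', show Fintype.card F - 2 + 1 = Fintype.card F - 1 by
            have := Fintype.one_lt_card (α := F); omega, FiniteField.pow_card_sub_one_eq_one x h0]
        rw [this]; exact hpow _ }
  rcases subfield_eq_or_top hr hcard (S := M) (fun a ha b hb => hscal a ha b hb) with hM | hM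
  swap
  · have := hM c 1 (h0C 1 F₀.one_mem)
    rwa [mul_one] at this
  exfalso
  have hq : ∀ b ∈ hO.C, b ^ 2 + b ∈ F₀ := fun b hb => hM _ fun a ha => by rw [mul_comm]; exact hquad a ha b hb
  by_cases hbig : ∃ s ∈ F₀, s ≠ 0 ∧ s ≠ 1
  · obtain ⟨s, hs, hs0, hs1⟩ := hbig
    have h1 := F₀.sub_mem (hq _ (hscal s hs l hl)) (F₀.mul_mem hs (hq l hl))
    rw [show (s * l) ^ 2 + s * l - s * (l ^ 2 + l) = s * (s - 1) * l ^ 2 by ring] at h1
    have h2 := F₀.mul_mem (F₀.inv_mem (F₀.mul_mem hs (F₀.sub_mem hs F₀.one_mem))) h1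
    rw [← mul_assoc, inv_mul_cancel₀ (mul_ne_zero hs0 (sub_ne_zero.2 hs1)), one_mul] at h2
    exact hlF (hO.mem_of_sq h2)
  push Not at hbig
  have hroot : ∀ b ∈ hO.C, b ∉ F₀ → b ^ 2 + b = 1 := fun b hb hbF => hbig _ (hq b hb) fun e' => hbF (by
    have : b * (b + 1) = 0 := by linear_combination e'
    rcases mul_eq_zero.1 this with h' | h'
    · rw [h']; exact F₀.zero_mem
    · rw [eq_neg_of_add_eq_zero_left h']; exact F₀.neg_mem F₀.one_mem)
  have hl2 : l ^ 2 + l = 1 := hroot l hl hlF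
  refine hlF (hM l fun a ha => ?_)
  by_cases haF : a ∈ F₀
  · rw [mul_comm]; exact hscal a haF l hl
  have e' : (a + l) * (a + l + 1) = 0 := by linear_combination hroot a ha haF + hl2 + (a * l + 1) * hO.two
  rcases mul_eq_zero.1 e' with h' | h'
  · rw [show a = l by linear_combination h' - l * hO.two]
    rw [show l * l = l + 1 by linear_combination hl2 - l * hO.two]
    exact hadd _ _ hl (h0C 1 F₀.one_mem)
  · rw [show a = l + 1 by linear_combination h' - (l + 1) * hO.two]
    rw [show l * (l + 1) = 1 by linear_combination hl2]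
    exact h0C 1 F₀.one_mem

/-- every vector is a centre -/
theorem all_centres (hO : EvenOver F₀ B X) {r : ℕ} (hr : r.Prime) (hcard : Fintype.card F = Nat.card F₀ ^ r)
    (hout : ∃ g ∈ X, ¬ Ratty F₀ g) : ∀ x, x ∈ centres hO.alt X := by
  classical
  have hC := hO.C_univ hr hcard hout
  obtain ⟨v, w, e, f, hv, hw, he, hf, hvw, hef, hve, hwe, hvf, hwf⟩ := hO.pair_exists
  have hrv : ∀ u, RV F₀ u → u ∈ centres hO.alt X := fun u hu c => hC c u hu
  have hpair : ∀ a b, RV F₀ a → RV F₀ b → ∀ s t : F, s • a + t • b ∈ centres hO.alt X := fun a b ha hb s t => by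
    by_cases hab : B (s • a) b = 0
    swap
    · exact add_smul_mem_centres (smul_mem_centres (hrv a ha) s) (hrv b hb) hab t
    rcases eq_or_ne s 0 with rfl | hs
    · rw [zero_smul, zero_add]; exact smul_mem_centres (hrv b hb) t
    rw [map_smul, LinearMap.smul_apply, smul_eq_mul] at hab
    have h0 := (mul_eq_zero.1 hab).resolve_left hs
    rcases eq_or_ne b 0 with rfl | hb0
    · rw [smul_zero, add_zero]; exact smul_mem_centres (hrv a ha) s
    by_cases hm : a ∈ F ∙ b
    · obtain ⟨k, rfl⟩ := Submodule.mem_span_singleton.1 hm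
      rw [smul_smul, ← add_smul]
      exact smul_mem_centres (hrv b hb) _
    intro c
    rw [tv_el hO.alt h0, el, ← el_cr]
    exact mul_mem (mul_mem (hC _ a ha) (hC _ b hb)) (hO.C_cross (hC _) (pair_of hO ha hb h0 hm hb0))
  have hthree : ∀ a b c, RV F₀ a → RV F₀ b → RV F₀ c → B b c = 1 → B a c = 0 → ∀ s t u : F,
      s • a + t • b + u • c ∈ centres hO.alt X := fun a b c ha hb hc hbc hac s t u => by
    rcases eq_or_ne t 0 with rfl | ht
    · rw [zero_smul, add_zero]; exact hpair a c ha hc s u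
    exact add_smul_mem_centres (hpair a b ha hb s t) (hrv c hc) (by simp [hac, hbc, ht]) u
  intro x
  set al := B x w
  set ga := B x v
  set be := B x f
  set de := B x e
  set y := x + (al • v + ga • w + be • e + de • f) with hy
  have hwv : B w v = 1 := by rw [hO.symm, hvw]
  have hfe : B f e = 1 := by rw [hO.symm, hef]
  have hev := hO.symm e v
  have hew := hO.symm e w
  have hfv := hO.symm f v
  have hfw := hO.symm f w
  rw [hve] at hev
  rw [hwe] at hew
  rw [hvf] at hfv
  rw [hwf] at hfw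
  have h0 : ∀ i : Fin 4, B y (![v, w, e, f] i) = 0 := fun i => by
    fin_cases i <;>
      simp [y, al, ga, be, de, hvw, hwv, hef, hfe, hve, hwe, hvf, hwf, hev, hew, hfv, hfw, hO.alt v, hO.alt w, hO.alt e,
        hO.alt f, hO.self_add]
  have hli : LinearIndependent F ![v, w, e, f] := by
    rw [Fintype.linearIndependent_iff]
    intro g hg
    rw [Fin.sum_univ_four] at hg
    replace hg : g 0 • v + g 1 • w + g 2 • e + g 3 • f = 0 := hg
    have := congrArg (fun z => B z v) hg
    have h1 := congrArg (fun z => B z w) hg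
    have h2 := congrArg (fun z => B z e) hg
    have h3 := congrArg (fun z => B z f) hg
    simp [hvw, hwv, hef, hfe, hve, hwe, hvf, hwf, hev, hew, hfv, hfw, hO.alt v, hO.alt w, hO.alt e, hO.alt f] at this h1 h2 h3
    intro i
    fin_cases i <;> assumption
  have hy0 : y = 0 := hO.nd _ fun z => by
    have hz : z ∈ Submodule.span F (Set.range ![v, w, e, f]) := by
      rw [hli.span_eq_top_of_card_eq_finrank' (by rw [Fintype.card_fin, finrank_fintype_fun_eq_card, hO.card])]
      trivial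
    obtain ⟨g, rfl⟩ := (Submodule.mem_span_range_iff_exists_fun _).1 hz
    rw [map_sum]
    exact Finset.sum_eq_zero fun i _ => by rw [map_smul, h0, smul_zero]
  have hx : x = be • e + al • v + ga • w + de • f := by
    have : x = al • v + ga • w + be • e + de • f := by
      rw [← add_zero x, ← hO.vself (al • v + ga • w + be • e + de • f), ← add_assoc, ← hy, hy0, zero_add]
    rw [this]
    abel
  rw [hx]
  by_cases hbe : be = 0
  · rw [hbe, zero_smul, zero_add]
    have := hthree f v w hf hv hw hvw hfw de al ga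
    convert this using 1
    abel
  · exact add_smul_mem_centres (hthree e v w he hv hw hvw hew be al ga) (hrv f hf)
      (by simpa [hvf, hwf, hef] using hbe) de

end EvenOver

/-- subfield groups -/
theorem maximal_subfield {F : Type*} [Field F] [Fintype F] (h2 : (2 : F) = 0) (F₀ : Subfield F) (r : ℕ) (hr : r.Prime)
    (hcard : Fintype.card F = Nat.card F₀ ^ r) (P : Matrix.GeneralLinearGroup (Fin 2 ⊕ Fin 2) F) (ζ : F) (hζ : ζ ≠ 0)
    (hP : Cfsg.Geo.IsFormRationalStructure (Cfsg.sympForm 2 F) F₀ ζ P) :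
    Cfsg.Geo.IsMaximalIn (Cfsg.spGL 2 F) (Cfsg.Geo.subfieldSubgroup F₀ P ⊓ Cfsg.spGL 2 F) := by
  classical
  set e : (Fin 2 ⊕ Fin 2 → F) ≃ₗ[F] (Fin 2 ⊕ Fin 2 → F) := glEquiv (Fin 2 ⊕ Fin 2) F P with he
  set B : LinearMap.BilinForm F (Fin 2 ⊕ Fin 2 → F) := ζ • (sympB 2 F).compl₁₂ e.toLinearMap e.toLinearMap with hBd
  have hB : ∀ x y, B x y = ζ * sympB 2 F (e x) (e y) := fun x y => rfl
  have hA : B.IsAlt := fun x => by rw [hB, sympB_isAlt, mul_zero]
  have hK : ∀ g, g ∈ Cfsg.Geo.subfieldSubgroup F₀ P ↔ Ratty F₀ (e⁻¹ * glEquiv (Fin 2 ⊕ Fin 2) F g * e) := fun g => by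
    rw [he, ← map_inv, ← map_mul, ← map_mul, ← mem_ratScalar_iff, Cfsg.Geo.subfieldSubgroup, Subgroup.mem_map]
    constructor
    · rintro ⟨y, hy, rfl⟩
      simpa [MulAut.conj_apply, mul_assoc] using hy
    · intro h
      exact ⟨_, h, by simp [MulAut.conj_apply, mul_assoc]⟩
  have htv : ∀ v c, e * Alt.tv hA v c * e⁻¹ = Alt.tv sympB_isAlt (e v) (c * ζ) := fun v c => LinearEquiv.ext fun x => by
    rw [LinearEquiv.mul_apply, LinearEquiv.mul_apply, Alt.tv_apply, Alt.tv_apply, hB, map_add, map_smul, apply_inv]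
    ring_nf
  obtain ⟨l, hl⟩ : ∃ l, l ∉ F₀ := by
    by_contra! hc
    have h1 : Nat.card F₀ = Nat.card F := Nat.card_congr (Equiv.subtypeUnivEquiv hc)
    have h0 : 1 < Nat.card F₀ := Finite.one_lt_card
    rw [Nat.card_eq_fintype_card (α := F), hcard] at h1
    have := Nat.pow_right_injective h0 ((pow_one _).trans h1)
    exact hr.ne_one this.symm
  have hform : ∀ u v, RV F₀ u → RV F₀ v → B u v ∈ F₀ := fun u v hu hv => by
    rw [hB, sympB_apply]
    exact hP u v hu hv
  refine isMaximalIn_spGL _ ?_ ?_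
  · set i₀ : Fin 2 ⊕ Fin 2 := Sum.inl ⟨0, by omega⟩ with hi₀
    refine ⟨e (Pi.single i₀ 1), l * ζ, fun h => ?_⟩
    rw [hK, MulEquiv.apply_symm_apply, ← htv] at h
    rw [show e⁻¹ * (e * Alt.tv hA (Pi.single i₀ 1) l * e⁻¹) * e = Alt.tv hA (Pi.single i₀ 1) l by group] at h
    obtain ⟨b, hb, hbr⟩ := h
    obtain ⟨j, hj⟩ : ∃ j, B (Pi.single j 1) (Pi.single i₀ 1) ≠ 0 := by
      by_contra! hc
      have h0 : e (Pi.single i₀ 1) = 0 := sympB_nondeg.2 _ fun y => by
        have h1 : B (e⁻¹ y) (Pi.single i₀ 1) = 0 := by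
          rw [eq_sum_single (e⁻¹ y), map_sum, LinearMap.sum_apply]
          simp [hc]
        rw [hB, apply_inv] at h1
        exact (mul_eq_zero.1 h1).resolve_left hζ
      have := congrFun (e.map_eq_zero_iff.1 h0) i₀
      simp at this
    obtain ⟨k, hki, hkj⟩ : ∃ k, k ≠ i₀ ∧ k ≠ j := by
      by_contra! hc
      have := Finset.card_le_card (s := Finset.univ) (t := {i₀, j}) fun k _ => by
        by_cases h : k = i₀ <;> simp [h]; exact hc k h
      have h2 := Finset.card_le_two (a := i₀) (b := j)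
      simp at this h2
      omega
    have hji : j ≠ i₀ := fun h => hj (by rw [h]; exact hA _)
    have h1 := hbr k k
    have h2' := hbr j i₀
    simp [Alt.tv_apply, hki] at h1
    simp [Alt.tv_apply, hji.symm] at h2'
    have h3 := F₀.div_mem h2' (F₀.mul_mem h1 (hform _ _ (rv_single j) (rv_single i₀)))
    refine hl (by convert h3 using 1; field_simp)
  · intro M hM hout
    let X : Subgroup ((Fin 2 ⊕ Fin 2 → F) ≃ₗ[F] (Fin 2 ⊕ Fin 2 → F)) :=
      M.comap (MulAut.conj e).toMonoidHom ⊓ Alt.isoGroup B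
    have hiso : ∀ x, x ∈ Alt.isoGroup B ↔ e * x * e⁻¹ ∈ Alt.isoGroup (sympB 2 F) := fun x => by
      constructor
      · intro h u v
        have h1 := h (e⁻¹ u) (e⁻¹ v)
        rw [hB, hB, apply_inv, apply_inv] at h1
        exact mul_left_cancel₀ hζ h1
      · intro h u v
        have h1 := h (e u) (e v)
        simp only [LinearEquiv.mul_apply, inv_apply] at h1
        rw [hB, hB, h1]
    have hO : EvenOver F₀ B X := by
      refine ⟨hA, h2, fun x hx => e.map_eq_zero_iff.1 (sympB_nondeg.1 _ fun y => ?_), hform, by simp,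
        inf_le_right, fun v c hv hc => ⟨?_, Alt.tv_mem_isoGroup _ _ _⟩⟩
      · have := hx (e⁻¹ y)
        rw [hB, apply_inv] at this
        exact (mul_eq_zero.1 this).resolve_left hζ
      · show e * Alt.tv hA v c * e⁻¹ ∈ M
        refine hM _ ((hiso _).1 (Alt.tv_mem_isoGroup _ _ _)) ?_
        rw [hK, MulEquiv.apply_symm_apply, show e⁻¹ * (e * Alt.tv hA v c * e⁻¹) * e = Alt.tv hA v c by group]
        refine ⟨1, one_ne_zero, fun i => ?_⟩
        rw [one_smul, Alt.tv_apply]
        exact (rv_single i).add (hv.smul (F₀.mul_mem hc (hform _ _ (rv_single i) hv)))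
    obtain ⟨g, hg, hgi, hgK⟩ := hout
    have hall := hO.all_centres hr hcard ⟨e⁻¹ * g * e, ⟨by show e * (e⁻¹ * g * e) * e⁻¹ ∈ M; simpa [mul_assoc] using hg,
      (hiso _).2 (by simpa [mul_assoc] using hgi)⟩, fun h => hgK ((hK _).2 (by rwa [MulEquiv.apply_symm_apply]))⟩
    intro w c
    have h1 : e * Alt.tv hA (e⁻¹ w) (c / ζ) * e⁻¹ ∈ M := (hall (e⁻¹ w) (c / ζ)).1
    rwa [htv, apply_inv, div_mul_cancel₀ _ hζ] at h1

end Cfsg.Agent.ClassicalMax.Sp4
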