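import Cfsg.Agent.S5647

/-!
Stabilisers of decompositions into orthogonal non-degenerate subspaces, any rank.
-/

set_option autoImplicit false
open Cfsg

namespace Cfsg.Agent.ClassicalMax.Sp4

open Cfsg.Agent.Classical Cfsg.Agent.ClassicalMax Cfsg.Agent.S5647 Module

/-- stabilisers of orthogonal decompositions, any rank -/
theorem maximal_decomp {F : Type*} [Field F] [Fintype F] (m : ℕ) {t : ℕ} (k : ℕ) (D : Fin t → Submodule F (Fin m ⊕ Fin m → F)) (hD : Cfsg.Geo.IsNondegenerateMDecomposition (Cfsg.sympForm m F) k D) (hex : ¬ (k = 2 ∧ Fintype.card F = 2)) : Cfsg.Geo.IsMaximalIn (Cfsg.spGL m F) (Cfsg.Geo.decompositionStabilizer D ⊓ Cfsg.spGL m F) := by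
  classical
  set B := sympB m F
  have hBf : ∀ x y, B x y = Cfsg.sympForm m F x y := fun x y => sympB_apply x y
  have hd : IsDecomp B D k :=
    { alt := sympB_isAlt
      nd := sympB_nondeg
      top := hD.decomp.iSup_eq_top
      ndon := fun i w hw hw0 => by
        obtain ⟨z, hz, hne⟩ := (hD.nondegenerate i w hw hw0).2
        exact ⟨z, hz, by rw [hBf]; exact hne⟩
      perp := fun i j hij x hx y hy => by
        rw [hBf]; exact hD.orthogonal i j hij x hx y hy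
      rank := hD.decomp.finrank_eq }
  have ht := hD.decomp.two_le
  let i0 : Fin t := ⟨0, by omega⟩
  let i1 : Fin t := ⟨1, by omega⟩
  have h01 : i0 ≠ i1 := fun h => by simpa [i0, i1] using congrArg Fin.val h
  have h0bot : ∀ i, D i ≠ ⊥ := fun i h => by
    have := hD.decomp.finrank_eq i; rw [h, finrank_bot] at this; have := hD.decomp.pos; omega
  obtain ⟨x₁, hx₁, hx₁0⟩ := (D i0).exists_mem_ne_zero_of_ne_bot (h0bot i0)
  obtain ⟨z₁, hz₁, hxz⟩ := hd.ndon i0 x₁ hx₁ hx₁0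
  have hk : 2 ≤ k := by
    obtain ⟨l, -, -, -, hl⟩ := Alt.exists_sympBasis sympB_isAlt (D i0) (hd.ndon i0)
    have := hD.decomp.finrank_eq i0; have := hD.decomp.pos
    omega
  have hex' : k = 2 → ∃ l : F, l ≠ 0 ∧ l ≠ 1 := fun h2 => by
    by_contra! hc
    refine hex ⟨h2, ?_⟩
    have : (Finset.univ : Finset F) = {0, 1} := by
      ext a; simp only [Finset.mem_univ, Finset.mem_insert, Finset.mem_singleton, true_iff]
      exact or_iff_not_imp_left.2 (hc a)
    rw [← Finset.card_univ, this, Finset.card_pair zero_ne_one]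
  obtain ⟨u, hu, hu0⟩ := (D i1).exists_mem_ne_zero_of_ne_bot (h0bot i1)
  refine isMaximalIn_spGL _ ⟨z₁ + u, 1, fun hmem => ?_⟩ fun M hK ⟨g, hgM, hgi, hgK⟩ => ?_
  · obtain ⟨σ, hσ⟩ := hmem
    have hto : ∀ i, ∀ x ∈ D i, Alt.tv (sympB_isAlt (F := F) (m := m)) (z₁ + u) 1 x ∈ D (σ i) := fun i x hx => by
      rw [← hσ i]
      exact ⟨x, hx, by rw [Matrix.toLin'_apply]; exact symm_mulVec _ x⟩
    obtain ⟨uu, huu, huu1⟩ := hd.ndon i1 u hu hu0
    have h1 := hto i0 x₁ hx₁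
    rw [Alt.tv_apply, one_mul, map_add, hd.perp i0 i1 h01 x₁ hx₁ u hu, add_zero] at h1
    set y := x₁ + B x₁ z₁ • (z₁ + u) with hy
    by_cases hσ0 : σ i0 = i0
    · rw [hσ0] at h1
      have h2 : B x₁ z₁ • u ∈ D i0 := by
        have : B x₁ z₁ • u = y - x₁ - B x₁ z₁ • z₁ := by rw [hy, smul_add]; abel
        rw [this]; exact (D i0).sub_mem ((D i0).sub_mem h1 hx₁) ((D i0).smul_mem _ hz₁)
      rw [(D i0).smul_mem_iff hxz] at h2
      exact huu1 (hd.perp i0 i1 h01 u h2 uu huu)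
    · have h3 : B y z₁ = B x₁ z₁ := by
        rw [hy, map_add, LinearMap.add_apply, map_smul, LinearMap.smul_apply, map_add, LinearMap.add_apply, sympB_isAlt z₁,
          hd.perp i1 i0 h01.symm u hu z₁ hz₁]
        simp
      exact hxz (h3.symm.trans (hd.perp (σ i0) i0 hσ0 y h1 z₁ hz₁))
  · have rk : ∀ (f : (Fin m ⊕ Fin m → F) ≃ₗ[F] (Fin m ⊕ Fin m → F)) (σ : Equiv.Perm (Fin t)),
        (∀ i, ∀ x ∈ D i, f x ∈ D (σ i)) → (glEquiv (Fin m ⊕ Fin m) F).symm f ∈ Cfsg.Geo.decompositionStabilizer D := by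
      intro f σ hσ
      refine ⟨σ, fun i => ?_⟩
      have e : Matrix.toLin' (((glEquiv (Fin m ⊕ Fin m) F).symm f : Matrix.GeneralLinearGroup (Fin m ⊕ Fin m) F) : Matrix (Fin m ⊕ Fin m) (Fin m ⊕ Fin m) F) = f.toLinearMap :=
        LinearMap.ext fun x => by rw [Matrix.toLin'_apply]; exact symm_mulVec f x
      rw [e]
      exact Submodule.eq_of_le_of_finrank_eq (by rintro _ ⟨x, hx, rfl⟩; exact hσ i x hx)
        (by rw [LinearEquiv.finrank_map_eq, hD.decomp.finrank_eq, hD.decomp.finrank_eq])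
    exact all_centres hd hk hex' M (fun h hh ⟨σ, hσ⟩ => hK h hh (rk h σ hσ)) g hgM hgi fun ⟨σ, hσ⟩ => hgK (rk g σ hσ)

end Cfsg.Agent.ClassicalMax.Sp4
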