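import Cfsg.Agent.ClassicalMax.ExtField.SymplMain
import Cfsg.Agent.ClassicalMax.ExtField.Bridge
import Cfsg.Prelude.Def_GeometricClasses

/-!
Normalisers of extension fields of trace type in symplectic groups over fields with more than two elements.
-/

set_option autoImplicit false
open Cfsg

namespace Cfsg.Agent.ClassicalMax.Sp4

open Module Cfsg.Agent.Classical Cfsg.Agent.ClassicalMax Cfsg.Agent.ClassicalMax.ExtField

set_option linter.unusedSectionVars false

section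

variable {F K V : Type*} [Field F] [Field K] [Algebra F K] [AddCommGroup V] [Module F V] [Module K V]
  [IsScalarTower F K V] [Finite K] [FiniteDimensional F V] {B : LinearMap.BilinForm F V} {X : Subgroup (V ≃ₗ[F] V)}

/-- a configuration gives a transvection -/
theorem exists_sp_tvec_of (hO : SpOver B X K) (hm : 2 ≤ finrank K V) (hsize : ∃ t : F, t * t ≠ t)
    (hsl : ∃ g ∈ X, ∃ (k : K) (x : V), g (k • x) ∉ K ∙ g x) :
    ∃ (f : Dual F V) (w : V), f ≠ 0 ∧ w ≠ 0 ∧ f w = 0 ∧ tvec f w ∈ X := by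
  haveI := hO.finK
  haveI := hO.finV
  obtain ⟨g, v, y, l, b, hb, hvy, hc⟩ := exists_sp_core hO hm hsl
  obtain ⟨a, ha⟩ : ∃ a, l a = 1 := by
    obtain ⟨c, hc'⟩ : ∃ c, l c ≠ 0 := by by_contra! h; exact hc.lne (LinearMap.ext h)
    exact ⟨(l c)⁻¹ • c, by rw [map_smul, smul_eq_mul, inv_mul_cancel₀ hc']⟩
  obtain ⟨j, hj⟩ := (hc.image y).2 ⟨0, 1, map_zero l, by rw [zero_smul, one_smul, zero_add]⟩
  set γ := b v (g⁻¹ (a • v)) with hγd
  have hγ : γ ≠ 0 := fun h => by
    have := hb.spec j v (g⁻¹ (a • v))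
    rw [← hγd, h, mul_zero, map_zero, ← hO.iso hc.mem (j • v) (g⁻¹ (a • v)), apply_inv, hj, Alt.neg' hO.alt (a • v) y,
      ← hb.spec, hvy, mul_one, ha] at this
    exact neg_ne_zero.2 one_ne_zero this.symm
  obtain ⟨M, hT⟩ := hc.exists_trans_of ha (ψ := γ⁻¹ • b v) (by simp [hb.alt])
    (by rw [LinearMap.smul_apply, ← hγd, smul_eq_mul, inv_mul_cancel₀ hγ])
    (fun c => by
      convert hb.op_mem hO v (c * γ⁻¹) using 2
      exact LinearMap.ext fun x => by simp [mul_assoc])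
  obtain ⟨t, ht⟩ := hsize
  exact exists_tvec_big hT (fun c => hb.op_mem hO v c) ht

/-- every vector is a centre -/
theorem all_centres_of (hO : SpOver B X K) (hm : 2 ≤ finrank K V) (hsize : ∃ t : F, t * t ≠ t)
    (hsl : ∃ g ∈ X, ∃ (k : K) (x : V), g (k • x) ∉ K ∙ g x) : ∀ v, v ∈ centres hO.alt X := by
  haveI := hO.finK
  haveI := hO.finV
  haveI : Finite F := Finite.of_injective _ (algebraMap F K).injective
  obtain ⟨f, w, hf, hw, hfw, hmem⟩ := exists_sp_tvec_of hO hm hsize hsl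
  have hBf : ∀ x z, f x * B w z + f z * B x w = 0 := fun x z => by
    have := hO.iso hmem x z
    rw [tvec_apply hfw, tvec_apply hfw] at this
    simp only [map_add, map_smul, LinearMap.add_apply, LinearMap.smul_apply, smul_eq_mul, hO.alt w] at this
    linear_combination this
  obtain ⟨z, hz⟩ : ∃ z, B w z ≠ 0 := by by_contra! h; exact hw (hO.nd.1 w h)
  set c₀ := f z / B w z with hc₀
  have hfc : ∀ x, f x = c₀ * B w x := fun x => by
    rw [hc₀, div_mul_eq_mul_div, eq_div_iff hz]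
    linear_combination hBf x z - f z * Alt.neg' hO.alt w x
  have hc0 : c₀ ≠ 0 := fun h => hf (LinearMap.ext fun x => by rw [hfc, h, zero_mul]; rfl)
  have htv : tvec f w = Alt.tv hO.alt w (-c₀) := LinearEquiv.ext fun x => by
    rw [tvec_apply hfw, Alt.tv_apply, hfc, Alt.neg' hO.alt w x, neg_mul_neg]
  rw [htv] at hmem
  obtain ⟨l₀, hl₀⟩ : ∃ l : K →ₗ[F] F, l ≠ 0 := by
    obtain ⟨φ, hφ, -⟩ := exists_dual_one (F := F) (⊥ : Submodule F K) (x := (1 : K)) (by rw [Submodule.mem_bot]; exact one_ne_zero)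
    exact ⟨φ, fun h => by simp [h] at hφ⟩
  obtain ⟨b₀, hb⟩ := hO.exists_form hl₀
  intro v
  rcases eq_or_ne v 0 with rfl | hv
  · exact zero_mem_centres
  obtain ⟨D, hD, hDw, hDs⟩ := hb.trans hO hw hv
  have hv1 : Alt.tv hO.alt v (-c₀) ∈ X := by
    rw [← hDw, ← Alt.conj_tv hO.alt (hO.iso hD)]
    exact mul_mem (mul_mem hD hmem) (inv_mem hD)
  have hsq : ∀ t : F, Alt.tv hO.alt v (t ^ 2 * -c₀) ∈ X := fun t => by
    rcases eq_or_ne t 0 with rfl | ht
    · have : Alt.tv hO.alt v ((0 : F) ^ 2 * -c₀) = 1 := LinearEquiv.ext fun x => by simp [Alt.tv_apply]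
      rw [this]; exact one_mem X
    obtain ⟨E, hE, hEv, -⟩ := hb.trans hO hv (smul_ne_zero ht hv)
    rw [← Alt.tv_smul, ← hEv, ← Alt.conj_tv hO.alt (hO.iso hE)]
    exact mul_mem (mul_mem hE hv1) (inv_mem hE)
  intro c
  haveI := Fintype.ofFinite F
  obtain ⟨p, q, hpq⟩ : ∃ p q : F, p ^ 2 + q ^ 2 = c / -c₀ := by
    rcases Nat.mod_two_eq_zero_or_one (Fintype.card F) with h | h
    · obtain ⟨z, hz⟩ := FiniteField.isSquare_of_char_two (F := F) (FiniteField.even_card_iff_char_two.2 h) (c / -c₀)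
      exact ⟨z, 0, by rw [hz]; ring⟩
    · obtain ⟨p, q, e⟩ := FiniteField.exists_root_sum_quadratic (f := (Polynomial.X ^ 2 : Polynomial F))
        (g := Polynomial.X ^ 2 - Polynomial.C (c / -c₀)) (Polynomial.degree_X_pow 2) (Polynomial.degree_X_pow_sub_C two_pos _) h
      simp only [Polynomial.eval_pow, Polynomial.eval_X, Polynomial.eval_sub, Polynomial.eval_C] at e
      exact ⟨p, q, by linear_combination e⟩
  have := mul_mem (hsq p) (hsq q)
  rwa [Alt.tv_add, ← add_mul, hpq, div_mul_cancel₀ _ (neg_ne_zero.2 hc0)] at this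

end

theorem aux {F : Type*} [Field F] [Finite F] {m : ℕ} (hm : 2 ≤ m) (hF : ∃ t : F, t * t ≠ t) {L : Type*} [Field L] [Algebra F L]
    (j : L →ₐ[F] Matrix (Fin m ⊕ Fin m) (Fin m ⊕ Fin m) F) (hr : (finrank F L).Prime)
    (K : Subalgebra F (Matrix (Fin m ⊕ Fin m) (Fin m ⊕ Fin m) F)) (hjK : ∀ x, x ∈ K ↔ ∃ k, j k = x)
    (hsa : Cfsg.Geo.IsSelfAdjointFor (Cfsg.sympForm m F) K)
    (halt : ∀ k ∈ K, ∀ v : (Fin m ⊕ Fin m → F), Cfsg.sympForm m F (Matrix.mulVec k v) v = 0)
    (hdvd : finrank F L ≠ 2 * m) :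
    Cfsg.Geo.IsMaximalIn (Cfsg.spGL m F) (Cfsg.Geo.subalgebraNormalizer K ⊓ Cfsg.spGL m F) := by
  classical
  haveI : Nonempty (Fin m ⊕ Fin m) := ⟨Sum.inl ⟨0, by omega⟩⟩
  haveI : FiniteDimensional F L := Module.finite_of_finrank_pos hr.pos
  haveI : Finite L := Module.finite_of_finite F
  letI : Module L (Fin m ⊕ Fin m → F) :=
    Module.compHom (Fin m ⊕ Fin m → F) ((Matrix.toLinAlgEquiv'.toAlgHom.comp j).toRingHom :
      L →+* Module.End F (Fin m ⊕ Fin m → F))
  have hsmul : ∀ (k : L) (x : Fin m ⊕ Fin m → F), k • x = (j k).mulVec x := fun k x => rfl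
  haveI : IsScalarTower F L (Fin m ⊕ Fin m → F) := IsScalarTower.of_algebraMap_smul fun t x => by
    rw [hsmul, AlgHom.commutes, Matrix.algebraMap_eq_diagonal]
    funext i
    simp [Matrix.mulVec_diagonal]
  haveI : FiniteDimensional L (Fin m ⊕ Fin m → F) := Module.Finite.right F L _
  set d := finrank L (Fin m ⊕ Fin m → F) with hd
  have hmul : finrank F L * d = 2 * m := by
    rw [hd, Module.finrank_mul_finrank, Module.finrank_fintype_fun_eq_card, Fintype.card_sum, Fintype.card_fin]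
    omega
  have hd2 : 2 ≤ d := by
    by_contra hc
    push Not at hc
    interval_cases d <;> omega
  have hdim : ∀ x : Fin m ⊕ Fin m → F, ∃ z, z ∉ L ∙ x := fun x => by
    by_contra hc
    push Not at hc
    have h1 := finrank_range_le_card (R := L) ![x]
    rw [Set.finrank, Fintype.card_fin] at h1
    have h2 : Submodule.span L (Set.range ![x]) = ⊤ := eq_top_iff.2 fun z _ => by simpa using hc z
    rw [h2, finrank_top] at h1
    omega
  set B := sympB m F with hB
  have hA : B.IsAlt := sympB_isAlt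
  have hBsa : ∀ (k : L) (x z : Fin m ⊕ Fin m → F), B (k • x) z = B x (k • z) := fun k x z => by
    rw [hB, sympB_apply, sympB_apply, hsmul, hsmul]
    exact hsa _ ((hjK _).2 ⟨k, rfl⟩) x z
  have hBha : ∀ (k : L) (x : Fin m ⊕ Fin m → F), B (k • x) x = 0 := fun k x => by
    rw [hB, sympB_apply, hsmul]
    exact halt _ ((hjK _).2 ⟨k, rfl⟩) x
  have hproper : ∃ v c, (glEquiv (Fin m ⊕ Fin m) F).symm (Alt.tv (sympB_isAlt (F := F) (m := m)) v c) ∉
      Cfsg.Geo.subalgebraNormalizer K := by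
    obtain ⟨v, hv⟩ := exists_ne (0 : Fin m ⊕ Fin m → F)
    refine ⟨v, 1, fun hmem => ?_⟩
    set t := (glEquiv (Fin m ⊕ Fin m) F).symm (Alt.tv (sympB_isAlt (F := F) (m := m)) v 1) with ht
    obtain ⟨θ, hθ⟩ : ∃ θ : L, ∀ c : F, algebraMap F L c ≠ θ := by
      by_contra hc
      push Not at hc
      have h1 := hr.two_le
      have h2 := LinearMap.finrank_range_le (Algebra.linearMap F L)
      rw [show LinearMap.range (Algebra.linearMap F L) = ⊤ from eq_top_iff.2 fun z _ => hc z, finrank_top, finrank_self] at h2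
      omega
    have htx : ∀ x, (t : Matrix (Fin m ⊕ Fin m) (Fin m ⊕ Fin m) F).mulVec x = x + B x v • v := fun x => by
      rw [ht, symm_mulVec, Alt.tv_apply, one_mul]
    have hcomm : ∀ k : L, ∀ x, (t : Matrix (Fin m ⊕ Fin m) (Fin m ⊕ Fin m) F).mulVec (k • x) = k • (t : Matrix (Fin m ⊕ Fin m) (Fin m ⊕ Fin m) F).mulVec x := by
      intro k
      obtain ⟨k', hk'⟩ := (hjK _).1 ((hmem (j k)).1 ((hjK _).2 ⟨k, rfl⟩))
      have hk'' : ∀ x, (t : Matrix (Fin m ⊕ Fin m) (Fin m ⊕ Fin m) F).mulVec (k • x) = k' • (t : Matrix (Fin m ⊕ Fin m) (Fin m ⊕ Fin m) F).mulVec x := fun x => by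
        rw [hsmul, hsmul, hk', Matrix.mulVec_mulVec, Matrix.mulVec_mulVec, mul_assoc (_ * j k), ← Units.val_mul, inv_mul_cancel,
          Units.val_one, mul_one]
      obtain ⟨x, hx, hx0⟩ : ∃ x ∈ LinearMap.ker ((B.flip v).prod (B.flip (k • v))), x ≠ 0 := by
        refine Submodule.exists_mem_ne_zero_of_ne_bot fun h => ?_
        have h1 := LinearMap.finrank_le_finrank_of_injective (LinearMap.ker_eq_bot.1 h)
        rw [finrank_prod, finrank_self, Module.finrank_fintype_fun_eq_card, Fintype.card_sum, Fintype.card_fin] at h1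
        omega
      obtain ⟨hx1, hx2⟩ := Prod.mk.injEq .. ▸ (LinearMap.mem_ker.1 hx : (B x v, B x (k • v)) = (0, 0))
      have := hk'' x
      rw [htx, htx, hBsa, show B x v = 0 from hx1, show B x (k • v) = 0 from hx2, zero_smul, add_zero, add_zero] at this
      have hkk : k = k' := smul_left_injective L hx0 this
      exact fun z => hkk ▸ hk'' z
    obtain ⟨x, hx⟩ : ∃ x, B x v ≠ 0 := by
      by_contra! h
      exact hv (sympB_nondeg.2 v h)
    have := hcomm θ x
    rw [htx, htx, smul_add, add_right_inj] at this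
    have h2 : (algebraMap F L (B (θ • x) v / B x v)) • v = θ • v := by
      rw [algebraMap_smul, div_eq_inv_mul, mul_smul, this, smul_comm θ, inv_smul_smul₀ hx]
    exact hθ _ (smul_left_injective L hv h2)
  refine isMaximalIn_spGL _ hproper fun M hM ⟨g, hgM, hgi, hgN⟩ v => ?_
  have hO : SpOver B (M ⊓ Alt.isoGroup B) L := ⟨hr, hA, sympB_nondeg, hBsa, hBha, inf_le_right, fun D hD => by
    have hiso : D.restrictScalars F ∈ Alt.isoGroup B := hD
    refine ⟨D.restrictScalars F, ⟨hM _ hiso (mem_normalizer_of_linear j K hsmul hjK _ fun k x => ?_), hiso⟩, rfl⟩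
    rw [MulEquiv.apply_symm_apply]
    exact D.map_smul k x⟩
  obtain ⟨k, x, hkx⟩ := exists_nonline j K hsmul hjK hdim _ hgN
  rw [MulEquiv.apply_symm_apply] at hkx
  exact fun c => (all_centres_of hO hd2 hF ⟨g, ⟨hgM, hgi⟩, k, x, hkx⟩ v c).1

/-- normalisers of fields of prime degree -/
theorem maximal_ext {F : Type*} [Field F] [Fintype F] (m : ℕ) (hm : 2 ≤ m) (hF : ∃ t : F, t * t ≠ t) (r : ℕ) (hr : r.Prime) (K : Subalgebra F (Matrix (Fin m ⊕ Fin m) (Fin m ⊕ Fin m) F)) (hK : Cfsg.Geo.IsFieldSubalgebra r K) (hsa : Cfsg.Geo.IsSelfAdjointFor (Cfsg.sympForm m F) K) (halt : ∀ k ∈ K, ∀ v : (Fin m ⊕ Fin m → F), Cfsg.sympForm m F (Matrix.mulVec k v) v = 0) : Cfsg.Geo.IsMaximalIn (Cfsg.spGL m F) (Cfsg.Geo.subalgebraNormalizer K ⊓ Cfsg.spGL m F) := by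
  classical
  haveI : Nonempty (Fin m ⊕ Fin m) := ⟨Sum.inl ⟨0, by omega⟩⟩
  have hKfield : IsField K :=
    { exists_pair_ne := ⟨0, 1, fun h => zero_ne_one (α := Matrix (Fin m ⊕ Fin m) (Fin m ⊕ Fin m) F) (congrArg Subtype.val h)⟩
      mul_comm := fun x y => Subtype.ext (hK.comm _ x.2 _ y.2)
      mul_inv_cancel := fun {a} ha => by
        obtain ⟨y, hy, h⟩ := hK.inv _ a.2 (fun e => ha (Subtype.ext e))
        exact ⟨⟨y, hy⟩, Subtype.ext h⟩ }
  letI : Field K := hKfield.toField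
  exact aux hm hF K.val (by rw [hK.finrank_eq]; exact hr) K (fun x => ⟨fun h => ⟨⟨x, h⟩, rfl⟩, fun ⟨k, e⟩ => e ▸ k.2⟩) hsa halt
    (by
      rw [hK.finrank_eq]
      intro h
      subst h
      rcases (Nat.dvd_prime hr).1 (Dvd.intro m rfl) with h' | h' <;> omega)

end Cfsg.Agent.ClassicalMax.Sp4
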