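import Cfsg.Agent.ClassicalMax.Sp4.FiveBridge
import Cfsg.Agent.ClassicalMax.OrthMono.Bridge
import Cfsg.Agent.Symp4.SpMain
import Cfsg.Agent.Symp4.Four

/-!
Normalisers of extraspecial groups of minus type are maximal in four-dimensional symplectic groups over prime fields:
five anticommuting involutions are a frame of the five-dimensional space.
-/

set_option autoImplicit false
set_option linter.unusedSectionVars false
set_option linter.style.haveILetI false

namespace Cfsg.Agent.ClassicalMax.Sp4.Five

open Module QuadraticMap Matrix Cfsg.Agent.Classical Cfsg.Agent.Symp4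

variable {F : Type*} [Field F] [Fintype F]

local notation "M4" => Matrix (Fin 2 ⊕ Fin 2) (Fin 2 ⊕ Fin 2) F
local notation "G4" => GL (Fin 2 ⊕ Fin 2) F

theorem mat_mulVec (g : Cfsg.spGL 2 F) (v : I5 → F) : Matrix.toLin' ((mat g : GL I5 F) : Matrix I5 I5 F) v = (act g).1 v := by
  conv_rhs => rw [← (glEquiv I5 F).apply_symm_apply (act g).1]
  rw [glEquiv_apply, Matrix.toLin'_apply]
  rfl

/-- normalisers of extraspecial groups of minus type, given the basic properties of the group -/
theorem maximal_of_setting (hodd : Odd (Fintype.card F)) (hp : (Fintype.card F).Prime) {R : Subgroup G4}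
    (h : Setting R) (hRf : R ≤ Cfsg.spGL 2 F) (hRZ : Nat.card (Subgroup.center R) = 2)
    (hRm : Cfsg.Geo.IsOfMinusType 2 R) :
    Cfsg.Geo.IsMaximalIn (Cfsg.spGL 2 F) (Cfsg.Geo.subgroupNormalizer R ⊓ Cfsg.spGL 2 F) := by
  classical
  have h2 := two_ne hodd
  obtain ⟨Fr⟩ := exists_frame h hRm
  have hone : (1 : M4) ≠ 0 := one_ne_zero
  -- the five points
  have hw : ∀ i, ∃ w : I5 → F, op w = ((Fr.v i : G4) : M4) := fun i => by
    have hsp := (mem_sp_iff _).1 (hRf (Fr.mem i))
    have hsq : ((Fr.v i : G4) : M4) * ((Fr.v i : G4) : M4) = 1 := by rw [← Units.val_mul, Fr.sq, Units.val_one]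
    refine exists_op h2 ?_ ?_
    · conv_rhs => rw [← hsp]
      rw [Matrix.mul_assoc, hsq, Matrix.mul_one]
    · obtain ⟨j, hj⟩ := exists_ne i
      have e : Fr.v i = -(Fr.v j * Fr.v i * (Fr.v j)⁻¹) := by
        rw [Fr.anti j i hj, neg_mul, mul_inv_cancel_right, neg_neg]
      have e' := congrArg (fun g : G4 => (g : M4).trace) e
      simp only [Units.val_neg, Matrix.trace_neg, Units.val_mul] at e'
      rw [Matrix.trace_mul_cycle, ← Units.val_mul, inv_mul_cancel, Units.val_one, Matrix.one_mul] at e'
      exact (mul_eq_zero.1 (by linear_combination e' : (2 : F) * ((Fr.v i : G4) : M4).trace = 0)).resolve_left h2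
  choose w hw using hw
  have scal : ∀ a b : F, a • (1 : M4) = b • (1 : M4) → a = b := fun a b e => smul_left_injective F hone e
  have hq : ∀ i, Q5 F (w i) = 1 := fun i => scal _ _ (by
    rw [one_smul, ← op_sq, hw, ← Units.val_mul, Fr.sq, Units.val_one])
  have hpol : ∀ i j, polar (Q5 F) (w i) (w j) = if i = j then 2 else 0 := fun i j => by
    split_ifs with hij
    · subst hij; rw [Quad.polar_self', hq, mul_one]
    · refine scal _ _ ?_
      rw [zero_smul, ← op_anti, hw, hw, ← Units.val_mul, ← Units.val_mul, Fr.anti i j hij, Units.val_neg, neg_add_cancel]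
  have hw0 : ∀ i, w i ≠ 0 := fun i e => one_ne_zero (α := F) (by rw [← hq i, e, map_zero])
  have hli : LinearIndependent F w := by
    rw [Fintype.linearIndependent_iff]
    intro g hg i
    have := congrArg (fun x => polarBilin (Q5 F) (w i) x) hg
    simp [map_sum, polarBilin_apply_apply, hpol] at this
    exact this.resolve_right h2
  have htop : Submodule.span F (Set.range w) = ⊤ := hli.span_eq_top_of_card_eq_finrank (by simp)
  set D : Fin 5 → Submodule F (I5 → F) := fun i => Submodule.span F {w i} with hDdef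
  have hD : Cfsg.Geo.IsOrthogonalMDecomposition (⇑(Q5 F)) 1 D := by
    refine ⟨⟨⟨by norm_num, by norm_num, fun i => finrank_span_singleton (hw0 i), hli.iSupIndep_span_singleton, ?_⟩,
      fun i x hx hx0 => ?_, fun i j hij x hx y hy => ?_⟩, fun i j => ?_⟩
    · rw [eq_top_iff, ← htop, Submodule.span_le]
      rintro _ ⟨i, rfl⟩
      exact le_iSup D i (Submodule.mem_span_singleton_self _)
    · obtain ⟨c, rfl⟩ := Submodule.mem_span_singleton.1 hx
      have hc : c ≠ 0 := fun e => hx0 (by rw [e, zero_smul])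
      have : polar (Q5 F) (c • w i) (w i) ≠ 0 := by
        rw [QuadraticMap.polar_smul_left, hpol, if_pos rfl]; exact mul_ne_zero hc h2
      exact ⟨⟨w i, Submodule.mem_span_singleton_self _, by rwa [polar_comm]⟩, ⟨w i, Submodule.mem_span_singleton_self _, this⟩⟩
    · obtain ⟨a, rfl⟩ := Submodule.mem_span_singleton.1 hx
      obtain ⟨b, rfl⟩ := Submodule.mem_span_singleton.1 hy
      rw [QuadraticMap.polar_smul_left, QuadraticMap.polar_smul_right, hpol, if_neg hij]; simp
    · refine ⟨(LinearEquiv.toSpanNonzeroSingleton F _ (w i) (hw0 i)).symm.trans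
        (LinearEquiv.toSpanNonzeroSingleton F _ (w j) (hw0 j)), fun x => ?_⟩
      obtain ⟨c, rfl⟩ := (LinearEquiv.toSpanNonzeroSingleton F _ (w i) (hw0 i)).surjective x
      rw [LinearEquiv.trans_apply, LinearEquiv.symm_apply_apply]
      show Q5 F (c • w j) = Q5 F (c • w i)
      simp [Quad.map_smul', hq]
  refine maximal_of_five hodd _ (Cfsg.Geo.decompositionStabilizer D) (fun g => ?_)
    (OrthMono.isMaximalIn_frame0 (Q5 F) (Q5_nondeg hodd) h2 (hp) (Or.inr (by simp)) D hD)
  show _ ↔ ∃ σ : Equiv.Perm (Fin 5), ∀ i, (D i).map (Matrix.toLin' ((mat g : GL I5 F) : Matrix I5 I5 F)) = D (σ i)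
  have himg : ∀ i, (D i).map (Matrix.toLin' ((mat g : GL I5 F) : Matrix I5 I5 F)) =
      Submodule.span F {(act g).1 (w i)} := fun i => by
    rw [hDdef, Submodule.map_span, Set.image_singleton, mat_mulVec]
  have hact : ∀ i, op ((act g).1 (w i)) = (((g : G4) * Fr.v i * (g : G4)⁻¹ : G4) : M4) := fun i => by
    rw [op_act, hw]; rfl
  constructor
  · intro hgN
    have key : ∀ i, ∃ j, (g : G4) * Fr.v i * (g : G4)⁻¹ = Fr.v j ∨ (g : G4) * Fr.v i * (g : G4)⁻¹ = -Fr.v j := by
      intro i
      set x := (g : G4) * Fr.v i * (g : G4)⁻¹ with hx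
      have hxR : x ∈ R := (Subgroup.mem_normalizer_iff.1 hgN _).1 (Fr.mem i)
      have hx2 : x * x = 1 := by rw [hx, conj_mul, Fr.sq]; simp
      have hpx : ∀ j, (x : M4) * (Fr.v j : G4) + (Fr.v j : G4) * (x : M4) = polar (Q5 F) ((act g).1 (w i)) (w j) • (1 : M4) :=
        fun j => by rw [← op_anti, hact, hw]
      by_cases hc : ∃ j, Fr.v j * x = x * Fr.v j
      · obtain ⟨j, hj⟩ := hc
        obtain ⟨k, hk⟩ := exists_ne j
        rcases no_commuting_involutions h hRm (Fr.mem j) hxR
          (fun hall => h.not_comm_of_anti (Fr.anti j k (Ne.symm hk)) (hall _ (Fr.mem k))) (Fr.sq j) hx2 hj with e | e | e | e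
        · exfalso
          have e1 : Fr.v i = 1 := conj_eq_one_iff.1 e
          obtain ⟨l, hl⟩ := exists_ne i
          exact h.not_comm_of_anti (Fr.anti i l (Ne.symm hl)) (by rw [e1, one_mul, mul_one])
        · exfalso
          have e1 : Fr.v i = -1 := by
            have := congrArg (fun z => (g : G4)⁻¹ * z * (g : G4)) e
            simpa [hx, mul_assoc] using this
          obtain ⟨l, hl⟩ := exists_ne i
          exact h.not_comm_of_anti (Fr.anti i l (Ne.symm hl)) (by rw [e1]; simp)
        · exact ⟨j, Or.inl e⟩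
        · exact ⟨j, Or.inr e⟩
      · exfalso
        push Not at hc
        have hall : ∀ j, polar (Q5 F) ((act g).1 (w i)) (w j) = 0 := fun j => scal _ _ (by
          rw [zero_smul, ← hpx, ← Units.val_mul, ← Units.val_mul,
            (h.comm x hxR _ (Fr.mem j)).resolve_left (fun e => hc j e.symm), Units.val_neg, neg_add_cancel])
        have hz : (act g).1 (w i) = 0 := (Q5_nondeg hodd).1 _ fun y => by
          have hy : y ∈ Submodule.span F (Set.range w) := htop ▸ Submodule.mem_top
          obtain ⟨c, rfl⟩ := (Submodule.mem_span_range_iff_exists_fun F).1 hy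
          simp [map_sum, hall]
        exact hw0 i ((act g).1.map_eq_zero_iff.1 hz)
    choose σ hσ using key
    have hline : ∀ i, ∃ c : F, c ≠ 0 ∧ (act g).1 (w i) = c • w (σ i) := fun i => by
      rcases hσ i with e | e
      · exact ⟨1, one_ne_zero, op_injective (by rw [hact, e, one_smul, hw])⟩
      · exact ⟨-1, neg_ne_zero.2 one_ne_zero, op_injective (by rw [hact, e, map_smul, hw, neg_one_smul, Units.val_neg])⟩
    choose c hc0 hc using hline
    have hinj : Function.Injective σ := fun i j hij => by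
      by_contra hne
      have := Quad.polar_eq_of_mem (act g).2 (w i) (w j)
      rw [hc, hc, hij, QuadraticMap.polar_smul_left, QuadraticMap.polar_smul_right, hpol, hpol, if_pos rfl, if_neg hne] at this
      exact mul_ne_zero (hc0 i) (mul_ne_zero (hc0 j) h2) this
    refine ⟨Equiv.ofBijective σ (Finite.injective_iff_bijective.1 hinj), fun i => ?_⟩
    rw [himg, Equiv.ofBijective_apply, hc, hDdef]
    exact Submodule.span_singleton_smul_eq (Ne.isUnit (hc0 i)) _
  · rintro ⟨σ, hσ⟩
    refine Setting.mem_normalizer_of_le fun x hx => ?_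
    refine Fr.gen (R.comap (MulAut.conj (g : G4)).toMonoidHom) (fun i => ?_) (fun z hz hzc => ?_) hx
    · have hm : (act g).1 (w i) ∈ D (σ i) := by
        rw [← hσ i, himg]; exact Submodule.mem_span_singleton_self _
      obtain ⟨c, hc⟩ := Submodule.mem_span_singleton.1 hm
      have hc1 : c = 1 ∨ c = -1 := mul_self_eq_one_iff.1 (by
        have := (act g).2 (w i)
        rw [← hc, Quad.map_smul', hq, hq, mul_one] at this
        exact this)
      show (g : G4) * Fr.v i * (g : G4)⁻¹ ∈ R
      have e : (((g : G4) * Fr.v i * (g : G4)⁻¹ : G4) : M4) = c • ((Fr.v (σ i) : G4) : M4) := by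
        rw [← hact, ← hc, map_smul, hw]
      rcases hc1 with rfl | rfl
      · rw [one_smul] at e
        rw [Units.ext e]; exact Fr.mem _
      · rw [neg_one_smul, ← Units.val_neg] at e
        rw [Units.ext e, neg_eq_neg_one_mul]
        exact mul_mem h.neg (Fr.mem _)
    · show (g : G4) * z * (g : G4)⁻¹ ∈ R
      rcases eq_neg_one_of_scalar h hz hRZ hzc with rfl | rfl
      · simp
      · simpa using h.neg

/-- normalisers of extraspecial groups of minus type -/
theorem maximal_extraspecial {p : ℕ} (hodd : Odd (Fintype.card F)) (hp : p.Prime) (hF : Fintype.card F = p)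
    (R : Subgroup G4) (hRs : Cfsg.Geo.IsSymplecticTypeGroup 2 R)
    (hRi : Cfsg.Geo.ActsAbsolutelyIrreducibly (Cfsg.Geo.matrixSet R)) (hRf : R ≤ Cfsg.spGL 2 F)
    (hR : Nat.card R = 32) (hRZ : Nat.card (Subgroup.center R) = 2) (hRm : Cfsg.Geo.IsOfMinusType 2 R) :
    Cfsg.Geo.IsMaximalIn (Cfsg.spGL 2 F) (Cfsg.Geo.subgroupNormalizer R ⊓ Cfsg.spGL 2 F) := by
  classical
  have h2 := two_ne hodd
  haveI : Finite R := Nat.finite_of_card_ne_zero (by rw [hR]; norm_num)
  have hexp : Monoid.exponent R = 4 := by rw [hRs.exponent_eq]; norm_num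
  have h := setting_of (R := R) (by simp) h2 hRs.pGroup hRs.cyclic_of_characteristic hexp hRi
    (by rw [hR, hRZ]) (Or.inl hRZ)
  exact maximal_of_setting hodd (hF ▸ hp) h hRf hRZ hRm

end Cfsg.Agent.ClassicalMax.Sp4.Five
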