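import Cfsg.Agent.Classical.KleinIso
import Cfsg.Agent.ClassicalMax.Subfield.RootOrth
import Cfsg.Prelude.Def_GeometricClasses

/-!
The symplectic group of dimension four on the five-dimensional space of self-adjoint operators of trace zero:
it maps onto the commutator subgroup of the orthogonal group, so maximality can be tested there.
-/

set_option autoImplicit false
set_option linter.unusedSectionVars false
set_option linter.style.haveILetI false

namespace Cfsg.Agent.ClassicalMax.Sp4.Five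

open Module QuadraticMap Matrix Cfsg.Agent.Classical Cfsg.Agent.Classical.Klein Cfsg.Agent.Classical.Exc

variable {F : Type*} [Field F]

/-- the index type of the five coordinates -/
abbrev I5 : Type := Unit ⊕ (Fin 2 ⊕ Fin 2)

local notation "M4" => Matrix (Fin 2 ⊕ Fin 2) (Fin 2 ⊕ Fin 2) F
local notation "G4" => GL (Fin 2 ⊕ Fin 2) F

variable (F) in
/-- the form on the five coordinates -/
noncomputable def Q5 : QuadraticForm F (I5 → F) :=
  (Quad.hyp (Quad.sqForm F) 2).comp ((Quad.oddCoord 2).toLinearMap)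

theorem Q5_apply (x : I5 → F) : Q5 F x = Quad.hyp (Quad.sqForm F) 2 (Quad.oddCoord 2 x) := rfl

/-- transport of isometries to the coordinates -/
noncomputable def conj5 : Quad.oG (Quad.hyp (Quad.sqForm F) 2) →* Quad.oG (Q5 F) where
  toFun g := ⟨((Quad.oddCoord 2).trans g.1).trans (Quad.oddCoord 2).symm, fun x => by
    show Q5 F ((Quad.oddCoord 2).symm (g.1 (Quad.oddCoord 2 x))) = Q5 F x
    rw [Q5_apply, Q5_apply, LinearEquiv.apply_symm_apply, g.2]⟩
  map_one' := Subtype.ext (LinearEquiv.ext fun x => (Quad.oddCoord 2).symm_apply_apply x)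
  map_mul' g k := Subtype.ext (LinearEquiv.ext fun x => by
    show (Quad.oddCoord 2).symm (g.1 (k.1 (Quad.oddCoord 2 x))) =
      (Quad.oddCoord 2).symm (g.1 (Quad.oddCoord 2 ((Quad.oddCoord 2).symm (k.1 (Quad.oddCoord 2 x)))))
    rw [LinearEquiv.apply_symm_apply])

theorem conj5_bijective : Function.Bijective (conj5 (F := F)) := by
  refine ⟨fun g k e => Subtype.ext (LinearEquiv.ext fun v => ?_), fun g => ?_⟩
  · have := congrArg (fun t : Quad.oG (Q5 F) => Quad.oddCoord 2 (t.1 ((Quad.oddCoord 2).symm v))) e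
    simpa [conj5] using this
  · refine ⟨⟨((Quad.oddCoord 2).symm.trans g.1).trans (Quad.oddCoord 2), fun v => ?_⟩, Subtype.ext (LinearEquiv.ext fun x => ?_)⟩
    · show Quad.hyp (Quad.sqForm F) 2 (Quad.oddCoord 2 (g.1 ((Quad.oddCoord 2).symm v))) = _
      rw [← Q5_apply, g.2, Q5_apply, LinearEquiv.apply_symm_apply]
    · show (Quad.oddCoord 2).symm (Quad.oddCoord 2 (g.1 ((Quad.oddCoord 2).symm (Quad.oddCoord 2 x)))) = g.1 x
      rw [LinearEquiv.symm_apply_apply, LinearEquiv.symm_apply_apply]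

theorem val_mem (g : Cfsg.spGL 2 F) : ((g : G4) : M4) ∈ Matrix.symplecticGroup (Fin 2) F :=
  (mem_symplectic_iff _).2 fun u v => by
    rw [sympB_apply, sympB_apply]; exact g.2 u v

/-- the same matrices in the two descriptions of the symplectic group -/
noncomputable def toSymp : Cfsg.spGL 2 F →* Matrix.symplecticGroup (Fin 2) F where
  toFun g := ⟨((g : G4) : M4), val_mem g⟩
  map_one' := rfl
  map_mul' _ _ := rfl

theorem toSymp_surjective : Function.Surjective (toSymp (F := F)) := by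
  intro A
  obtain ⟨g, hg⟩ : ∃ g : G4, (g : M4) = A.1 := ⟨⟨A.1, (A⁻¹).1, congrArg Subtype.val (mul_inv_cancel A),
    congrArg Subtype.val (inv_mul_cancel A)⟩, rfl⟩
  refine ⟨⟨g, fun u v => ?_⟩, Subtype.ext hg⟩
  show sympForm 2 F ((g : M4) *ᵥ u) ((g : M4) *ᵥ v) = sympForm 2 F u v
  rw [hg, ← sympB_apply, ← sympB_apply]
  exact (mem_symplectic_iff _).1 A.2 u v

/-- the action on the five coordinates -/
noncomputable def act : Cfsg.spGL 2 F →* Quad.oG (Q5 F) := conj5.comp (fiveHom.comp toSymp)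

theorem act_coord (g : Cfsg.spGL 2 F) (v : I5 → F) :
    Quad.oddCoord 2 ((act g).1 v) = fiveMap (toSymp g) (Quad.oddCoord 2 v) :=
  (Quad.oddCoord 2).apply_symm_apply _

/-- the skew matrix of a bivector -/
def skew : (Fin 3 ⊕ Fin 3 → F) →ₗ[F] Matrix (Fin 4) (Fin 4) F where
  toFun x := !![0, x (.inl 0), x (.inl 1), x (.inl 2); -x (.inl 0), 0, x (.inr 2), -x (.inr 1);
    -x (.inl 1), -x (.inr 2), 0, x (.inr 0); -x (.inl 2), x (.inr 1), -x (.inr 0), 0]
  map_add' x y := by ext i j; fin_cases i <;> fin_cases j <;> simp <;> ring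
  map_smul' c x := by ext i j; fin_cases i <;> fin_cases j <;> simp

theorem skew_wedge (u v : Fin 4 → F) : skew (wedge u v) = vecMulVec u v - vecMulVec v u := by
  ext i j
  fin_cases i <;> fin_cases j <;> simp [skew, wedge, pa, pb, vecMulVec_apply] <;> ring

theorem skew_comp2 (g : Matrix (Fin 4) (Fin 4) F) (x : Fin 3 ⊕ Fin 3 → F) :
    skew (comp2 g *ᵥ x) = g * skew x * gᵀ := by
  have hw : ∀ u v : Fin 4 → F, skew (comp2 g *ᵥ wedge u v) = g * skew (wedge u v) * gᵀ := fun u v => by
    rw [comp2_mulVec, skew_wedge, skew_wedge, Matrix.mul_sub, Matrix.sub_mul, Matrix.mul_vecMulVec,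
      Matrix.mul_vecMulVec, Matrix.vecMulVec_mul, Matrix.vecMulVec_mul, Matrix.vecMul_transpose, Matrix.vecMul_transpose]
  have hx : x = ∑ s, x s • wedge (Pi.single (pa s) (1 : F)) (Pi.single (pb s) 1) := by
    simp only [wedge_single]
    exact pi_eq_sum_univ' x
  rw [hx]
  simp only [Matrix.mulVec_sum, Matrix.mulVec_smul, map_sum, map_smul, hw, Matrix.mul_sum, Matrix.sum_mul,
    Matrix.mul_smul, Matrix.smul_mul]

theorem omegaMat_sq : omegaMat F * omegaMat F = -1 := by
  ext i j
  fin_cases i <;> fin_cases j <;> simp [omegaMat, Matrix.mul_apply, Fin.sum_univ_four]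

/-- the self-adjoint operator of five coordinates -/
noncomputable def op : (I5 → F) →ₗ[F] M4 :=
  (spToFour (F := F)).symm.toLinearEquiv.toLinearMap.comp ((LinearMap.mulRight F (omegaMat F)).comp
    (skew.comp ((perpEmb F).comp (Quad.oddCoord 2).toLinearMap)))

theorem op_apply (v : I5 → F) :
    spToFour (op v) = skew (perpEmb F (Quad.oddCoord 2 v)) * omegaMat F :=
  (spToFour (F := F)).apply_symm_apply _

/-- the action is by conjugation of operators -/
theorem op_act (g : Cfsg.spGL 2 F) (v : I5 → F) :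
    op ((act g).1 v) = ((g : G4) : M4) * op v * ((((g : G4))⁻¹ : G4) : M4) := by
  apply (spToFour (F := F)).injective
  rw [map_mul, map_mul, op_apply, op_apply, act_coord, perpEmb_fiveMap, kleinHom_apply, skew_comp2]
  set G := spToFour (((g : G4) : M4)) with hG
  set G' := spToFour (((((g : G4))⁻¹ : G4) : M4)) with hG'
  have hinv : G * G' = 1 := by rw [hG, hG', ← map_mul, ← Units.val_mul, mul_inv_cancel, Units.val_one, map_one]
  have h1 : (spToSL (toSymp g)).1 = G := rfl
  rw [h1]
  have e : G * omegaMat F * Gᵀ = omegaMat F := spToFour_omega (val_mem g)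
  have ht : Gᵀ * omegaMat F = omegaMat F * G' := by
    have e3 : G * (omegaMat F * Gᵀ * omegaMat F) = -1 := by
      rw [← Matrix.mul_assoc, ← Matrix.mul_assoc, e, omegaMat_sq]
    have e4 : G' * (G * (omegaMat F * Gᵀ * omegaMat F)) = omegaMat F * Gᵀ * omegaMat F := by
      rw [← Matrix.mul_assoc, mul_eq_one_comm.1 hinv, Matrix.one_mul]
    rw [e3, Matrix.mul_neg, Matrix.mul_one] at e4
    have e5 : omegaMat F * (omegaMat F * Gᵀ * omegaMat F) = -(omegaMat F * G') := by rw [← e4, Matrix.mul_neg]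
    rw [← Matrix.mul_assoc, ← Matrix.mul_assoc, omegaMat_sq, Matrix.neg_mul, Matrix.one_mul, Matrix.neg_mul,
      neg_inj] at e5
    exact e5
  rw [Matrix.mul_assoc, Matrix.mul_assoc, ht]
  simp only [Matrix.mul_assoc]

theorem op_injective : Function.Injective (op (F := F)) := by
  refine (injective_iff_map_eq_zero _).2 fun v hv => ?_
  apply (Quad.oddCoord 2).injective
  apply perpEmb_injective
  rw [map_zero, map_zero]
  have h := congrArg (fun X => X * omegaMat F) ((op_apply v).symm.trans (by rw [hv, map_zero]))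
  simp only [Matrix.mul_assoc, omegaMat_sq, Matrix.zero_mul, Matrix.mul_neg, Matrix.mul_one, neg_eq_zero] at h
  funext s
  rcases s with i | i <;> fin_cases i
  · simpa [skew] using congrFun (congrFun h 0) 1
  · simpa [skew] using congrFun (congrFun h 0) 2
  · simpa [skew] using congrFun (congrFun h 0) 3
  · simpa [skew] using congrFun (congrFun h 2) 3
  · simpa [skew] using congrFun (congrFun h 3) 1
  · simpa [skew] using congrFun (congrFun h 1) 2

/-- operators square to values of the form -/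
theorem op_sq (v : I5 → F) : op v * op v = Q5 F v • (1 : M4) := by
  apply (spToFour (F := F)).injective
  rw [map_mul, map_smul, map_one, op_apply, Q5_apply, Quad.hyp_apply]
  ext i j
  fin_cases i <;> fin_cases j <;>
    simp [skew, perpEmb, omegaMat, Quad.sqForm, Matrix.mul_apply, Fin.sum_univ_four, Fin.sum_univ_two] <;> ring

theorem op_anti (u v : I5 → F) : op u * op v + op v * op u = polar (Q5 F) u v • (1 : M4) := by
  have h := op_sq (u + v)
  rw [map_add, add_mul, mul_add, mul_add, op_sq, op_sq] at h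
  rw [polar, sub_smul, sub_smul, ← h]
  abel

/-- self-adjoint operators of trace zero are the operators of coordinates -/
theorem exists_op (h2 : (2 : F) ≠ 0) {X : M4} (hX : Xᵀ * Matrix.J (Fin 2) F = Matrix.J (Fin 2) F * X)
    (htr : X.trace = 0) : ∃ v, op v = X := by
  obtain ⟨Y, rfl⟩ : ∃ Y, X = (spToFour (F := F)).symm Y := ⟨spToFour X, ((spToFour (F := F)).symm_apply_apply X).symm⟩
  have h1 : Yᵀ * omegaMat F = omegaMat F * Y := by
    have := congrArg spToFour hX
    rw [map_mul, map_mul, spToFour_transpose, spToFour_J, AlgEquiv.apply_symm_apply, Matrix.mul_neg, Matrix.neg_mul,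
      neg_inj] at this
    exact this
  have ht : Y 0 0 + Y 1 1 + Y 2 2 + Y 3 3 = 0 := by
    rw [← htr]
    simp [Matrix.trace, spToFour, Fintype.sum_sum_type, Fin.sum_univ_two, finSumFinEquiv, Fin.addCases, add_assoc]
  let S := -(Y * omegaMat F)
  refine ⟨(Quad.oddCoord 2).symm (perpProj F (Sum.elim ![S 0 1, S 0 2, S 0 3] ![S 2 3, S 3 1, S 1 2])),
    (spToFour (F := F)).injective ?_⟩
  rw [op_apply, LinearEquiv.apply_symm_apply, AlgEquiv.apply_symm_apply]
  have e := fun i j => congrFun (congrFun h1 i) j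
  have e00 := e 0 0
  have e01 := e 0 1
  have e02 := e 0 2
  have e03 := e 0 3
  have e11 := e 1 1
  have e12 := e 1 2
  have e13 := e 1 3
  have e22 := e 2 2
  have e23 := e 2 3
  have e33 := e 3 3
  simp [omegaMat, Matrix.mul_apply, Fin.sum_univ_four] at e00 e01 e02 e03 e11 e12 e13 e22 e23 e33
  ext i j
  fin_cases i <;> fin_cases j <;>
    simp [S, skew, perpEmb, perpProj, omegaMat, Matrix.mul_apply, Fin.sum_univ_four] <;> grind

variable [Fintype F]

theorem two_ne (hodd : Odd (Fintype.card F)) : (2 : F) ≠ 0 := fun h => by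
  have : CharP F 2 := CharTwo.of_one_ne_zero_of_two_eq_zero one_ne_zero h
  obtain ⟨n, -, hn⟩ := FiniteField.card F 2
  rw [hn, Nat.odd_pow_iff n.pos.ne'] at hodd
  exact absurd hodd (by decide)

theorem Q5_nondeg (hodd : Odd (Fintype.card F)) : (polarBilin (Q5 F)).Nondegenerate := by
  have h := Quad.nondeg_hyp (Quad.nondeg_sqForm (two_ne hodd)) 2
  refine ⟨fun x hx => (Quad.oddCoord 2).injective ?_, fun x hx => (Quad.oddCoord 2).injective ?_⟩ <;> rw [map_zero]
  · refine h.1 _ fun y => ?_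
    have := hx ((Quad.oddCoord 2).symm y)
    simpa [Q5, QuadraticMap.comp_apply, polar] using this
  · refine h.2 _ fun y => ?_
    have := hx ((Quad.oddCoord 2).symm y)
    simpa [Q5, QuadraticMap.comp_apply, polar] using this

/-- the image is the commutator subgroup -/
theorem range_act (hodd : Odd (Fintype.card F)) : (act (F := F)).range = commutator (Quad.oG (Q5 F)) := by
  classical
  have h2 := two_ne hodd
  have hq3 : 3 ≤ Fintype.card F := by
    have := Fintype.one_lt_card (α := F)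
    obtain ⟨k, hk⟩ := hodd
    omega
  have hQ : (polarBilin (Quad.hyp (Quad.sqForm F) 2)).Nondegenerate := Quad.nondeg_hyp (Quad.nondeg_sqForm h2) 2
  have hd : finrank F (((Fin 2 → F) × (Fin 2 → F)) × F) = 5 := by simp [Module.finrank_prod]
  have := oG_finite (Quad.hyp (Quad.sqForm F) 2)
  have hp : commutator (symplecticGroup (Fin 2) F) = ⊤ := commutator_symplectic (Or.inr (Or.inl ⟨rfl, hq3⟩))
  have hb := comm_card_bound hQ (by omega) (two_le_bound (fiveHom (F := F)).ker (fun g => spToFour g.1 0 0)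
    (fun x hx y hy e => Subtype.ext (spToFour.injective (by
      rw [(fiveHom_ker h2 hx).1, (fiveHom_ker h2 hy).1]; exact congrArg _ e)))
    fun x hx => (fiveHom_ker h2 hx).2) (L := Nat.card (symplecticGroup (Fin 2) F))
    (by rw [Quad.card_oG_odd rfl h2 2, card_symplecticGroup rfl 2]; ring) le_rfl
  have hle : (fiveHom (F := F)).range ≤ commutator _ := range_le_of_perfect _ hp
  have heq : (fiveHom (F := F)).range = commutator _ := by
    refine Subgroup.eq_of_le_of_card_ge hle ?_
    have hS := (fiveHom (F := F)).ker.card_eq_card_quotient_mul_card_subgroup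
    rw [Nat.card_congr (QuotientGroup.quotientKerEquivRange (fiveHom (F := F))).toEquiv] at hS
    exact Nat.le_of_mul_le_mul_right (hb.trans hS.le) Nat.card_pos
  have e1 : (fiveHom.comp toSymp : Cfsg.spGL 2 F →* _).range = (fiveHom (F := F)).range := by
    rw [MonoidHom.range_comp, MonoidHom.range_eq_top.2 toSymp_surjective, ← MonoidHom.range_eq_map]
  rw [act, MonoidHom.range_comp, e1, heq, commutator_def, commutator_def, Subgroup.map_commutator,
    Subgroup.map_top_of_surjective _ conj5_bijective.2]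

/-- the action in matrices -/
noncomputable def mat : Cfsg.spGL 2 F →* GL I5 F :=
  ((glEquiv I5 F).symm.toMonoidHom).comp ((Quad.oG (Q5 F)).subtype.comp act)

theorem range_mat (hodd : Odd (Fintype.card F)) : (mat (F := F)).range = Cfsg.Geo.omegaGL ⇑(Q5 F) := by
  ext x
  constructor
  · rintro ⟨g, rfl⟩
    exact (Subfield.RootOrth.mem_omegaGL _ (act g)).2 (range_act hodd ▸ ⟨g, rfl⟩)
  · intro hx
    obtain ⟨k, hk, e⟩ := Subfield.RootOrth.exists_oG_of_omega _ hx
    rw [← range_act hodd] at hk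
    obtain ⟨g, rfl⟩ := hk
    refine ⟨g, ?_⟩
    show (glEquiv I5 F).symm (act g).1 = x
    rw [e, MulEquiv.symm_apply_apply]

/-- maximality is tested in five dimensions -/
theorem maximal_of_five (hodd : Odd (Fintype.card F)) (S : Subgroup G4) (S' : Subgroup (GL I5 F))
    (hS : ∀ g : Cfsg.spGL 2 F, (g : G4) ∈ S ↔ mat g ∈ S')
    (hmax : Cfsg.Geo.IsMaximalIn (Cfsg.Geo.omegaGL ⇑(Q5 F)) (S' ⊓ Cfsg.Geo.omegaGL ⇑(Q5 F))) :
    Cfsg.Geo.IsMaximalIn (Cfsg.spGL 2 F) (S ⊓ Cfsg.spGL 2 F) := by
  obtain ⟨hlt, hmid⟩ := hmax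
  have hr := range_mat (F := F) hodd
  constructor
  · refine lt_of_le_of_ne inf_le_right fun heq => ?_
    obtain ⟨x, hx, hxS⟩ := SetLike.not_le_iff_exists.1 (not_le_of_gt hlt)
    obtain ⟨g, rfl⟩ := (hr ▸ hx : x ∈ (mat (F := F)).range)
    exact hxS ⟨(hS g).1 (heq.ge g.2).1, hx⟩
  intro M hM1 hM2
  set M' := (M.subgroupOf (Cfsg.spGL 2 F)).map mat with hM'
  have hker : ∀ g : Cfsg.spGL 2 F, mat g = 1 → (g : G4) ∈ M := fun g hg =>
    hM1 ⟨(hS g).2 (by rw [hg]; exact one_mem _), g.2⟩
  have h1 : S' ⊓ Cfsg.Geo.omegaGL ⇑(Q5 F) ≤ M' := fun x hx => by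
    obtain ⟨g, rfl⟩ := (hr ▸ hx.2 : x ∈ (mat (F := F)).range)
    exact Subgroup.mem_map_of_mem _ (Subgroup.mem_subgroupOf.2 (hM1 ⟨(hS g).2 hx.1, g.2⟩))
  have h2 : M' ≤ Cfsg.Geo.omegaGL ⇑(Q5 F) := by
    rintro _ ⟨g, -, rfl⟩; exact hr ▸ ⟨g, rfl⟩
  have back : ∀ g : Cfsg.spGL 2 F, mat g ∈ M' → (g : G4) ∈ M := fun g hg => by
    obtain ⟨m, hm, e⟩ := hg
    have := hker (m⁻¹ * g) (by rw [map_mul, map_inv, e, inv_mul_cancel])
    have h' := mul_mem (Subgroup.mem_subgroupOf.1 hm) this
    rwa [Subgroup.coe_mul, Subgroup.coe_inv, mul_inv_cancel_left] at h'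
  rcases hmid M' h1 h2 with e | e
  · refine Or.inl (le_antisymm (fun g hg => ⟨(hS ⟨g, hM2 hg⟩).2 ?_, hM2 hg⟩) hM1)
    exact (e.le (Subgroup.mem_map_of_mem _ (Subgroup.mem_subgroupOf.2 hg) : mat ⟨g, hM2 hg⟩ ∈ M')).1
  · exact Or.inr (le_antisymm hM2 fun g hg => back ⟨g, hg⟩ (e.ge (hr ▸ ⟨_, rfl⟩)))

end Cfsg.Agent.ClassicalMax.Sp4.Five
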