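import Cfsg.Agent.ClassicalMax.NdFour

/-!
The stabiliser of a non-degenerate plane of a five-dimensional quadratic space over a field of odd order at least five:
an overgroup contains the Siegel transformations of a second three-space, a conic point of which yields a singular
vector of the first one with a parameter outside it.
-/

set_option autoImplicit false
set_option linter.unusedSectionVars false
set_option linter.style.haveILetI false

namespace Cfsg.Agent.ClassicalMax.Sp4.NdThree

open Module QuadraticMap Cfsg.Agent.Classical Cfsg.Agent.Classical.Quad Cfsg.Agent.ClassicalMax.RootPlanes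
open Cfsg.Agent.ClassicalMax.NdFour

variable {F V : Type*} [Field F] [Finite F] [AddCommGroup V] [Module F V] [FiniteDimensional F V]
  {Q : QuadraticForm F V} {A B : Submodule F V} {H : Subgroup (oG Q)}

/-- parameters are carried along by elements fixing the line of the centre -/
theorem tS_scale {z d : V} {hz : Q z = 0} {h : oG Q} (hh : h ∈ H) {c : F} (hc : c ≠ 0) (hfz : h.1 z = c • z)
    (hd : d ∈ tS H hz) : h.1 d ∈ tS H hz := by
  have hp0 : polar Q z (h.1 d) = 0 := by
    have h1 : polar Q (h.1 z) (h.1 d) = 0 := by rw [polar_oG]; exact hd.1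
    rw [hfz, polar_smul_left, smul_eq_mul] at h1
    exact (mul_eq_zero.1 h1).resolve_left hc
  refine ⟨hp0, fun a hp => ?_⟩
  have hp' : polar Q z ((a / c) • d) = 0 := polar_perp_smul hd.1 _
  have h1 := mul_mem (mul_mem hh (hd.2 _ hp')) (inv_mem hh)
  rw [conj_sO] at h1
  convert h1 using 1
  exact ext_oG fun v => by
    simp only [sO_apply, hfz, map_smul, map_smul', polar_smul_right, smul_smul, smul_eq_mul]
    match_scalars <;> field_simp

/-- a three-space and an orthogonal plane with their root and reflection elements in the group -/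
structure Sys (Q : QuadraticForm F V) (A B : Submodule F V) (H : Subgroup (oG Q)) : Prop where
  two : (2 : F) ≠ 0
  nd : (polarBilin Q).Nondegenerate
  compl : IsCompl A B
  perp : ∀ a ∈ A, ∀ b ∈ B, polar Q a b = 0
  ndA : NdOn Q A
  ndB : NdOn Q B
  dimA : finrank F A = 3
  dimB : finrank F B = 2
  big : 5 ≤ Nat.card F
  sieg : ∀ (p w : V) (hp : Q p = 0) (hpw : polar Q p w = 0), p ∈ A → w ∈ A → sO hp hpw ∈ H
  refl : ∀ a ∈ A, ∀ b ∈ B, ∀ (ha : Q a ≠ 0) (hb : Q b ≠ 0), Q a = Q b → rO hb * rO ha ∈ H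

namespace Sys

theorem map (h : Sys Q A B H) {g : oG Q} (hg : g ∈ H) :
    Sys Q (A.map g.1.toLinearMap) (B.map g.1.toLinearMap) H where
  two := h.two
  nd := h.nd
  compl := by
    constructor
    · refine Submodule.disjoint_def.2 ?_
      rintro x ⟨a, ha, rfl⟩ ⟨b, hb, e⟩
      rw [eq_zero_of_compl h.compl ha (g.1.injective e ▸ hb), map_zero]
    · rw [codisjoint_iff, ← Submodule.map_sup, h.compl.sup_eq_top, Submodule.map_top]
      exact LinearMap.range_eq_top.2 g.1.surjective
  perp := by rintro _ ⟨a, ha, rfl⟩ _ ⟨b, hb, rfl⟩; exact (polar_oG g a b).trans (h.perp a ha b hb)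
  ndA := by
    rintro _ ⟨x, hx, rfl⟩ hperp
    have : x = 0 := h.ndA x hx fun y hy => by rw [← polar_oG g]; exact hperp _ (Submodule.mem_map_of_mem hy)
    rw [this, map_zero]
  ndB := by
    rintro _ ⟨x, hx, rfl⟩ hperp
    have : x = 0 := h.ndB x hx fun y hy => by rw [← polar_oG g]; exact hperp _ (Submodule.mem_map_of_mem hy)
    rw [this, map_zero]
  dimA := (LinearEquiv.finrank_map_eq g.1 A).trans h.dimA
  dimB := (LinearEquiv.finrank_map_eq g.1 B).trans h.dimB
  big := h.big
  sieg := by
    rintro _ _ hp hpw ⟨p, hpA, rfl⟩ ⟨w, hwA, rfl⟩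
    have h1 := mul_mem (mul_mem hg (h.sieg p w ((g.2 p).symm.trans hp) ((polar_oG g p w).symm.trans hpw) hpA hwA))
      (inv_mem hg)
    rw [conj_sO] at h1
    exact h1
  refl := by
    rintro _ ⟨a, ha, rfl⟩ _ ⟨b, hb, rfl⟩ hqa hqb e
    have ha' : Q a ≠ 0 := fun e0 => hqa ((g.2 a).trans e0)
    have hb' : Q b ≠ 0 := fun e0 => hqb ((g.2 b).trans e0)
    have h1 := mul_mem (mul_mem hg (h.refl a ha b hb ha' hb' ((g.2 a).symm.trans (e.trans (g.2 b))))) (inv_mem hg)
    convert h1 using 1
    refine ext_oG fun x => ?_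
    obtain ⟨x, rfl⟩ := g.1.surjective x
    simp only [oG_mul_apply, oG_inv_apply, rO_apply, map_sub, map_smul, polar_sub_left, polar_smul_left,
      LinearEquiv.coe_coe, polar_oG, g.2 a, g.2 b]

/-- a singular vector of `A` with a parameter outside `A` generates everything -/
theorem eo_out (h : Sys Q A B H) {z w : V} (hzA : z ∈ A) (hz0 : z ≠ 0) (hz : Q z = 0) (hw : w ∈ tS H hz) (hwA : w ∉ A) :
    eo Q ≤ H := by
  obtain ⟨a, ha, b, hb, e⟩ := exists_split h.compl w
  have hb0 : b ≠ 0 := fun hb0 => hwA (by rw [e, hb0, add_zero]; exact ha)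
  have hTA : ∀ y ∈ A, polar Q z y = 0 → y ∈ tS H hz := fun y hy hzy =>
    ⟨hzy, fun c hc => h.sieg _ _ hz hc hzA (A.smul_mem c hy)⟩
  have hza : polar Q z a = 0 := by
    have h1 := hw.1
    rwa [e, polar_add_right, h.perp z hzA b hb, add_zero] at h1
  have hbT : b ∈ tS H hz := by
    have h1 := Submodule.sub_mem _ hw (hTA a ha hza)
    rwa [e, add_sub_cancel_left] at h1
  obtain ⟨f', hf', hzf'⟩ := exists_hyp_pair (Q := Q.comp A.subtype) h.ndA.comp (p := ⟨z, hzA⟩)
    (fun e => hz0 (congrArg Subtype.val e)) hz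
  set f : V := (f' : V) with hfd
  have hfA : f ∈ A := f'.2
  have hf : Q f = 0 := hf'
  have hzf : polar Q z f = 1 := hzf'
  have hdim : finrank F A = 2 + finrank F (perpPair (Q.comp A.subtype) (⟨z, hzA⟩ : A) f') :=
    finrank_perpPair (Q := Q.comp A.subtype) (e := ⟨z, hzA⟩) hz hf' hzf'
  have hnP := nondeg_restrictPair (Q := Q.comp A.subtype) h.ndA.comp (e := ⟨z, hzA⟩) hz hf' hzf'
  obtain ⟨u₀, hu₀⟩ := exists_aniso hnP (by have := h.dimA; omega)
  set u : V := u₀.1.1 with hud
  have hu : u ∈ A := u₀.1.2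
  have hqu : Q u ≠ 0 := hu₀
  have hzu : polar Q z u = 0 := (mem_perpPair.1 u₀.2).1
  have hfu : polar Q f u = 0 := (mem_perpPair.1 u₀.2).2
  obtain ⟨b₁', hb₁'⟩ := exists_value h.ndB.comp h.two (by rw [h.dimB]) hqu
  set b₁ : V := b₁'.1 with hb1d
  have hb₁ : b₁ ∈ B := b₁'.2
  have hqb : Q b₁ = Q u := hb₁'
  have hqb0 : Q b₁ ≠ 0 := by rwa [hqb]
  have hBT : B ≤ tS H hz := by
    refine le_trans (eq_top_of_stable h.ndB (Or.inr (Or.inr ⟨h.dimB, by have := h.big; omega⟩))
      (inf_le_right : tS H hz ⊓ B ≤ B) ⟨hbT, hb⟩ hb0 ?_ ?_) inf_le_left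
    · rintro c hc hcq y ⟨hy, hyB⟩
      set a1 : V := z + Q c • f with ha1
      set a2 : V := z + Q b₁ • f with ha2
      have ha1A : a1 ∈ A := A.add_mem hzA (A.smul_mem _ hfA)
      have ha2A : a2 ∈ A := A.add_mem hzA (A.smul_mem _ hfA)
      have hq1 : Q a1 = Q c := by rw [ha1, map_add_smul, hz, hf, hzf]; ring
      have hq2 : Q a2 = Q b₁ := by rw [ha2, map_add_smul, hz, hf, hzf]; ring
      have ha1q : Q a1 ≠ 0 := by rwa [hq1]
      have ha2q : Q a2 ≠ 0 := by rwa [hq2]
      have hs : (rO hcq * rO ha1q) * (rO hqb0 * rO ha2q) * (rO hqb0 * rO hqu) ∈ H :=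
        mul_mem (mul_mem (h.refl a1 ha1A c hc ha1q hcq hq1) (h.refl a2 ha2A b₁ hb₁ ha2q hqb0 hq2))
          (h.refl u hu b₁ hb₁ hqu hqb0 hqb.symm)
      have eA : ∀ (d : V) (hd : Q d ≠ 0), d ∈ B → ∀ x ∈ A, (rO hd).1 x = x := fun d hd hdB x hx => by
        rw [rO_apply, h.perp x hx d hdB, zero_div, zero_smul, sub_zero]
      have eB : ∀ (d : V) (hd : Q d ≠ 0), d ∈ A → ∀ x ∈ B, (rO hd).1 x = x := fun d hd hdA x hx => by
        rw [rO_apply, polar_comm, h.perp d hdA x hx, zero_div, zero_smul, sub_zero]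
      have hrA : ∀ (d : V) (hd : Q d ≠ 0), d ∈ A → ∀ x ∈ A, (rO hd).1 x ∈ A := fun d hd hdA x hx => by
        rw [rO_apply]; exact A.sub_mem hx (A.smul_mem _ hdA)
      have hrB : ∀ (d : V) (hd : Q d ≠ 0), d ∈ B → ∀ x ∈ B, (rO hd).1 x ∈ B := fun d hd hdB x hx => by
        rw [rO_apply]; exact B.sub_mem hx (B.smul_mem _ hdB)
      have hsz : ((rO hcq * rO ha1q) * (rO hqb0 * rO ha2q) * (rO hqb0 * rO hqu)).1 z = (Q b₁ / Q c) • z := by
        simp only [oG_mul_apply]
        have e1 : (rO hqu).1 z = z := by rw [rO_apply, hzu, zero_div, zero_smul, sub_zero]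
        rw [e1, eA _ hqb0 hb₁ z hzA]
        have e2 : (rO ha2q).1 z = -(Q b₁) • f := by
          rw [rO_apply, hq2, ha2, polar_add_right, polar_smul_right, polar_self', hz, hzf, smul_eq_mul, mul_zero,
            mul_one, zero_add, div_self hqb0]
          module
        rw [e2, eA _ hqb0 hb₁ _ (A.smul_mem _ hfA)]
        have e3 : (rO ha1q).1 (-(Q b₁) • f) = (Q b₁ / Q c) • z := by
          rw [rO_apply, hq1, ha1, polar_smul_left, polar_add_right, polar_smul_right, polar_self', hf,
            polar_comm Q f z, hzf]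
          simp only [smul_eq_mul, mul_zero, add_zero, mul_one]
          match_scalars <;> field_simp <;> ring
        rw [e3, eA _ hcq hc _ (A.smul_mem _ hzA)]
      have hsy : ((rO hcq * rO ha1q) * (rO hqb0 * rO ha2q) * (rO hqb0 * rO hqu)).1 y = (rO hcq).1 y := by
        simp only [oG_mul_apply]
        have e1 := hrB _ hqb0 hb₁ y hyB
        rw [eB _ hqu hu y hyB, eB _ ha2q ha2A _ e1, ← oG_mul_apply (rO hqb0) (rO hqb0), rO_mul_self, oG_one_apply,
          eB _ ha1q ha1A y hyB]
      refine ⟨hsy ▸ tS_scale hs (div_ne_zero hqb0 hcq) hsz hy, hrB _ hcq hc y hyB⟩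
    · rintro p v hpq hpv hp hv y ⟨hy, hyB⟩
      have hid : (sO hpq hpv).1 y = y := by
        by_cases hp0 : p = 0
        · rw [sO_apply]; simp [hp0, polar]
        obtain ⟨s, rfl⟩ := line_in h.ndB hp hv fun x hx hpx => by
          obtain ⟨k, hk⟩ : ∃ k : F, k • p = x := by
            have hne : B ⊓ LinearMap.ker (polarBilin Q p) ≠ B := fun e => hp0 (h.ndB p hp fun z hz =>
              (e.ge hz).2)
            have h1 : finrank F ↥(B ⊓ LinearMap.ker (polarBilin Q p)) ≤ 1 := by
              have := Submodule.finrank_lt_finrank_of_lt (lt_of_le_of_ne inf_le_left hne)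
              have := h.dimB
              omega
            have hpm : p ∈ B ⊓ LinearMap.ker (polarBilin Q p) := ⟨hp, by
              show polar Q p p = 0
              rw [polar_self', hpq, mul_zero]⟩
            have h2 : finrank F ↥(B ⊓ LinearMap.ker (polarBilin Q p)) = 1 := le_antisymm h1
              (Submodule.one_le_finrank_iff.2 (fun e => hp0 (by rwa [e, Submodule.mem_bot] at hpm)))
            obtain ⟨k, hk⟩ := (finrank_eq_one_iff_of_nonzero' (⟨p, hpm⟩ : ↥(B ⊓ LinearMap.ker (polarBilin Q p)))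
              (fun e => hp0 (congrArg Subtype.val e))).1 h2 ⟨x, hx, hpx⟩
            exact ⟨k, congrArg Subtype.val hk⟩
          rw [← hk, polar_smul_right, polar_comm, hpv, smul_zero]
        rw [sO_apply, polar_smul_right, map_smul', hpq, smul_eq_mul]
        match_scalars <;> ring
      rw [hid]
      exact ⟨hy, hyB⟩
  have hfull : Full H z := full_of_tS hz fun y hy => by
    obtain ⟨y₀, hy₀, y₁, hy₁, rfl⟩ := exists_split h.compl y
    rw [polar_add_right, h.perp z hzA y₁ hy₁, add_zero] at hy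
    exact Submodule.add_mem _ (hTA y₀ hy₀ hy) (hBT hy₁)
  have hs := h.sieg f u hf hfu hfA hu
  refine eo_le h.nd (by have := h.dimA; have := Submodule.finrank_le A; omega) hfull (hfull.conj hs) ?_
  rw [sO_apply, polar_add_right, polar_add_right, polar_add_right, polar_self', hz, polar_smul_right, polar_smul_right,
    polar_smul_right, hzu, hzf]
  simpa using hqu

/-- a conic point of the second space with an element moving it onto a singular vector of `A` -/
theorem eo_slide (h : Sys Q A B H) {a b c y z : V} (ha : a ∈ A) (hb : b ∈ B) (hb0 : b ≠ 0) (hc : c ∈ A) (hy : y ∈ B)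
    (hα : Q a ≠ 0) (he : Q (a + b) = 0) (hew : polar Q (a + b) (c + y) = 0) (hca : polar Q c a = 0)
    (hT : ∀ (t : F) (ht : polar Q (a + b) (t • (c + y)) = 0), sO he ht ∈ H)
    (hzA : z ∈ A) (hz : Q z = 0) (hza : polar Q z a = 0) (hzc : polar Q z c ≠ 0) : eo Q ≤ H := by
  classical
  haveI : Fintype F := Fintype.ofFinite F
  set K := polar Q z c with hK
  set α := Q a with hαd
  set ω := Q (c + y) with hω
  obtain ⟨t, ht0, ht2⟩ : ∃ t : F, t ≠ 0 ∧ α * t ^ 2 * K ^ 2 ≠ ω := by
    by_contra! hall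
    obtain ⟨t₀, ht₀⟩ : ∃ t₀ : F, t₀ ≠ 0 := ⟨1, one_ne_zero⟩
    obtain ⟨t, -, ht⟩ : ∃ t ∈ (Finset.univ : Finset F), t ∉ ({0, t₀, -t₀} : Finset F) :=
      Finset.exists_mem_notMem_of_card_lt_card (lt_of_le_of_lt Finset.card_le_three (by
        rw [Finset.card_univ, ← Nat.card_eq_fintype_card]; have := h.big; omega))
    simp only [Finset.mem_insert, Finset.mem_singleton, not_or] at ht
    have e1 := (hall t ht.1).trans (hall t₀ ht₀).symm
    have e2 : t * t = t₀ * t₀ := by
      have hne : α * K ^ 2 ≠ 0 := mul_ne_zero hα (pow_ne_zero _ hzc)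
      exact mul_left_cancel₀ hne (by linear_combination e1)
    rcases mul_self_eq_mul_self_iff.1 e2 with e | e
    exacts [ht.2.1 e, ht.2.2 e]
  set s : F := -(2 * α * t * K)⁻¹ with hs
  have hden : 2 * α * t * K ≠ 0 := mul_ne_zero (mul_ne_zero (mul_ne_zero h.two hα) ht0) hzc
  have hs0 : s ≠ 0 := neg_ne_zero.2 (inv_ne_zero hden)
  have hst : 2 * α * t * K * s = -1 := by rw [hs, mul_neg, mul_inv_cancel₀ hden]
  clear_value s
  have h2 := h.two
  have hzta : polar Q z (t • a) = 0 := polar_perp_smul hza t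
  have hews : polar Q (a + b) (s • (c + y)) = 0 := polar_perp_smul hew s
  set k := sO he hews * sO hz hzta with hk
  have hkH : k ∈ H := mul_mem (hT s hews) (h.sieg z _ hz hzta hzA (A.smul_mem t ha))
  have hzb := h.perp z hzA b hb
  have hzy := h.perp z hzA y hy
  have hab := h.perp a ha b hb
  have hay := h.perp a ha y hy
  have hcb := h.perp c hc b hb
  have hby : polar Q b y = 0 := by
    rw [polar_add_left, polar_add_right, polar_add_right, polar_comm Q a c, hca, hay, polar_comm Q b c, hcb] at hew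
    linear_combination hew
  have hqb : Q b = -α := by
    rw [Quad.map_add', hab, add_zero] at he
    linear_combination he
  have hke : k.1 (a + b) = (2 * α * t) • z := by
    rw [hk, oG_mul_apply, sO_apply hz, sO_apply he]
    simp only [polar_add_left, polar_add_right, polar_smul_left, polar_smul_right, smul_eq_mul, polar_self', hz,
      polar_comm Q a z, hza, polar_comm Q b z, hzb, polar_comm Q b a, hab, hay, hby, polar_comm Q b c, hcb,
      polar_comm Q a c, hca, map_smul', ← hαd, ← hω, hqb, hzy, ← hK, mul_zero, zero_mul, add_zero, zero_add]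
    match_scalars <;> grind
  have hkw : k.1 (c + y) = (-K * t) • a + (-(α * t ^ 2 * K)) • z + (s * (ω - α * t ^ 2 * K ^ 2)) • (a + b) := by
    rw [hk, oG_mul_apply, sO_apply hz, sO_apply he]
    simp only [polar_add_left, polar_add_right, polar_smul_left, polar_smul_right, smul_eq_mul, polar_self', hz,
      polar_comm Q a z, hza, polar_comm Q b z, hzb, polar_comm Q b a, hab, hay, hby, polar_comm Q b c, hcb,
      polar_comm Q a c, hca, map_smul', ← hαd, ← hω, hqb, hzy, polar_comm Q y z, polar_comm Q c z, ← hK, polar_comm Q y a,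
      polar_comm Q y b, polar_comm Q y c, h.perp c hc y hy, mul_zero, zero_mul, add_zero, zero_add]
    have hw2 : 2 * Q c + 2 * Q y = 2 * ω := by
      rw [hω, Quad.map_add', h.perp c hc y hy]; ring
    match_scalars <;> grind
  have hne : 2 * α * t ≠ 0 := mul_ne_zero (mul_ne_zero h.two hα) ht0
  have hwT : k.1 (c + y) ∈ tS H hz := by
    refine ⟨?_, fun x hx => ?_⟩
    · have h1 : polar Q (k.1 (a + b)) (k.1 (c + y)) = 0 := by rw [polar_oG]; exact hew
      rw [hke, polar_smul_left, smul_eq_mul] at h1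
      exact (mul_eq_zero.1 h1).resolve_left hne
    · have hp : polar Q (a + b) ((x / (2 * α * t)) • (c + y)) = 0 := polar_perp_smul hew _
      have h1 := mul_mem (mul_mem hkH (hT _ hp)) (inv_mem hkH)
      rw [conj_sO] at h1
      convert h1 using 1
      exact ext_oG fun v => by
        simp only [sO_apply, hke, map_smul, map_smul', polar_smul_right, smul_smul, smul_eq_mul]
        match_scalars <;> field_simp <;> ring
  refine h.eo_out hzA (fun e => hzc (by rw [hK, e]; simp [polar])) hz hwT ?_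
  rw [hkw]
  intro hm
  have h3 := A.sub_mem hm (A.add_mem (A.smul_mem (-K * t) ha) (A.smul_mem (-(α * t ^ 2 * K)) hzA))
  rw [add_sub_cancel_left, smul_add] at h3
  have h4 := A.sub_mem h3 (A.smul_mem (s * (ω - α * t ^ 2 * K ^ 2)) ha)
  rw [add_sub_cancel_left] at h4
  have h5 := eq_zero_of_compl h.compl h4 (B.smul_mem _ hb)
  rcases smul_eq_zero.1 h5 with e | e
  · exact ht2 (sub_eq_zero.1 ((mul_eq_zero.1 e).resolve_left hs0)).symm
  · exact hb0 e

/-- the orthogonal part of a vector inside a plane is a line -/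
theorem exists_perp_vec (h : Sys Q A B H) {b : V} (hb : b ∈ B) (hqb : Q b ≠ 0) :
    ∃ b' ∈ B, Q b' ≠ 0 ∧ polar Q b b' = 0 := by
  obtain ⟨x, hx, hxb⟩ : ∃ x ∈ B, x ∉ Submodule.span F ({b} : Set V) := by
    refine SetLike.not_le_iff_exists.1 fun hle => ?_
    have h1 := Submodule.finrank_mono hle
    have h2 : finrank F (Submodule.span F ({b} : Set V)) ≤ 1 := (finrank_span_le_card _).trans (by simp)
    have := h.dimB
    omega
  have h2b : polar Q b b ≠ 0 := by rw [polar_self']; exact mul_ne_zero h.two hqb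
  set b' := x - (polar Q b x / polar Q b b) • b with hb'
  have hb'B : b' ∈ B := B.sub_mem hx (B.smul_mem _ hb)
  have hp : polar Q b b' = 0 := by
    rw [hb', polar_sub_right, polar_smul_right, smul_eq_mul, div_mul_cancel₀ _ h2b, sub_self]
  refine ⟨b', hb'B, fun hq => hxb ?_, hp⟩
  have h0 : b' = 0 := h.ndB b' hb'B fun z hz => by
    have hz2 : ∃ s t : F, z = s • b + t • x := by
      have hle : Submodule.span F ({b, x} : Set V) ≤ B := Submodule.span_le.2 (by
        rintro v (rfl | rfl) <;> assumption)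
      have hlt : Submodule.span F ({b} : Set V) < Submodule.span F ({b, x} : Set V) :=
        lt_of_le_of_ne (Submodule.span_mono (by simp)) fun e => hxb (e.ge (Submodule.subset_span (by simp)))
      have h1 := Submodule.finrank_lt_finrank_of_lt hlt
      rw [finrank_span_singleton (fun e => hqb (by rw [e, map_zero]))] at h1
      have heq := Submodule.eq_of_le_of_finrank_le hle (by rw [h.dimB]; omega)
      obtain ⟨s, t, e⟩ := Submodule.mem_span_pair.1 (heq.ge hz)
      exact ⟨s, t, e.symm⟩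
    obtain ⟨s, t, rfl⟩ := hz2
    have hx' : x = b' + (polar Q b x / polar Q b b) • b := by rw [hb']; abel
    rw [polar_add_right, polar_smul_right, polar_smul_right, polar_comm Q b', hp, hx', polar_add_right, polar_self',
      hq, polar_smul_right, polar_comm Q b', hp]
    simp
  rw [hb', sub_eq_zero] at h0
  exact Submodule.mem_span_singleton.2 ⟨_, h0.symm⟩

/-- in an anisotropic plane a value is taken by a vector neither parallel nor orthogonal to a given one -/
theorem exists_skew (h : Sys Q A B H) {a c : V} (ha : a ∈ A) (hα : Q a ≠ 0) (hc : c ∈ A) (hca : polar Q c a = 0)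
    (hc0 : c ≠ 0) (haniso : ∀ x ∈ A, polar Q x a = 0 → Q x = 0 → x = 0) {v : F} (hv : v ≠ 0) :
    ∃ c₁ ∈ A, Q c₁ = v ∧ polar Q c₁ a = 0 ∧ polar Q c₁ c ≠ 0 ∧ ∀ k : F, k • c ≠ c₁ := by
  classical
  haveI : Fintype F := Fintype.ofFinite F
  set P := A ⊓ LinearMap.ker (polarBilin Q a) with hP
  have hmem : ∀ {x}, x ∈ P ↔ x ∈ A ∧ polar Q x a = 0 := fun {x} => by rw [hP, mem_inf_ker, polar_comm Q a]
  have hcP : c ∈ P := hmem.2 ⟨hc, hca⟩
  have hPd : 2 ≤ finrank F P := by
    have := finrank_le_inf_ker A (polarBilin Q a)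
    have := h.dimA
    rw [hP]
    omega
  have hC : Q c ≠ 0 := fun e => hc0 (haniso c hc hca e)
  have hPn : NdOn Q P := fun x hx hperp => by
    refine haniso x (hmem.1 hx).1 (hmem.1 hx).2 ?_
    have h1 := hperp x hx
    rw [polar_self'] at h1
    exact (mul_eq_zero.1 h1).resolve_left h.two
  obtain ⟨c₁', hc₁'⟩ := exists_value hPn.comp h.two hPd hv
  set c₁ : V := c₁'.1 with hc1d
  have hc₁ : c₁ ∈ P := c₁'.2
  have hq₁ : Q c₁ = v := hc₁'
  by_cases hgood : polar Q c₁ c ≠ 0 ∧ ∀ k : F, k • c ≠ c₁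
  · exact ⟨c₁, (hmem.1 hc₁).1, hq₁, (hmem.1 hc₁).2, hgood.1, hgood.2⟩
  obtain ⟨x, hx, hxc⟩ : ∃ x ∈ P, x ∉ Submodule.span F ({c} : Set V) := by
    refine SetLike.not_le_iff_exists.1 fun hle => ?_
    have h1 := Submodule.finrank_mono hle
    have h2 : finrank F (Submodule.span F ({c} : Set V)) ≤ 1 := (finrank_span_le_card _).trans (by simp)
    omega
  have h2c : polar Q c c ≠ 0 := by rw [polar_self']; exact mul_ne_zero h.two hC
  set c₂ := x - (polar Q c x / polar Q c c) • c with hc2
  have hc₂ : c₂ ∈ P := P.sub_mem hx (P.smul_mem _ hcP)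
  have hp : polar Q c c₂ = 0 := by
    rw [hc2, polar_sub_right, polar_smul_right, smul_eq_mul, div_mul_cancel₀ _ h2c, sub_self]
  have hc₂0 : c₂ ≠ 0 := fun e => by
    rw [hc2, sub_eq_zero] at e
    exact hxc (Submodule.mem_span_singleton.2 ⟨_, e.symm⟩)
  have hD : Q c₂ ≠ 0 := fun e => hc₂0 (haniso c₂ (hmem.1 hc₂).1 (hmem.1 hc₂).2 e)
  have hanis : ∀ p r : F, p • c + r • c₂ = 0 → p = 0 ∧ r = 0 := fun p r e => by
    have h1 := congrArg (fun z => polar Q c z) e
    simp [polar_add_right, polar_smul_right, hp, h2c] at h1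
    have h1' : p = 0 := h1.resolve_right fun e' => e'.elim h.two hC
    rw [h1', zero_smul, zero_add] at e
    subst h1' 
    exact ⟨rfl, (smul_eq_zero.1 e).resolve_right hc₂0⟩
  obtain ⟨p₀, r₀, hpr, he1⟩ : ∃ p₀ r₀ : F, (p₀ = 0 ∨ r₀ = 0) ∧ c₁ = p₀ • c + r₀ • c₂ := by
    by_cases hk : ∃ k : F, k • c = c₁
    · obtain ⟨k, hk⟩ := hk
      exact ⟨k, 0, Or.inr rfl, by rw [hk, zero_smul, add_zero]⟩
    push Not at hk
    have hpc : polar Q c₁ c = 0 := by_contra fun hn => hgood ⟨hn, hk⟩
    have hspan : c₁ ∈ Submodule.span F ({c, c₂} : Set V) := by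
      have hle : Submodule.span F ({c, c₂} : Set V) ≤ P := Submodule.span_le.2 (by rintro v (rfl | rfl) <;> assumption)
      have hlt : Submodule.span F ({c} : Set V) < Submodule.span F ({c, c₂} : Set V) :=
        lt_of_le_of_ne (Submodule.span_mono (by simp)) fun e => by
          obtain ⟨k, hk⟩ := Submodule.mem_span_singleton.1 (e.ge (Submodule.subset_span (by simp)) : c₂ ∈ _)
          exact one_ne_zero (α := F) (neg_eq_zero.1 ((hanis k (-1) (by rw [hk]; module)).2))
      have h1 := Submodule.finrank_lt_finrank_of_lt hlt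
      rw [finrank_span_singleton hc0] at h1
      have h3 : finrank F P ≤ 2 := by
        have hne : P ≠ A := fun e => hα (by
          have h2 := (hmem.1 (e.ge ha)).2
          rw [polar_self'] at h2
          exact (mul_eq_zero.1 h2).resolve_left h.two)
        have := Submodule.finrank_lt_finrank_of_lt (lt_of_le_of_ne (hP ▸ inf_le_left : P ≤ A) hne)
        have := h.dimA
        omega
      exact (Submodule.eq_of_le_of_finrank_le hle (by omega)).ge hc₁
    obtain ⟨p, r, e⟩ := Submodule.mem_span_pair.1 hspan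
    refine ⟨p, r, Or.inl ?_, e.symm⟩
    rw [← e, polar_add_left, polar_smul_left, polar_smul_left, polar_comm Q c₂ c, hp, smul_zero, add_zero, smul_eq_mul] at hpc
    exact (mul_eq_zero.1 hpc).resolve_right h2c
  obtain ⟨t, -, ht⟩ : ∃ t ∈ (Finset.univ : Finset F), t ∉
      (insert 0 (if hsq : ∃ t₀, t₀ * t₀ * Q c₂ = Q c then {hsq.choose, -hsq.choose} else ∅) : Finset F) := by
    refine Finset.exists_mem_notMem_of_card_lt_card (lt_of_le_of_lt (Finset.card_insert_le _ _) ?_)
    rw [Finset.card_univ]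
    have : 5 ≤ Fintype.card F := by rw [← Nat.card_eq_fintype_card]; exact h.big
    split_ifs with hsq
    · have : ({hsq.choose, -hsq.choose} : Finset F).card ≤ 2 := Finset.card_le_two
      omega
    · simp; omega
  rw [Finset.mem_insert, not_or] at ht
  have htC : t * t * Q c₂ ≠ Q c := fun e => by
    have hsq : ∃ t₀, t₀ * t₀ * Q c₂ = Q c := ⟨t, e⟩
    refine ht.2 ?_
    rw [dif_pos hsq]
    have e2 : t * t = hsq.choose * hsq.choose := mul_right_cancel₀ hD (e.trans hsq.choose_spec.symm)
    rcases mul_self_eq_mul_self_iff.1 e2 with e3 | e3 <;> rw [e3] <;> simp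
  set d := c + t • c₂ with hd
  have hqd : Q d = Q c + t * t * Q c₂ := by rw [hd, map_add_smul, hp]; ring
  have hdP : d ∈ P := P.add_mem hcP (P.smul_mem _ hc₂)
  have hd0 : Q d ≠ 0 := fun e => by
    have h0 := haniso d (hmem.1 hdP).1 (hmem.1 hdP).2 e
    exact one_ne_zero (α := F) (hanis 1 t (by rw [one_smul]; exact h0)).1
  set n := (rO hd0).1 c₁ with hn
  have hnP : n ∈ P := by rw [hn, rO_apply]; exact P.sub_mem hc₁ (P.smul_mem _ hdP)
  have hne : n = (p₀ - (2 * p₀ * Q c + 2 * t * r₀ * Q c₂) / Q d) • c +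
      (r₀ - (2 * p₀ * Q c + 2 * t * r₀ * Q c₂) / Q d * t) • c₂ := by
    have hpd : polar Q c₁ d = 2 * p₀ * Q c + 2 * t * r₀ * Q c₂ := by
      rw [he1, hd]
      simp [polar_add_left, polar_add_right, polar_smul_left, polar_smul_right, polar_self', hp, polar_comm Q c₂ c]
      ring
    rw [hn, rO_apply, hpd, he1, hd]
    module
  have hne0 : p₀ ≠ 0 ∨ r₀ ≠ 0 := by
    by_contra! h0
    rw [h0.1, h0.2, zero_smul, zero_smul, add_zero] at he1
    exact hv (by rw [← hq₁, he1, map_zero])
  have hboth : p₀ - (2 * p₀ * Q c + 2 * t * r₀ * Q c₂) / Q d ≠ 0 ∧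
      r₀ - (2 * p₀ * Q c + 2 * t * r₀ * Q c₂) / Q d * t ≠ 0 := by
    have hfac : t * t * Q c₂ - Q c ≠ 0 := sub_ne_zero.2 htC
    rcases hpr with rfl | rfl
    · have hr : r₀ ≠ 0 := hne0.resolve_left (fun h => h rfl)
      constructor <;> intro e <;> field_simp at e
      · exact mul_ne_zero (mul_ne_zero (mul_ne_zero h.two ht.1) hr) hD (by linear_combination -e)
      · exact mul_ne_zero hr hfac (by rw [hqd] at e; linear_combination -e)
    · have hr : p₀ ≠ 0 := hne0.resolve_right (fun h => h rfl)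
      constructor <;> intro e <;> field_simp at e
      · exact mul_ne_zero hr hfac (by rw [hqd] at e; linear_combination e)
      · exact mul_ne_zero (mul_ne_zero (mul_ne_zero h.two ht.1) hr) hC (by linear_combination -e)
  refine ⟨n, (hmem.1 hnP).1, by rw [hn, (rO hd0).2, hq₁], (hmem.1 hnP).2, ?_, fun k e => hboth.2 ?_⟩
  · rw [hne, polar_add_left, polar_smul_left, polar_smul_left, polar_comm Q c₂ c, hp, smul_zero, add_zero]
    exact mul_ne_zero hboth.1 h2c
  · rw [hne] at e
    have h1 := hanis (p₀ - (2 * p₀ * Q c + 2 * t * r₀ * Q c₂) / Q d - k)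
      (r₀ - (2 * p₀ * Q c + 2 * t * r₀ * Q c₂) / Q d * t) (by linear_combination (norm := module) -e)
    exact h1.2

theorem sO_line {e w : V} (he : Q e = 0) (hew : polar Q e w = 0) (x : V) :
    (sO he hew).1 x - x = (polar Q x w - Q w * polar Q x e) • e + (-polar Q x e) • w := by
  rw [sO_apply]; module

/-- a second space, meeting the plane in at most a line, generates everything -/
theorem eo_second (h : Sys Q A B H) {A' B' : Submodule F V} (h' : Sys Q A' B' H) (hne : A' ≠ A)
    (hBA : finrank F ↥(A' ⊓ B) ≤ 1) : eo Q ≤ H := by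
  classical
  by_contra hno
  have h2 := h.two
  have hd3 := h.dimA
  have hd3' := h'.dimA
  have base : ∀ {z w : V}, z ∈ A → z ≠ 0 → ∀ (hz : Q z = 0), w ∈ tS H hz → w ∈ A := fun hzA hz0 hz hw =>
    by_contra fun hwA => hno (h.eo_out hzA hz0 hz hw hwA)
  have base' : ∀ {z w : V}, z ∈ A' → z ≠ 0 → ∀ (hz : Q z = 0), w ∈ tS H hz → w ∈ A' := fun hzA hz0 hz hw =>
    by_contra fun hwA => hno (h'.eo_out hzA hz0 hz hw hwA)
  have hAB : ∀ {x : V}, x ∈ A → x ∈ B → x = 0 := fun hx hx' => eq_zero_of_compl h.compl hx hx'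
  -- the orthogonal line of a point of the second conic
  have hw' : ∀ e ∈ A', Q e = 0 → e ≠ 0 → ∃ w ∈ A', polar Q e w = 0 ∧ Q w ≠ 0 ∧
      ∀ y ∈ A', polar Q e y = 0 → ∃ s t : F, y = s • e + t • w := by
    intro e he heq he0
    obtain ⟨f', hf', hef'⟩ := exists_hyp_pair (Q := Q.comp A'.subtype) h'.ndA.comp (p := ⟨e, he⟩)
      (fun e0 => he0 (congrArg Subtype.val e0)) heq
    have hdim : finrank F A' = 2 + finrank F (perpPair (Q.comp A'.subtype) (⟨e, he⟩ : A') f') :=
      finrank_perpPair (Q := Q.comp A'.subtype) (e := ⟨e, he⟩) heq hf' hef'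
    have hnP := nondeg_restrictPair (Q := Q.comp A'.subtype) h'.ndA.comp (e := ⟨e, he⟩) heq hf' hef'
    obtain ⟨u₀, hu₀⟩ := exists_aniso hnP (by omega)
    set w : V := u₀.1.1
    have hwA : w ∈ A' := u₀.1.2
    have hew : polar Q e w = 0 := (mem_perpPair.1 u₀.2).1
    have hqw : Q w ≠ 0 := hu₀
    refine ⟨w, hwA, hew, hqw, fun y hy hey => ?_⟩
    have hK : A' ⊓ LinearMap.ker (polarBilin Q e) ≠ A' := fun e1 => he0 (h'.ndA e he fun z hz => (e1.ge hz).2)
    have h1 := Submodule.finrank_lt_finrank_of_lt (lt_of_le_of_ne inf_le_left hK)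
    have hle : Submodule.span F ({e, w} : Set V) ≤ A' ⊓ LinearMap.ker (polarBilin Q e) := Submodule.span_le.2 (by
      rintro v (rfl | rfl)
      · refine ⟨he, ?_⟩; show polar Q v v = 0; rw [polar_self', heq, mul_zero]
      · exact ⟨hwA, hew⟩)
    have hlt : Submodule.span F ({e} : Set V) < Submodule.span F ({e, w} : Set V) :=
      lt_of_le_of_ne (Submodule.span_mono (by simp)) fun e1 => by
        obtain ⟨k, hk⟩ := Submodule.mem_span_singleton.1 (e1.ge (Submodule.subset_span (by simp)) : w ∈ _)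
        exact hqw (by rw [← hk, map_smul', heq, mul_zero])
    have h3 := Submodule.finrank_lt_finrank_of_lt hlt
    rw [finrank_span_singleton he0] at h3
    obtain ⟨s, t, e2⟩ := Submodule.mem_span_pair.1 ((Submodule.eq_of_le_of_finrank_le hle (by omega)).ge ⟨hy, hey⟩)
    exact ⟨s, t, e2.symm⟩
  have main : ∀ e ∈ A', Q e = 0 → e ∉ A → ∃ w ∈ A', w ∈ B ∧ w ≠ 0 ∧ polar Q e w = 0 := by
    intro e he heq heA
    have he0 : e ≠ 0 := fun e0 => heA (e0 ▸ A.zero_mem)
    obtain ⟨w, hwA', hew, hqw, hspan⟩ := hw' e he heq he0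
    have hwT : w ∈ tS H heq := ⟨hew, fun c hc => h'.sieg e _ heq hc he (A'.smul_mem c hwA')⟩
    have moved : ∀ {g : oG Q}, g ∈ H → g.1 e = e → ∃ s t : F, g.1 w = s • e + t • w := fun {g} hg hge => by
      have h1 := base' he he0 heq (tS_fix hg hge hwT)
      exact hspan _ h1 (by rw [← hge, polar_oG]; exact hew)
    obtain ⟨a, ha, b, hb, hab⟩ := exists_split h.compl e
    have hb0 : b ≠ 0 := fun e0 => heA (by rw [hab, e0, add_zero]; exact ha)
    have hpe : ∀ x ∈ A, polar Q e x = polar Q a x := fun x hx => by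
      rw [hab, polar_add_left, polar_comm Q b x, h.perp x hx b hb, add_zero]
    obtain ⟨c₀, hc₀, y₀, hy₀, hwy⟩ := exists_split h.compl w
    by_cases hα : Q a = 0
    · exfalso
      have hqb : Q b = 0 := by rw [hab, Quad.map_add', hα, h.perp a ha b hb] at heq; simpa using heq
      by_cases ha0 : a = 0
      · -- a point of the plane
        have heB : e ∈ B := by rw [hab, ha0, zero_add]; exact hb
        have hc₀0 : c₀ ≠ 0 := fun e0 => by
          have hwB : w ∈ B := by rw [hwy, e0, zero_add]; exact hy₀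
          obtain ⟨s, hs⟩ := line_in h.ndB heB hwB fun x hx hex => by
            obtain ⟨s, hs⟩ : ∃ s : F, s • e = x := by
              have hne' : B ⊓ LinearMap.ker (polarBilin Q e) ≠ B := fun e1 => he0 (h.ndB e heB fun z hz => (e1.ge hz).2)
              have h1 := Submodule.finrank_lt_finrank_of_lt (lt_of_le_of_ne inf_le_left hne')
              have hle : Submodule.span F ({e} : Set V) ≤ B ⊓ LinearMap.ker (polarBilin Q e) := Submodule.span_le.2 (by
                rintro v rfl
                refine ⟨heB, ?_⟩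
                show polar Q v v = 0
                rw [polar_self', heq, mul_zero])
              have := h.dimB
              exact Submodule.mem_span_singleton.1 ((Submodule.eq_of_le_of_finrank_le hle
                (by rw [finrank_span_singleton he0]; omega)).ge ⟨hx, hex⟩)
            rw [← hs, polar_smul_right, polar_comm, hew, smul_zero]
          exact hqw (by rw [← hs, map_smul', heq, mul_zero])
        obtain ⟨z, hzA, hz, hzc⟩ : ∃ z ∈ A, Q z = 0 ∧ polar Q c₀ z ≠ 0 := by
          by_contra! hall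
          exact hc₀0 (h.ndA c₀ hc₀ fun x hx => le_of_sing h2 h.ndA (by omega) (LinearMap.ker (polarBilin Q c₀))
            (fun v hv hvq => hall v hv hvq) hx)
        have hz0 : z ≠ 0 := fun e0 => hzc (by rw [e0]; simp [polar])
        obtain ⟨f', hf', hzf'⟩ := exists_hyp_pair (Q := Q.comp A.subtype) h.ndA.comp (p := ⟨z, hzA⟩)
          (fun e0 => hz0 (congrArg Subtype.val e0)) hz
        have hdim : finrank F A = 2 + finrank F (perpPair (Q.comp A.subtype) (⟨z, hzA⟩ : A) f') :=
          finrank_perpPair (Q := Q.comp A.subtype) (e := ⟨z, hzA⟩) hz hf' hzf'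
        have hnP := nondeg_restrictPair (Q := Q.comp A.subtype) h.ndA.comp (e := ⟨z, hzA⟩) hz hf' hzf'
        obtain ⟨u₀, hu₀⟩ := exists_aniso hnP (by omega)
        set u : V := u₀.1.1
        have huA : u ∈ A := u₀.1.2
        have hzu : polar Q z u = 0 := (mem_perpPair.1 u₀.2).1
        have hqu : Q u ≠ 0 := hu₀
        have hg := h.sieg z u hz hzu hzA huA
        obtain ⟨s, t, hst⟩ := moved hg (by
          rw [sO_apply, polar_comm Q e u, h.perp u huA e heB, polar_comm Q e z, h.perp z hzA e heB]; simp)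
        have hs' := sO_line hz hzu w
        rw [hst] at hs'
        have hwz : polar Q w z = polar Q c₀ z := by
          rw [hwy, polar_add_left, polar_comm Q y₀, h.perp z hzA y₀ hy₀, add_zero]
        have hmem : s • e + (t - 1) • y₀ = (polar Q w u - Q u * polar Q w z) • z + (-polar Q w z) • u -
            (t - 1) • c₀ := by
          rw [← hs', hwy]; module
        have hB1 : s • e + (t - 1) • y₀ ∈ B := B.add_mem (B.smul_mem _ heB) (B.smul_mem _ hy₀)
        have hA1 := hAB (hmem ▸ A.sub_mem (A.add_mem (A.smul_mem _ hzA) (A.smul_mem _ huA)) (A.smul_mem _ hc₀)) hB1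
        rw [hmem, hwz] at hA1
        have h1 := congrArg (fun x => polar Q z x) hA1
        simp only [polar_sub_right, polar_add_right, polar_smul_right, polar_self', hz, hzu, mul_zero, smul_zero,
          zero_add, smul_eq_mul, polar_zero_right, polar_comm Q z c₀] at h1
        have ht1 : t - 1 = 0 := by
          have h1' : (t - 1) * polar Q c₀ z = 0 := by linear_combination -h1
          exact (mul_eq_zero.1 h1').resolve_right hzc
        rw [ht1, zero_smul, sub_zero] at hA1
        have h3 := congrArg (fun x => polar Q u x) hA1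
        simp only [polar_add_right, polar_smul_right, polar_self', polar_comm Q u z, hzu, mul_zero, smul_zero,
          zero_add, smul_eq_mul, polar_zero_right] at h3
        exact mul_ne_zero (neg_ne_zero.2 hzc) (mul_ne_zero h2 hqu) h3
      -- a point over a point of the first conic
      have hea : polar Q e a = 0 := by rw [hpe a ha, polar_self', hα, mul_zero]
      have hwe' : polar Q a c₀ + polar Q b y₀ = 0 := by
        rw [hab, hwy, polar_add_left, polar_add_right, polar_add_right, polar_comm Q b c₀, h.perp a ha y₀ hy₀,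
          h.perp c₀ hc₀ b hb] at hew
        linear_combination hew
      have claim : ∀ x ∈ A, polar Q a x = 0 →
          ∃ s t : F, (polar Q w x - Q x * polar Q w a) • a + (-polar Q w a) • x = s • e + t • w := by
        intro x hx hax
        have hg := h.sieg a x hα hax ha hx
        obtain ⟨s, t, hst⟩ := moved hg (by rw [sO_apply, hpe x hx, hax, hea]; simp)
        have hs' := sO_line hα hax w
        rw [hst] at hs'
        exact ⟨s, t - 1, by rw [← hs']; module⟩
      obtain ⟨f', hf', haf'⟩ := exists_hyp_pair (Q := Q.comp A.subtype) h.ndA.comp (p := ⟨a, ha⟩)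
        (fun e0 => ha0 (congrArg Subtype.val e0)) hα
      have hdim : finrank F A = 2 + finrank F (perpPair (Q.comp A.subtype) (⟨a, ha⟩ : A) f') :=
        finrank_perpPair (Q := Q.comp A.subtype) (e := ⟨a, ha⟩) hα hf' haf'
      have hnP := nondeg_restrictPair (Q := Q.comp A.subtype) h.ndA.comp (e := ⟨a, ha⟩) hα hf' haf'
      obtain ⟨u₀, hu₀'⟩ := exists_aniso hnP (by omega)
      have hu₀ : Q u₀.1.1 ≠ 0 := hu₀'
      have hau : polar Q a u₀.1.1 = 0 := (mem_perpPair.1 u₀.2).1
      have hwa : polar Q w a = 0 := by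
        by_contra hwa
        obtain ⟨s, t, hst⟩ := claim u₀.1.1 u₀.1.2 hau
        have hqs : Q (s • e + t • w) = t * t * Q w := by
          rw [map_add_smul, map_smul', polar_smul_left, hew, heq, smul_eq_mul]; ring
        have hql : Q (s • e + t • w) = polar Q w a * polar Q w a * Q u₀.1.1 := by
          rw [← hst, map_add_smul, map_smul', polar_smul_left, hα, hau, smul_eq_mul]
          simp
        have ht : t ≠ 0 := fun e0 => mul_ne_zero (mul_ne_zero hwa hwa) hu₀ (by
          rw [← hql, hqs, e0]; simp)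
        have h1 := congrArg (fun z => polar Q a z) hst
        simp only [polar_add_right, polar_smul_right, polar_self', hα, hau, mul_zero, smul_zero,
          zero_add, smul_eq_mul, polar_comm Q a e, hea, add_zero] at h1
        rw [polar_comm Q a w] at h1
        exact mul_ne_zero ht hwa h1.symm
      have hx0 : ∀ x ∈ A, polar Q a x = 0 → polar Q c₀ x = 0 := by
        intro x hx hax
        by_contra hcx
        obtain ⟨s, t, hst⟩ := claim x hx hax
        have hwx : polar Q w x = polar Q c₀ x := by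
          rw [hwy, polar_add_left, polar_comm Q y₀, h.perp x hx y₀ hy₀, add_zero]
        rw [hwa, hwx, mul_zero, sub_zero, neg_zero, zero_smul, add_zero] at hst
        have hqs : Q (s • e + t • w) = t * t * Q w := by
          rw [map_add_smul, map_smul', polar_smul_left, hew, heq, smul_eq_mul]; ring
        rw [← hst, map_smul', hα, mul_zero] at hqs
        have ht : t = 0 := mul_self_eq_zero.1 ((mul_eq_zero.1 hqs.symm).resolve_right hqw)
        rw [ht, zero_smul, add_zero] at hst
        have hs : s ≠ 0 := fun e0 => by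
          rw [e0, zero_smul] at hst
          exact ha0 ((smul_eq_zero.1 hst).resolve_left hcx)
        exact heA ((Submodule.smul_mem_iff _ hs).1 (hst ▸ A.smul_mem _ ha))
      obtain ⟨s, hs⟩ := line_in h.ndA ha hc₀ fun x hx hax => hx0 x hx hax
      have hac : polar Q a c₀ = 0 := by rw [← hs, polar_smul_right, polar_self', hα, mul_zero, smul_zero]
      have hby : polar Q b y₀ = 0 := by rw [hac, zero_add] at hwe'; exact hwe'
      have hne' : B ⊓ LinearMap.ker (polarBilin Q b) ≠ B := fun e1 => hb0 (h.ndB b hb fun z hz => (e1.ge hz).2)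
      have h1 := Submodule.finrank_lt_finrank_of_lt (lt_of_le_of_ne inf_le_left hne')
      have hle : Submodule.span F ({b} : Set V) ≤ B ⊓ LinearMap.ker (polarBilin Q b) := Submodule.span_le.2 (by
        rintro v rfl
        refine ⟨hb, ?_⟩
        show polar Q v v = 0
        rw [polar_self', hqb, mul_zero])
      have := h.dimB
      obtain ⟨r, hr⟩ := Submodule.mem_span_singleton.1 ((Submodule.eq_of_le_of_finrank_le hle
        (by rw [finrank_span_singleton hb0]; omega)).ge ⟨hy₀, hby⟩)
      refine hqw ?_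
      rw [hwy, Quad.map_add', ← hs, ← hr, map_smul', map_smul', hα, hqb, polar_smul_left, polar_smul_right,
        h.perp a ha b hb]
      simp
    -- a point over an external or internal point of the first conic
    set κ := -polar Q w a / (2 * Q a) with hκ
    set w₁ := w + κ • e with hw1
    set c := c₀ + κ • a with hcd
    set y := y₀ + κ • b with hyd
    have hcA : c ∈ A := A.add_mem hc₀ (A.smul_mem _ ha)
    have hyB : y ∈ B := B.add_mem hy₀ (B.smul_mem _ hb)
    have hw1e : w₁ = c + y := by rw [hw1, hcd, hyd, hwy, hab]; module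
    have hw1A : w₁ ∈ A' := A'.add_mem hwA' (A'.smul_mem _ he)
    have hew1 : polar Q e w₁ = 0 := by
      rw [hw1, polar_add_right, polar_smul_right, hew, polar_self', heq, mul_zero, smul_zero, add_zero]
    have hqw1 : Q w₁ = Q w := by rw [hw1, map_add_smul, polar_comm Q w e, hew, heq]; ring
    have hca : polar Q c a = 0 := by
      have hwa : polar Q w a = polar Q c₀ a := by
        rw [hwy, polar_add_left, polar_comm Q y₀, h.perp a ha y₀ hy₀, add_zero]
      rw [hcd, polar_add_left, polar_smul_left, polar_self', smul_eq_mul, hκ, hwa]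
      field_simp
      ring
    clear_value c y
    have hby : polar Q b y = 0 := by
      rw [hw1e, hab, polar_add_left, polar_add_right, polar_add_right, polar_comm Q a c, hca, h.perp a ha y hyB,
        polar_comm Q b c, h.perp c hcA b hb] at hew1
      linear_combination hew1
    have hqb : Q b ≠ 0 := by
      rw [hab, Quad.map_add', h.perp a ha b hb, add_zero] at heq
      intro e0
      exact hα (by rw [e0, add_zero] at heq; exact heq)
    by_cases hc0 : c = 0
    · refine ⟨w₁, hw1A, by rw [hw1e, hc0, zero_add]; exact hyB, fun e0 => hqw ?_, hew1⟩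
      rw [← hqw1, e0, map_zero]
    exfalso
    have hTw : ∀ (t : F) (ht : polar Q (a + b) (t • (c + y)) = 0), sO (hab ▸ heq) ht ∈ H := fun t ht =>
      h'.sieg _ _ _ ht (hab ▸ he) (A'.smul_mem t (hw1e ▸ hw1A))
    by_cases hslide : ∃ z ∈ A, Q z = 0 ∧ polar Q z a = 0 ∧ polar Q z c ≠ 0
    · obtain ⟨z, hzA, hz, hza, hzc⟩ := hslide
      exact hno (h.eo_slide ha hb hb0 hcA hyB hα (hab ▸ heq) (by rw [← hab, ← hw1e]; exact hew1) hca hTw hzA hz hza hzc)
    push Not at hslide
    have haniso : ∀ x ∈ A, polar Q x a = 0 → Q x = 0 → x = 0 := by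
      intro x hx hxa hxq
      by_contra hx0
      have hxc := hslide x hx hxq hxa
      set P := A ⊓ LinearMap.ker (polarBilin Q a) with hP
      have hmem : ∀ {x}, x ∈ P ↔ x ∈ A ∧ polar Q x a = 0 := fun {x} => by rw [hP, mem_inf_ker, polar_comm Q a]
      have hPn : NdOn Q P := fun v hv hperp => h.ndA v (hmem.1 hv).1 fun z hz => by
        have h2a : polar Q a a ≠ 0 := by rw [polar_self']; exact mul_ne_zero h2 hα
        have hz' : z - (polar Q z a / polar Q a a) • a ∈ P := hmem.2 ⟨A.sub_mem hz (A.smul_mem _ ha), by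
          rw [polar_sub_left, polar_smul_left, smul_eq_mul, div_mul_cancel₀ _ h2a, sub_self]⟩
        have := hperp _ hz'
        rwa [polar_sub_right, polar_smul_right, (hmem.1 hv).2, smul_zero, sub_zero] at this
      obtain ⟨f, hf, hxf⟩ := exists_hyp_pair (Q := Q.comp P.subtype) hPn.comp (p := ⟨x, hmem.2 ⟨hx, hxa⟩⟩)
        (fun e0 => hx0 (congrArg Subtype.val e0)) hxq
      have hfc := hslide f (hmem.1 f.2).1 hf (hmem.1 f.2).2
      have hxf' : polar Q x f = 1 := hxf
      have hPd : finrank F P ≤ 2 := by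
        have hne' : P ≠ A := fun e0 => hα (by
          have h3 := (hmem.1 (e0.ge ha)).2
          rw [polar_self'] at h3
          exact (mul_eq_zero.1 h3).resolve_left h2)
        have := Submodule.finrank_lt_finrank_of_lt (lt_of_le_of_ne (hP ▸ inf_le_left : P ≤ A) hne')
        omega
      have hle : Submodule.span F ({x, (f : V)} : Set V) ≤ P := Submodule.span_le.2 (by
        rintro v (rfl | rfl)
        exacts [hmem.2 ⟨hx, hxa⟩, f.2])
      have hlt : Submodule.span F ({x} : Set V) < Submodule.span F ({x, (f : V)} : Set V) :=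
        lt_of_le_of_ne (Submodule.span_mono (by simp)) fun e1 => by
          obtain ⟨k, hk⟩ := Submodule.mem_span_singleton.1 (e1.ge (Submodule.subset_span (by simp)) : (f : V) ∈ _)
          rw [← hk, polar_smul_right, polar_self', hxq] at hxf'
          simp at hxf'
      have h3 := Submodule.finrank_lt_finrank_of_lt hlt
      rw [finrank_span_singleton hx0] at h3
      refine hc0 (hPn c (hmem.2 ⟨hcA, hca⟩) fun z hz => ?_)
      obtain ⟨s, t, rfl⟩ := Submodule.mem_span_pair.1 ((Submodule.eq_of_le_of_finrank_le hle (by omega)).ge hz)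
      rw [polar_add_right, polar_smul_right, polar_smul_right, polar_comm Q c x, hxc, polar_comm Q c f, hfc]
      simp
    obtain ⟨b', hb'B, hqb', hbb', hyy⟩ : ∃ b' ∈ B, Q b' ≠ 0 ∧ polar Q b b' = 0 ∧ ∃ μ : F, y = μ • b' := by
      by_cases hy0 : y = 0
      · obtain ⟨b', hb', hq', hp'⟩ := h.exists_perp_vec hb hqb
        exact ⟨b', hb', hq', hp', 0, by rw [zero_smul, hy0]⟩
      refine ⟨y, hyB, fun e0 => hy0 (h.ndB y hyB fun z hz => ?_), hby, 1, (one_smul F y).symm⟩
      have hle : Submodule.span F ({b, y} : Set V) ≤ B := Submodule.span_le.2 (by rintro v (rfl | rfl) <;> assumption)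
      have hlt : Submodule.span F ({b} : Set V) < Submodule.span F ({b, y} : Set V) :=
        lt_of_le_of_ne (Submodule.span_mono (by simp)) fun e1 => by
          obtain ⟨k, hk⟩ := Submodule.mem_span_singleton.1 (e1.ge (Submodule.subset_span (by simp)) : y ∈ _)
          rw [← hk, map_smul', mul_eq_zero] at e0
          exact hy0 (by rw [← hk, mul_self_eq_zero.1 (e0.resolve_right hqb), zero_smul])
      have h3 := Submodule.finrank_lt_finrank_of_lt hlt
      rw [finrank_span_singleton hb0] at h3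
      have := h.dimB
      obtain ⟨s, t, rfl⟩ := Submodule.mem_span_pair.1 ((Submodule.eq_of_le_of_finrank_le hle (by omega)).ge hz)
      rw [polar_add_right, polar_smul_right, polar_smul_right, polar_comm Q y b, hby, polar_self', e0]
      simp
    obtain ⟨μ, hμ⟩ := hyy
    obtain ⟨c₁, hc₁A, hq₁, hc₁a, hc₁c, hc₁k⟩ := h.exists_skew ha hα hcA hca hc0 haniso hqb'
    have hq₁0 : Q c₁ ≠ 0 := by rwa [hq₁]
    have hg : rO hqb' * rO hq₁0 ∈ H := h.refl c₁ hc₁A b' hb'B hq₁0 hqb' hq₁
    have hfixA : ∀ x ∈ A, (rO hqb').1 x = x := fun x hx => by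
      rw [rO_apply, h.perp x hx b' hb'B, zero_div, zero_smul, sub_zero]
    have hfixB : ∀ x ∈ B, (rO hq₁0).1 x = x := fun x hx => by
      rw [rO_apply, polar_comm, h.perp c₁ hc₁A x hx, zero_div, zero_smul, sub_zero]
    have hge : (rO hqb' * rO hq₁0).1 e = e := by
      rw [oG_mul_apply, hab, map_add, hfixB b hb]
      have : (rO hq₁0).1 a = a := by rw [rO_apply, polar_comm, hc₁a, zero_div, zero_smul, sub_zero]
      rw [this, map_add, hfixA a ha, rO_apply hqb' b, hbb', zero_div, zero_smul, sub_zero]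
    obtain ⟨s, t, hst⟩ := moved hg hge
    have hgw : (rO hqb' * rO hq₁0).1 w₁ = (c - (polar Q c c₁ / Q c₁) • c₁) + (-y) := by
      rw [oG_mul_apply, hw1e, map_add, hfixB y hyB, rO_apply hq₁0 c, map_add,
        hfixA _ (A.sub_mem hcA (A.smul_mem _ hc₁A)), rO_apply hqb' y, hμ, polar_smul_left, polar_self', smul_eq_mul]
      match_scalars <;> field_simp <;> ring
    have hgw' : (rO hqb' * rO hq₁0).1 w₁ = (s + κ - t * κ) • e + t • w₁ := by
      rw [hw1, map_add, map_smul, hge, hst]; module
    rw [hgw, hw1e, hab] at hgw'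
    have hA1 : (c - (polar Q c c₁ / Q c₁) • c₁) - ((s + κ - t * κ) • a + t • c) =
        (s + κ - t * κ) • b + t • y + y := by linear_combination (norm := module) hgw'
    have hA0 := hAB (A.sub_mem (A.sub_mem hcA (A.smul_mem _ hc₁A)) (A.add_mem (A.smul_mem _ ha) (A.smul_mem _ hcA)))
      (hA1 ▸ B.add_mem (B.add_mem (B.smul_mem _ hb) (B.smul_mem _ hyB)) hyB)
    have h1 := congrArg (fun z => polar Q z a) hA0
    simp [polar_sub_left, polar_add_left, polar_smul_left, hca, hc₁a, polar_self', h2, hα] at h1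
    rw [h1, zero_smul, zero_add] at hA0
    have hk : polar Q c c₁ / Q c₁ ≠ 0 := div_ne_zero (by rwa [polar_comm] at hc₁c) hq₁0
    refine hc₁k ((1 - t) / (polar Q c c₁ / Q c₁)) ?_
    apply smul_right_injective V hk
    beta_reduce
    rw [smul_smul, mul_div_cancel₀ _ hk]
    linear_combination (norm := module) hA0
  -- some point is off the first space
  have hout : ∀ b₀ : V, b₀ ∈ A' → b₀ ∈ B → b₀ ≠ 0 → ∃ e ∈ A', Q e = 0 ∧ polar Q b₀ e ≠ 0 := by
    intro b₀ hb₀ _ hb₀0
    by_contra! hall
    exact hb₀0 (h'.ndA b₀ hb₀ fun x hx => le_of_sing h2 h'.ndA (by omega) (LinearMap.ker (polarBilin Q b₀)) hall hx)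
  obtain ⟨e₁, he₁, heq₁, he₁A⟩ : ∃ e ∈ A', Q e = 0 ∧ e ∉ A := by
    by_contra! hall
    exact hne (Submodule.eq_of_le_of_finrank_eq (le_of_sing h2 h'.ndA (by omega) A hall) (hd3'.trans hd3.symm))
  obtain ⟨b₀, hb₀, hb₀B, hb₀0, -⟩ := main e₁ he₁ heq₁ he₁A
  obtain ⟨e, he, heq, hbe⟩ := hout b₀ hb₀ hb₀B hb₀0
  obtain ⟨w, hwA', hwB, hw0, hew⟩ := main e he heq fun heA => hbe (by rw [polar_comm]; exact h.perp e heA b₀ hb₀B)
  have h1 : finrank F ↥(A' ⊓ B) = 1 := le_antisymm hBA
    (Submodule.one_le_finrank_iff.2 fun e0 => hb₀0 (by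
      have : b₀ ∈ A' ⊓ B := ⟨hb₀, hb₀B⟩
      rwa [e0, Submodule.mem_bot] at this))
  obtain ⟨k, hk⟩ := (finrank_eq_one_iff_of_nonzero' (⟨b₀, hb₀, hb₀B⟩ : ↥(A' ⊓ B))
    (fun e0 => hb₀0 (congrArg Subtype.val e0))).1 h1 ⟨w, hwA', hwB⟩
  have hk' : k • b₀ = w := congrArg Subtype.val hk
  have hk0 : k ≠ 0 := fun e0 => hw0 (by rw [← hk', e0, zero_smul])
  rw [← hk', polar_smul_right, smul_eq_mul, polar_comm] at hew
  exact hbe ((mul_eq_zero.1 hew).resolve_left hk0)

/-- an element moving the three-space generates everything -/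
theorem eo_over (h : Sys Q A B H) {g : oG Q} (hg : g ∈ H) (hgA : A.map g.1.toLinearMap ≠ A) : eo Q ≤ H := by
  set A' := A.map g.1.toLinearMap with hA'
  have h' : Sys Q A' (B.map g.1.toLinearMap) H := h.map hg
  rcases Nat.lt_or_ge (finrank F ↥(A' ⊓ B)) 2 with hlt | hge
  · exact h.eo_second h' hgA (by omega)
  have hBA' : B ≤ A' := by
    have := Submodule.eq_of_le_of_finrank_le (inf_le_right : A' ⊓ B ≤ B) (by rw [h.dimB]; exact hge)
    exact this.ge.trans inf_le_left
  obtain ⟨x₀, hx₀, hx₀0⟩ := Submodule.exists_mem_ne_zero_of_ne_bot (show A ⊓ A' ≠ ⊥ from fun e => by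
    have h1 := Submodule.finrank_sup_add_finrank_inf_eq A A'
    have h2 := Submodule.finrank_le (A ⊔ A')
    have h3 := Submodule.finrank_add_eq_of_isCompl h.compl
    rw [e, finrank_bot, h.dimA, h'.dimA] at h1
    rw [h.dimA, h.dimB] at h3
    omega)
  obtain ⟨hxA, hxA'⟩ := hx₀
  obtain ⟨e, he, heq, hxe⟩ : ∃ e ∈ A', Q e = 0 ∧ polar Q x₀ e ≠ 0 := by
    by_contra! hall
    exact hx₀0 (h'.ndA x₀ hxA' fun x hx =>
      le_of_sing h.two h'.ndA (by rw [h'.dimA]) (LinearMap.ker (polarBilin Q x₀)) hall hx)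
  obtain ⟨a, ha, b, hb, hab⟩ := exists_split h.compl e
  obtain ⟨b', hb', hqb', hpb⟩ : ∃ b' ∈ B, b' ≠ 0 ∧ polar Q b b' = 0 := by
    have h1 := finrank_le_inf_ker B (polarBilin Q b)
    have := h.dimB
    obtain ⟨v, hv, hv0⟩ := Submodule.exists_mem_ne_zero_of_ne_bot (show B ⊓ LinearMap.ker (polarBilin Q b) ≠ ⊥ from
      fun e0 => by rw [e0, finrank_bot] at h1; omega)
    exact ⟨v, hv.1, hv0, hv.2⟩
  have heb' : polar Q e b' = 0 := by rw [hab, polar_add_left, h.perp a ha b' hb', hpb, add_zero]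
  set k := sO heq heb' with hk
  have hkH : k ∈ H := h'.sieg e b' heq heb' he (hBA' hb')
  have hkx : k.1 x₀ - x₀ = (-(Q b' * polar Q x₀ e)) • e + (-polar Q x₀ e) • b' := by
    rw [hk, sO_line, h.perp x₀ hxA b' hb', zero_sub]
  set A'' := A.map k.1.toLinearMap with hA''
  have h'' : Sys Q A'' (B.map k.1.toLinearMap) H := h.map hkH
  refine h.eo_second h'' (fun e0 => ?_) ?_
  · have hm : k.1 x₀ ∈ A := e0.le (Submodule.mem_map_of_mem hxA)
    have h1 := A.sub_mem hm hxA
    rw [hkx] at h1
    have hpxe' : polar Q x₀ e ≠ 0 := hxe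
    generalize polar Q x₀ e = γ at h1 hpxe'
    rw [hab] at h1
    have h2 := A.sub_mem h1 (A.smul_mem (-(Q b' * γ)) ha)
    rw [show (-(Q b' * γ)) • (a + b) + (-γ) • b' - (-(Q b' * γ)) • a =
      (-(Q b' * γ)) • b + (-γ) • b' by module] at h2
    have h3 := eq_zero_of_compl h.compl h2 (B.add_mem (B.smul_mem _ hb) (B.smul_mem _ hb'))
    have hpxe : γ ≠ 0 := hpxe'
    by_cases hq : Q b' = 0
    · rw [hq, zero_mul, neg_zero, zero_smul, zero_add] at h3
      exact hqb' ((smul_eq_zero.1 h3).resolve_left (neg_ne_zero.2 hpxe))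
    · have h4 := congrArg (fun z => polar Q b' z) h3
      simp [polar_add_right, polar_smul_right, polar_comm Q b' b, hpb, polar_self', hq, h.two, hpxe] at h4
  · set P := A ⊓ LinearMap.ker (polarBilin Q a) with hP
    have hPk : ∀ x ∈ P, k.1 x = x := fun x hx => by
      have h1 : polar Q x e = 0 := by
        rw [hab, polar_add_right, h.perp x hx.1 b hb, add_zero, polar_comm]; exact hx.2
      rw [hk, sO_apply, h1, h.perp x hx.1 b' hb']; simp
    have hle : P ≤ A'' ⊓ A := fun x hx => ⟨⟨x, hx.1, hPk x hx⟩, hx.1⟩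
    have hPd := finrank_le_inf_ker A (polarBilin Q a)
    have h1 := Submodule.finrank_mono hle
    have h2 := Submodule.finrank_sup_add_finrank_inf_eq (A'' ⊓ A) (A'' ⊓ B)
    have h3 : (A'' ⊓ A) ⊓ (A'' ⊓ B) = ⊥ := eq_bot_iff.2 fun x hx => eq_zero_of_compl h.compl hx.1.2 hx.2.2
    rw [h3, finrank_bot] at h2
    have h4 : finrank F ↥(A'' ⊓ A ⊔ A'' ⊓ B) ≤ finrank F A'' := Submodule.finrank_mono (sup_le inf_le_left inf_le_left)
    have := h''.dimA
    have := h.dimA
    rw [hP] at h1
    omega

end Sys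

section Matrix

variable {ι : Type} [Fintype ι] [DecidableEq ι] {F : Type*} [Field F] [Fintype F]

/-- orthogonal complementary subspaces of dimensions three and two -/
structure Dec3 (Q : QuadraticForm F (ι → F)) (A B : Submodule F (ι → F)) : Prop where
  two : (2 : F) ≠ 0
  nd : (polarBilin Q).Nondegenerate
  compl : IsCompl A B
  perp : ∀ a ∈ A, ∀ b ∈ B, polar Q a b = 0
  ndA : NdOn Q A
  ndB : NdOn Q B
  dimA : finrank F A = 3
  dimB : finrank F B = 2
  big : 5 ≤ Nat.card F

/-- maximality of the stabiliser of a non-degenerate plane in dimension five -/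
theorem isMaximalIn_plane (q : QuadraticForm F (ι → F)) {A B W : Submodule F (ι → F)} (h : Dec3 q A B)
    (hW : W = A ∨ W = B) (hn : 5 ≤ Fintype.card ι) :
    Cfsg.Geo.IsMaximalIn (Cfsg.Geo.omegaGL ⇑q) (Cfsg.Geo.subspaceStabilizer W ⊓ Cfsg.Geo.omegaGL ⇑q) := by
  have hB0 : B ≠ ⊥ := fun e => by have := h.dimB; rw [e, finrank_bot] at this; omega
  have hn' : finrank F (ι → F) = Fintype.card ι := Module.finrank_fintype_fun_eq_card F
  have hperpA : ∀ g : oG q, B.map g.1.toLinearMap = B → A.map g.1.toLinearMap = A := fun g hB => by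
    refine map_eq_of_le rfl fun x hx => ?_
    obtain ⟨a', ha', b', hb', e⟩ := exists_split h.compl (g.1 x)
    have : b' = 0 := h.ndB b' hb' fun y hy => by
      obtain ⟨y', hy', rfl⟩ : y ∈ B.map g.1.toLinearMap := hB.symm ▸ hy
      have h1 : polar q (g.1 x) (g.1 y') = polar q b' (g.1 y') := by
        rw [e, polar_add_left, show polar q a' (g.1 y') = 0 from h.perp a' ha' _ hy, zero_add]
      show polar q b' (g.1 y') = 0
      rw [← h1, polar_oG, h.perp x hx y' hy']
    rw [e, this, add_zero]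
    exact ha'
  have hperpB : ∀ g : oG q, A.map g.1.toLinearMap = A → B.map g.1.toLinearMap = B := fun g hA => by
    refine map_eq_of_le rfl fun x hx => ?_
    obtain ⟨a', ha', b', hb', e⟩ := exists_split h.compl (g.1 x)
    have : a' = 0 := h.ndA a' ha' fun y hy => by
      obtain ⟨y', hy', rfl⟩ : y ∈ A.map g.1.toLinearMap := hA.symm ▸ hy
      have h1 : polar q (g.1 x) (g.1 y') = polar q a' (g.1 y') := by
        rw [e, polar_add_left, polar_comm q b', show polar q (g.1 y') b' = 0 from h.perp _ hy b' hb', add_zero]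
      show polar q a' (g.1 y') = 0
      rw [← h1, polar_oG, polar_comm, h.perp y' hy' x hx]
    rw [e, this, zero_add]
    exact hb'
  have hmem : ∀ g : oG q, (glEquiv ι F).symm g.1 ∈ Cfsg.Geo.subspaceStabilizer W ↔ A.map g.1.toLinearMap = A := by
    intro g
    have hx : ∀ x, Matrix.mulVec (Cfsg.glToMat ι F ((glEquiv ι F).symm g.1)) x = g.1 x := fun x => by
      conv_rhs => rw [← (glEquiv ι F).apply_symm_apply g.1]
      rw [glEquiv_apply]
      rfl
    have hiff : (glEquiv ι F).symm g.1 ∈ Cfsg.Geo.subspaceStabilizer W ↔ W.map g.1.toLinearMap = W := by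
      refine ⟨fun h => map_eq_of_le rfl fun v hv => hx v ▸ (h v).1 hv, fun h x => ?_⟩
      rw [hx]
      refine ⟨fun hv => h.le (Submodule.mem_map_of_mem hv), fun hv => ?_⟩
      obtain ⟨w, hw, e⟩ := h.ge hv
      exact g.1.injective e ▸ hw
    rw [hiff]
    rcases hW with rfl | rfl
    · exact Iff.rfl
    · exact ⟨hperpA g, hperpB g⟩
  have hex : Nat.card F ≠ 2 ∨ finrank F (ι → F) ≠ 4 := Or.inr (by omega)
  refine isMaximalIn_omega q h.nd hn _ ?_ fun H hH g hg hgS => ?_
  · obtain ⟨b, hb, hb0⟩ := Submodule.exists_mem_ne_zero_of_ne_bot hB0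
    obtain ⟨d, hd, hd0, hdq⟩ := exists_sing_mem (Q := q) A (by have := h.dimA; omega)
    obtain ⟨x', -, hdx⟩ := exists_hyp_pair (Q := q.comp A.subtype) h.ndA.comp (p := ⟨d, hd⟩)
      (fun e => hd0 (congrArg Subtype.val e)) hdq
    have hdx' : polar q d (x' : ι → F) = 1 := hdx
    have hdb : polar q d b = 0 := h.perp d hd b hb
    refine ⟨sO hdq hdb, sO_mem_commutator h.nd hex _ _, fun hm => hb0 ?_⟩
    have h1 : (sO hdq hdb).1 x' ∈ A := ((hmem _).1 hm).le (Submodule.mem_map_of_mem x'.2)
    rw [sO_apply, h.perp x' x'.2 b hb, polar_comm q (x' : ι → F) d, hdx'] at h1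
    simp only [zero_smul, add_zero, mul_one] at h1
    have h2 := A.sub_mem (A.sub_mem h1 x'.2) (A.smul_mem (-q b) hd)
    rw [show (x' : ι → F) + (-1 : F) • b + (-q b) • d - x' - (-q b) • d = (-1 : F) • b by module] at h2
    have h3 := eq_zero_of_compl h.compl h2 (B.smul_mem _ hb)
    simpa using h3
  exact Sys.eo_over (A := A) (B := B) ⟨h.two, h.nd, h.compl, h.perp, h.ndA, h.ndB, h.dimA, h.dimB, h.big,
    fun p w hp hpw hpA hwA => hH _ (sO_mem_commutator h.nd hex _ _) ((hmem _).2 (map_eq_of_le rfl fun x hx => by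
      rw [sO_apply]
      exact A.add_mem (A.add_mem (A.add_mem hx (A.smul_mem _ hpA)) (A.smul_mem _ hwA)) (A.smul_mem _ hpA))),
    fun a ha b hb haq hbq e => hH _ (rO_mul_mem_commutator h.nd hbq haq (t := 1) (by rw [e]; ring))
      ((hmem _).2 (map_eq_of_le rfl fun x hx => by
        rw [oG_mul_apply, rO_apply haq, rO_apply hbq]
        have hx' : x - (polar q x a / q a) • a ∈ A := A.sub_mem hx (A.smul_mem _ ha)
        rw [h.perp _ hx' b hb, zero_div, zero_smul, sub_zero]
        exact hx'))⟩ hg (fun e => hgS ((hmem g).2 e))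

end Matrix

end Cfsg.Agent.ClassicalMax.Sp4.NdThree
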