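import Cfsg.Agent.ClassicalMax.Symplectic

/-!
Stabilisers of totally isotropic subspaces are maximal in symplectic groups of every rank.
-/

set_option autoImplicit false

namespace Cfsg.Agent.ClassicalMax.Sp4

open Cfsg.Agent.Classical Cfsg.Agent.ClassicalMax Module

/-- stabilisers of totally isotropic subspaces, any rank -/
theorem maximal_parabolic {F : Type*} [Field F] [Fintype F] (m : ℕ) (W : Submodule F (Fin m ⊕ Fin m → F)) (hW0 : W ≠ ⊥) (hW : Cfsg.Geo.IsTotallySingularFor (Cfsg.sympForm m F) W) : Cfsg.Geo.IsMaximalIn (Cfsg.spGL m F) (Cfsg.Geo.subspaceStabilizer W ⊓ Cfsg.spGL m F) := by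
  classical
  set B := sympB m F
  have hA : B.IsAlt := sympB_isAlt
  have hB : B.Nondegenerate := sympB_nondeg
  have hts : ∀ x ∈ W, ∀ y ∈ W, B x y = 0 := fun x hx y hy => by
    rw [show B x y = Cfsg.sympForm m F x y from sympB_apply x y]; exact hW x hx y hy
  have repr' : ∀ φ : Dual F (Fin m ⊕ Fin m → F), ∃ y, ∀ x, B x y = φ x := fun φ =>
    (Alt.exists_repr hA (Alt.ndon_top hB) φ).imp fun y hy x => hy.2 x trivial
  obtain ⟨w₁, hw₁, hw₁0⟩ := W.exists_mem_ne_zero_of_ne_bot hW0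
  obtain ⟨u, hu⟩ : ∃ u, B w₁ u ≠ 0 := by by_contra! hc; exact hw₁0 (hB.1 w₁ hc)
  refine isMaximalIn_spGL _ ⟨u, 1, fun hk => ?_⟩ fun M hK ⟨g, hgM, hgi, hgK⟩ => ?_
  · have := ((symm_mem_subspaceStabilizer_iff W _).1 hk w₁).1 hw₁
    rw [Alt.tv_apply, one_mul, W.add_mem_iff_right hw₁, W.smul_mem_iff hu] at this
    exact hu (hts _ hw₁ _ this)
  have hperp : ∀ v, (∀ x ∈ W, B x v = 0) → v ∈ centres hA M := fun v hv c =>
    hK _ (Alt.tv_mem_isoGroup hA v c) (stab_of_le W _ fun x hx => by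
      rw [Alt.tv_apply, hv x hx, mul_zero, zero_smul, add_zero]; exact hx)
  -- a centre outside the orthogonal
  obtain ⟨v0, hv0, w0, hw0, hvw0⟩ : ∃ v0 ∈ centres hA M, ∃ w ∈ W, B w v0 ≠ 0 := by
    by_contra! hc
    let U : Submodule F (Fin m ⊕ Fin m → F) := ⨅ x ∈ W, LinearMap.ker (B x)
    have hU : ∀ v, v ∈ U ↔ ∀ x ∈ W, B x v = 0 := fun v => by simp [U]
    have hmapU : ∀ v ∈ U, g v ∈ U := fun v hv =>
      (hU _).2 fun x hx => hc _ (map_mem_centres (hperp v ((hU v).1 hv)) hgM hgi) x hx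
    have hback : ∀ v, g v ∈ U → v ∈ U := fun v hv => by
      have hmap : U.map g.toLinearMap = U :=
        Submodule.eq_of_le_of_finrank_eq (by rintro _ ⟨w, hw, rfl⟩; exact hmapU w hw) (LinearEquiv.finrank_map_eq _ U)
      rw [← hmap] at hv
      obtain ⟨w, hw, e⟩ := hv
      exact g.injective e ▸ hw
    refine hgK (stab_of_le W g fun w hw => ?_)
    by_contra hgw
    obtain ⟨φ, hφ, hφW⟩ := W.exists_le_ker_of_notMem hgw
    obtain ⟨y, hy⟩ := repr' φ
    obtain ⟨y', rfl⟩ := g.surjective y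
    have hyU : g y' ∈ U := (hU _).2 fun x hx => by rw [hy]; exact LinearMap.mem_ker.1 (hφW hx)
    have := (hU _).1 (hback y' hyU) w hw
    rw [← hgi w y', hy] at this
    exact hφ this
  intro u'
  by_cases hu' : ∀ x ∈ W, B x u' = 0
  · exact hperp u' hu'
  push Not at hu'
  obtain ⟨w1, hw1, hw1u⟩ := hu'
  -- a move of the functional of `v0` on `W` to the one of `u'`
  have hφ0 : (B.flip v0).comp W.subtype ≠ 0 := fun h => hvw0 (LinearMap.congr_fun h ⟨w0, hw0⟩)
  have hψ0 : (B.flip u').comp W.subtype ≠ 0 := fun h => hw1u (LinearMap.congr_fun h ⟨w1, hw1⟩)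
  have key : ∀ φ : Dual F W, φ ≠ 0 → ∃ z : W, φ z = 1 := fun φ hφ => by
    obtain ⟨z, hz⟩ : ∃ z, φ z ≠ 0 := by by_contra! hc; exact hφ (LinearMap.ext hc)
    exact ⟨(φ z)⁻¹ • z, by rw [map_smul, smul_eq_mul, inv_mul_cancel₀ hz]⟩
  obtain ⟨A, hA'⟩ : ∃ A : W ≃ₗ[F] W, ∀ z, B (A z : Fin m ⊕ Fin m → F) u' = B (z : Fin m ⊕ Fin m → F) v0 := by
    set φ := (B.flip v0).comp W.subtype
    set ψ := (B.flip u').comp W.subtype
    obtain ⟨c, hc1, hc2⟩ : ∃ c, ψ c = 1 ∧ φ c ≠ 0 := by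
      obtain ⟨a, ha⟩ := key φ hφ0
      obtain ⟨b, hb⟩ := key ψ hψ0
      by_cases h1 : φ b = 0
      · by_cases h2 : ψ a = 0
        · exact ⟨b + a, by rw [map_add, hb, h2, add_zero], by rw [map_add, h1, ha, zero_add]; exact one_ne_zero⟩
        · exact ⟨(ψ a)⁻¹ • a, by rw [map_smul, smul_eq_mul, inv_mul_cancel₀ h2], by
            rw [map_smul, ha, smul_eq_mul, mul_one]; exact inv_ne_zero h2⟩
      · exact ⟨b, hb, h1⟩
    let L : W →ₗ[F] W := LinearMap.transvection (φ - ψ) c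
    have hL : ∀ z, ψ (L z) = φ z := fun z => by
      simp only [L, LinearMap.transvection.apply, map_add, map_smul, hc1, LinearMap.sub_apply, smul_eq_mul, mul_one]
      ring
    have hinj : Function.Injective L := by
      rw [← LinearMap.ker_eq_bot, Submodule.eq_bot_iff]
      intro z hz
      have h0 : φ z = 0 := by rw [← hL, LinearMap.mem_ker.1 hz, map_zero]
      have hz' : z + (φ z - ψ z) • c = 0 := LinearMap.mem_ker.1 hz
      replace hz' : z = ψ z • c := by rw [h0, zero_sub] at hz'; linear_combination (norm := module) hz'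
      have h1 : ψ z * φ c = 0 := by rw [← smul_eq_mul, ← map_smul, ← hz', h0]
      rw [hz', (mul_eq_zero.1 h1).resolve_right hc2, zero_smul]
    exact ⟨LinearEquiv.ofInjectiveEndo L hinj, hL⟩
  have hv0W : v0 ∉ W := fun h => hvw0 (hts _ hw0 _ h)
  have hu'W : u' ∉ W := fun h => hw1u (hts _ hw1 _ h)
  set X := W ⊔ Submodule.span F {v0}
  obtain ⟨χ, hχ, hχW⟩ := W.exists_le_ker_of_notMem hv0W
  obtain ⟨A', hA''⟩ := LinearMap.exists_extend (W.subtype.comp A.toLinearMap)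
  let Φ : (Fin m ⊕ Fin m → F) →ₗ[F] (Fin m ⊕ Fin m → F) :=
    (((χ v0)⁻¹ • χ).smulRight u') + A'.comp (LinearMap.id - ((χ v0)⁻¹ • χ).smulRight v0)
  have hΦW : ∀ z : W, Φ z = (A z : Fin m ⊕ Fin m → F) := fun z => by
    have h0 : χ z = 0 := LinearMap.mem_ker.1 (hχW z.2)
    have := LinearMap.congr_fun hA'' z
    simpa [Φ, h0] using this
  have hΦv : Φ v0 = u' := by simp [Φ, inv_mul_cancel₀ hχ]
  have hX : ∀ x : X, ∃ z : W, ∃ k : F, (x : Fin m ⊕ Fin m → F) = z + k • v0 := fun x => by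
    obtain ⟨a, ha, b, hb, hab⟩ := Submodule.mem_sup.1 x.2
    obtain ⟨k, rfl⟩ := Submodule.mem_span_singleton.1 hb
    exact ⟨⟨a, ha⟩, k, hab.symm⟩
  obtain ⟨t, ht, htx⟩ := Alt.witt hA _ ⊤ rfl (Alt.ndon_top hB) X le_top (Φ.comp X.subtype) (by
      rw [← LinearMap.ker_eq_bot, Submodule.eq_bot_iff]
      intro x hx
      obtain ⟨z, k, hzk⟩ := hX x
      rw [LinearMap.mem_ker, LinearMap.comp_apply, Submodule.coe_subtype, hzk, map_add, map_smul, hΦW, hΦv] at hx
      rcases eq_or_ne k 0 with rfl | hk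
      · rw [zero_smul, add_zero] at hx hzk
        have : A z = 0 := Subtype.ext hx
        rw [A.map_eq_zero_iff] at this
        exact Subtype.ext (by rw [hzk, this]; rfl)
      · refine absurd ?_ hu'W
        have : u' = -k⁻¹ • (A z : Fin m ⊕ Fin m → F) := by
          rw [eq_neg_of_add_eq_zero_left hx, smul_neg, neg_smul, neg_neg, smul_smul, inv_mul_cancel₀ hk, one_smul]
        rw [this]; exact W.smul_mem _ (A z).2)
    (fun _ => trivial) (by
      intro x x'
      obtain ⟨z, k, hzk⟩ := hX x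
      obtain ⟨z', k', hzk'⟩ := hX x'
      simp only [LinearMap.comp_apply, Submodule.coe_subtype, hzk, hzk', map_add, map_smul, hΦW, hΦv,
        LinearMap.add_apply, LinearMap.smul_apply, hA', smul_eq_mul, hA u', hA v0, hts _ (A z).2 _ (A z').2, hts _ z.2 _ z'.2,
        Alt.neg' hA (A z' : Fin m ⊕ Fin m → F) u', Alt.neg' hA (z' : Fin m ⊕ Fin m → F) v0])
  have hti := Alt.TG_le_isoGroup hA _ ht
  have htW : ∀ w ∈ W, t w ∈ W := fun w hw => by
    have := htx ⟨w, Submodule.mem_sup_left hw⟩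
    simp only [LinearMap.comp_apply, Submodule.coe_subtype] at this
    rw [this, show Φ w = _ from hΦW ⟨w, hw⟩]
    exact (A _).2
  have htv : t v0 = u' := by
    have := htx ⟨v0, Submodule.mem_sup_right (Submodule.mem_span_singleton_self v0)⟩
    simpa [hΦv] using this
  exact htv ▸ map_mem_centres hv0 (hK t hti (stab_of_le W t htW)) hti

end Cfsg.Agent.ClassicalMax.Sp4
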