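import Cfsg.Prelude.Def_GeometricClasses
import Cfsg.Agent.Classical.AltSimple
import Cfsg.Agent.Classical.SympGroup

/-!
Isometry groups of quadratic forms in symplectic groups in characteristic two, any rank at least two.
-/

set_option autoImplicit false
open Cfsg

namespace Cfsg.Agent.ClassicalMax.Sp4

open Cfsg.Agent.Classical Module
open scoped Matrix

section

variable {F V : Type*} [Field F] [AddCommGroup V] [Module F V] {B : LinearMap.BilinForm F V} {Q : V → F}

/-- the standing hypotheses: `Q` polarises to the alternating form `B`, in characteristic two over a perfect field -/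
structure Setup (B : LinearMap.BilinForm F V) (Q : V → F) : Prop where
  two : (2 : F) = 0
  sqrt : ∀ x : F, ∃ y, y ^ 2 = x
  smul : ∀ (c : F) (v : V), Q (c • v) = c ^ 2 * Q v
  add : ∀ u v, Q (u + v) = Q u + Q v + B u v
  alt : B.IsAlt
  nd : B.Nondegenerate
  dim : 4 ≤ finrank F V
  big : ∀ a b : F, ∃ t : F, t ≠ a ∧ t ≠ b

lemma Setup.symm (hS : Setup B Q) (x y : V) : B x y = B y x := by
  rw [Alt.neg' hS.alt y x]
  linear_combination -(B y x) * hS.two

lemma Setup.q_zero (hS : Setup B Q) : Q 0 = 0 := by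
  simpa using hS.smul 0 0

lemma Setup.q_tv (hS : Setup B Q) (a : V) (c : F) (x : V) :
    Q (Alt.tv hS.alt a c x) = Q x + (c ^ 2 * Q a + c) * B x a ^ 2 := by
  rw [Alt.tv_apply, hS.add, hS.smul, map_smul, smul_eq_mul]
  ring

/-- the common orthogonal of a pair -/
noncomputable def perp2 (B : LinearMap.BilinForm F V) (a b : V) : Submodule F V :=
  LinearMap.ker (B a) ⊓ LinearMap.ker (B b)

lemma mem_perp2 {a b x : V} : x ∈ perp2 B a b ↔ B a x = 0 ∧ B b x = 0 := by
  simp [perp2]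

lemma finrank_ker_inf [FiniteDimensional F V] (W : Submodule F V) (f : V →ₗ[F] F) :
    finrank F W ≤ finrank F ↥(W ⊓ LinearMap.ker f) + 1 := by
  have h1 := (f.comp W.subtype).finrank_range_add_finrank_ker
  have h2 : finrank F (LinearMap.range (f.comp W.subtype)) ≤ 1 :=
    (Submodule.finrank_le _).trans (le_of_eq (Module.finrank_self F))
  have h3 : finrank F (LinearMap.ker (f.comp W.subtype)) = finrank F ↥(W ⊓ LinearMap.ker f) := by
    rw [LinearMap.ker_comp, ← Submodule.finrank_map_subtype_eq W, Submodule.map_comap_subtype]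
  omega

/-- a large subspace takes every value -/
lemma Setup.exists_value [FiniteDimensional F V] (hS : Setup B Q) (W : Submodule F V)
    (hW : finrank F V < 2 * finrank F W) (t : F) : ∃ w ∈ W, Q w = t := by
  by_cases h : ∃ w ∈ W, Q w ≠ 0
  · obtain ⟨w, hw, hw0⟩ := h
    obtain ⟨y, hy⟩ := hS.sqrt (t / Q w)
    exact ⟨y • w, W.smul_mem y hw, by rw [hS.smul, hy, div_mul_cancel₀ _ hw0]⟩
  · exfalso
    push Not at h
    have hle : W ≤ B.orthogonal W := fun w hw u hu => by
      have := hS.add u w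
      rw [h _ (W.add_mem hu hw), h u hu, h w hw] at this
      show B u w = 0
      simpa using this.symm
    have h1 := Submodule.finrank_mono hle
    rw [LinearMap.BilinForm.finrank_orthogonal hS.nd] at h1
    omega

lemma exists_two_ne {f g : V →ₗ[F] F} (hf : f ≠ 0) (hg : g ≠ 0) : ∃ v, f v ≠ 0 ∧ g v ≠ 0 := by
  obtain ⟨v, hv⟩ := not_forall.1 fun h => hf (LinearMap.ext h)
  obtain ⟨w, hw⟩ := not_forall.1 fun h => hg (LinearMap.ext h)
  simp only [LinearMap.zero_apply] at hv hw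
  by_cases h1 : g v = 0
  · by_cases h2 : f w = 0
    · exact ⟨v + w, by simpa [h2] using hv, by simpa [h1] using hw⟩
    · exact ⟨w, h2, hw⟩
  · exact ⟨v, hv, h1⟩

lemma Setup.functional_ne (hS : Setup B Q) {a : V} (ha : a ≠ 0) : B a ≠ 0 := fun h =>
  ha (hS.nd.1 a fun y => by rw [h]; rfl)

/-- the orthogonal of a hyperbolic pair takes every value -/
lemma Setup.exists_value_pair [FiniteDimensional F V] (hS : Setup B Q) {a b : V} (hab : B a b ≠ 0) (t : F) :
    ∃ w ∈ perp2 B a b, Q w = t := by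
  by_cases h : ∃ w ∈ perp2 B a b, Q w ≠ 0
  · obtain ⟨w, hw, hw0⟩ := h
    obtain ⟨y, hy⟩ := hS.sqrt (t / Q w)
    exact ⟨y • w, Submodule.smul_mem _ y hw, by rw [hS.smul, hy, div_mul_cancel₀ _ hw0]⟩
  exfalso
  push Not at h
  obtain ⟨x, hx, hx0⟩ := (perp2 B a b).exists_mem_ne_zero_of_ne_bot (fun e => by
    have h1 := finrank_ker_inf (LinearMap.ker (B a)) (B b)
    have h2 := finrank_ker_inf ⊤ (B a)
    rw [finrank_top, top_inf_eq] at h2
    rw [show LinearMap.ker (B a) ⊓ LinearMap.ker (B b) = ⊥ from e, finrank_bot] at h1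
    have := hS.dim
    omega)
  obtain ⟨hxa, hxb⟩ := mem_perp2.1 hx
  refine hx0 (hS.nd.1 x fun y => ?_)
  set y' := y + (B b y / B a b) • a + (B a y / B a b) • b with hy'
  have hy'm : y' ∈ perp2 B a b := by
    refine mem_perp2.2 ⟨?_, ?_⟩
    · simp only [hy', map_add, map_smul, smul_eq_mul, hS.alt a, mul_zero, add_zero, div_mul_cancel₀ _ hab]
      linear_combination (B a y) * hS.two
    · simp only [hy', map_add, map_smul, smul_eq_mul, hS.alt b, mul_zero, add_zero, hS.symm b a, div_mul_cancel₀ _ hab]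
      linear_combination (B b y) * hS.two
  have e := hS.add x y'
  rw [h _ (Submodule.add_mem _ hx hy'm), h x hx, h _ hy'm, zero_add, zero_add, hy', map_add, map_add, map_smul, map_smul,
    hS.symm x a, hS.symm x b, hxa, hxb, smul_zero, smul_zero, add_zero, add_zero] at e
  exact e.symm

/-- the isometries of `Q` act transitively on non-zero vectors of a given value -/
lemma Setup.transitive [FiniteDimensional F V] (hS : Setup B Q) {a a' : V} (ha : a ≠ 0) (ha' : a' ≠ 0) (h : Q a = Q a') :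
    ∃ g ∈ Alt.isoGroup B, (∀ x, Q (g x) = Q x) ∧ g a = a' := by
  have key : ∀ {a a' : V}, Q a = Q a' → B a a' ≠ 0 →
      ∃ g ∈ Alt.isoGroup B, (∀ x, Q (g x) = Q x) ∧ g a = a' := by
    intro a a' h hne
    have hQ : Q (a + a') = B a a' := by
      rw [hS.add, h]; linear_combination Q a' * hS.two
    refine ⟨Alt.tv hS.alt (a + a') (B a a')⁻¹, Alt.tv_mem_isoGroup _ _ _, fun x => ?_, ?_⟩
    · rw [hS.q_tv, hQ]
      have : (B a a')⁻¹ ^ 2 * B a a' + (B a a')⁻¹ = 0 := by
        field_simp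
        linear_combination hS.two
      rw [this, zero_mul, add_zero]
    · rw [Alt.tv_apply, map_add, hS.alt a, zero_add, inv_mul_cancel₀ hne, one_smul, ← add_assoc, ← two_smul F a, hS.two, zero_smul,
        zero_add]
  by_cases hne : B a a' = 0
  swap
  · exact key h hne
  obtain ⟨v, hv, hv'⟩ := exists_two_ne (hS.functional_ne ha) (hS.functional_ne ha')
  obtain ⟨c, hc1, hc2, hcQ⟩ : ∃ c, B a c ≠ 0 ∧ B a' c ≠ 0 ∧ Q c = Q a := by
    by_cases h0 : Q a = 0
    · refine ⟨v + (Q v / B a v) • a, ?_, ?_, ?_⟩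
      · simpa [hS.alt a] using hv
      · simpa [hS.symm a' a, hne] using hv'
      · rw [hS.add, hS.smul, h0, map_smul, smul_eq_mul, hS.symm v a, div_mul_cancel₀ _ hv]
        linear_combination Q v * hS.two
    obtain ⟨v₁, hv1, hv1', hv1Q⟩ : ∃ v₁, B a v₁ ≠ 0 ∧ B a' v₁ ≠ 0 ∧ Q v₁ ≠ 0 := by
      by_cases h1 : Q v = 0
      · obtain ⟨t, ht0, ht1⟩ := hS.big 0 (-(B a v / Q a))
        refine ⟨v + t • a, ?_, ?_, fun e => ht1 ?_⟩
        · simpa [hS.alt a] using hv
        · simpa [hS.symm a' a, hne] using hv'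
        · rw [hS.add, hS.smul, h1, map_smul, smul_eq_mul, hS.symm v a, zero_add] at e
          field_simp
          refine mul_left_cancel₀ ht0 ?_
          linear_combination e
      · exact ⟨v, hv, hv', h1⟩
    obtain ⟨s, hs⟩ := hS.sqrt (Q a / Q v₁)
    have hs0 : s ≠ 0 := fun e => by simp [e, eq_comm, h0, hv1Q] at hs
    exact ⟨s • v₁, by simp [hs0, hv1], by simp [hs0, hv1'], by rw [hS.smul, hs, div_mul_cancel₀ _ hv1Q]⟩
  obtain ⟨g, hg, hgQ, hga⟩ := key hcQ.symm hc1
  obtain ⟨g', hg', hgQ', hga'⟩ := key (hcQ.trans h) (hS.symm a' c ▸ hc2)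
  exact ⟨g' * g, mul_mem hg' hg, fun x => by rw [LinearEquiv.mul_apply, hgQ', hgQ],
    by rw [LinearEquiv.mul_apply, hga, hga']⟩

lemma Setup.exists_singular [FiniteDimensional F V] (hS : Setup B Q) (v : V) (hv : v ≠ 0) :
    ∃ a, a ≠ 0 ∧ Q a = 0 := by
  obtain ⟨w, hw, -⟩ := exists_two_ne (hS.functional_ne hv) (hS.functional_ne hv)
  obtain ⟨u, hu, huQ⟩ := hS.exists_value_pair hw (Q v)
  obtain ⟨hu1, hu2⟩ := mem_perp2.1 hu
  refine ⟨v + u, fun h => hw ?_, ?_⟩
  · have := congrArg (B w) h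
    rw [map_add, hu2, add_zero, map_zero] at this
    rw [hS.symm]; exact this
  · rw [hS.add, huQ, hu1]
    linear_combination Q v * hS.two

/-- every isometry of `B` changes `Q` by the square of a functional of Artin–Schreier value -/
lemma Setup.arf [FiniteDimensional F V] (hS : Setup B Q) (g : Alt.isoGroup B) :
    ∃ (b : V) (x : F), (∀ v, Q (g.1 v) = Q v + B v b ^ 2) ∧ Q b = x ^ 2 + x := by
  have htop : Subgroup.closure {t : Alt.isoGroup B | ∃ v c, t = Alt.tvE hS.alt v c} = ⊤ :=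
    Alt.eq_top_of_tvE hS.alt hS.nd _ fun v c => Subgroup.subset_closure ⟨v, c, rfl⟩
  have step : ∀ (g : Alt.isoGroup B) (a : V) (c : F), (∃ (b : V) (x : F), (∀ v, Q (g.1 v) = Q v + B v b ^ 2) ∧ Q b = x ^ 2 + x) →
      ∃ (b : V) (x : F), (∀ v, Q ((g * Alt.tvE hS.alt a c).1 v) = Q v + B v b ^ 2) ∧ Q b = x ^ 2 + x := by
    rintro g a c ⟨b, x, hb, hx⟩
    obtain ⟨e, he⟩ := hS.sqrt (c ^ 2 * Q a + c)
    refine ⟨b + (c * B a b + e) • a, x + e * B a b + c * Q a, fun v => ?_, ?_⟩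
    · show Q (g.1 (Alt.tv hS.alt a c v)) = _
      rw [hb, hS.q_tv, Alt.tv_apply, map_add, LinearMap.add_apply, map_smul, LinearMap.smul_apply, smul_eq_mul,
        map_add (B v), map_smul (B v), smul_eq_mul, ← he]
      linear_combination (-(B v b + c * B v a * B a b) * (e * B v a)) * hS.two
    · rw [hS.add, hS.smul, map_smul, smul_eq_mul, hS.symm b a, hx]
      linear_combination (Q a - B a b ^ 2) * he - (x * c * Q a + x * B a b * e) * hS.two
  refine Subgroup.closure_induction_right (p := fun g _ => ∃ (b : V) (x : F), (∀ v, Q (g.1 v) = Q v + B v b ^ 2) ∧ Q b = x ^ 2 + x)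
    ⟨0, 0, fun v => by simp, by simp [hS.q_zero]⟩ ?_ ?_ (htop.symm ▸ Subgroup.mem_top g)
  · rintro x _ _ ⟨a, c, rfl⟩ hx
    exact step x a c hx
  · rintro x _ _ ⟨a, c, rfl⟩ hx
    have : (Alt.tvE hS.alt a c)⁻¹ = Alt.tvE hS.alt a (-c) := Subtype.ext (Alt.tv_inv hS.alt a c)
    rw [this]
    exact step x a (-c) hx

/-- a subgroup containing the isometries of `Q` and one further element is everything -/
theorem Setup.maximal [FiniteDimensional F V] (hS : Setup B Q) (M : Subgroup (Alt.isoGroup B))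
    (hO : ∀ g : Alt.isoGroup B, (∀ x, Q (g.1 x) = Q x) → g ∈ M)
    (hg : ∃ g ∈ M, ∃ x, Q ((g : Alt.isoGroup B).1 x) ≠ Q x) : M = ⊤ := by
  obtain ⟨g, hgM, z, hz⟩ := hg
  obtain ⟨b, x, hb, hx⟩ := hS.arf g
  have hb0 : b ≠ 0 := fun h => hz (by simp [hb, h])
  have conj : ∀ (a : V) (c : F), Alt.tvE hS.alt a c ∈ M → ∀ h ∈ M, Alt.tvE hS.alt ((h : Alt.isoGroup B).1 a) c ∈ M := by
    intro a c ht h hh
    have : h * Alt.tvE hS.alt a c * h⁻¹ = Alt.tvE hS.alt (h.1 a) c := Subtype.ext (Alt.conj_tv hS.alt h.2 a c)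
    exact this ▸ mul_mem (mul_mem hh ht) (inv_mem hh)
  have same : ∀ (a : V) (c : F), a ≠ 0 → Alt.tvE hS.alt a c ∈ M → ∀ a', a' ≠ 0 → Q a' = Q a → Alt.tvE hS.alt a' c ∈ M := by
    intro a c ha ht a' ha' h
    obtain ⟨k, hk, hkQ, hka⟩ := hS.transitive ha ha' h.symm
    exact hka ▸ conj a c ht ⟨k, hk⟩ (hO _ hkQ)
  -- the singular case
  have sing : ∀ (a : V) (c : F), a ≠ 0 → Q a = 0 → c ≠ 0 → Alt.tvE hS.alt a c ∈ M → M = ⊤ := by
    intro a c ha hQ hc ht
    have hall : ∀ a', a' ≠ 0 → Q a' = 0 → ∀ d, Alt.tvE hS.alt a' d ∈ M := by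
      intro a' ha' hQ' d
      rcases eq_or_ne d 0 with rfl | hd
      · have : Alt.tvE hS.alt a' (0 : F) = 1 := Subtype.ext (Alt.tv_zero hS.alt a')
        rw [this]; exact one_mem M
      obtain ⟨y, hy⟩ := hS.sqrt (d / c)
      have hy0 : y ≠ 0 := fun h => by simp [h, eq_comm, hd, hc] at hy
      have := same a c ha ht (y • a') (smul_ne_zero hy0 ha') (by simp [hS.smul, hQ, hQ'])
      have e : Alt.tvE hS.alt (y • a') c = Alt.tvE hS.alt a' d :=
        Subtype.ext ((Alt.tv_smul hS.alt a' y c).trans (by rw [hy, div_mul_cancel₀ _ hc]; rfl))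
      exact e ▸ this
    refine Alt.eq_top_of_tvE hS.alt hS.nd M fun v d => ?_
    rcases eq_or_ne v 0 with rfl | hv
    · have : Alt.tvE hS.alt (0 : V) d = 1 := Subtype.ext (LinearEquiv.ext fun y => by simp [Alt.tvE, Alt.tv_apply])
      rw [this]; exact one_mem M
    by_cases hQv : Q v = 0
    · exact hall v hv hQv d
    obtain ⟨a0, ha0, hQ0⟩ : ∃ a0, B v a0 ≠ 0 ∧ Q a0 = 0 := by
      by_cases h0 : B v a = 0
      · obtain ⟨w, hw, hw'⟩ := exists_two_ne (hS.functional_ne hv) (hS.functional_ne ha)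
        refine ⟨w + (Q w / B a w) • a, by simp [h0, hw], ?_⟩
        rw [hS.add, hS.smul, hQ, map_smul, smul_eq_mul, hS.symm w a]
        field_simp
        linear_combination (Q w * B a w ^ 2) * hS.two
      · exact ⟨a, h0, hQ⟩
    have ha0' : a0 ≠ 0 := fun h => ha0 (by simp [h])
    set μ := Q v / B v a0
    have hQa' : Q (v + μ • a0) = 0 := by
      rw [hS.add, hS.smul, hQ0, map_smul, smul_eq_mul]
      simp only [μ]
      field_simp
      linear_combination (Q v * B v a0 ^ 2) * hS.two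
    have hBa' : B (v + μ • a0) a0 = B v a0 := by simp [hS.alt a0]
    have ha'0 : v + μ • a0 ≠ 0 := fun h => ha0 (by rw [← hBa', h]; simp)
    have hmap : (Alt.tvE hS.alt a0 (μ / B v a0)).1 (v + μ • a0) = v := by
      show Alt.tv hS.alt a0 _ _ = v
      rw [Alt.tv_apply, hBa', div_mul_cancel₀ _ ha0, add_assoc, ← add_smul, ← two_mul, hS.two, zero_mul, zero_smul, add_zero]
    have := conj _ d (hall _ ha'0 hQa' d) _ (hall a0 ha0' hQ0 (μ / B v a0))
    rwa [hmap] at this
  by_cases hs : Q b = 0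
  · -- `Q ∘ g = Q ∘ t`
    refine sing b 1 hb0 hs one_ne_zero ?_
    have hh : g * (Alt.tvE hS.alt b (1 : F))⁻¹ ∈ M := hO _ fun v => by
      have e : (Alt.tvE hS.alt b (1 : F))⁻¹ = Alt.tvE hS.alt b (-1 : F) := Subtype.ext (Alt.tv_inv hS.alt b 1)
      rw [e]
      show Q (g.1 (Alt.tv hS.alt b (-1) v)) = Q v
      rw [hb, hS.q_tv, hs, Alt.tv_apply, map_add, LinearMap.add_apply, map_smul, LinearMap.smul_apply, hS.alt b, smul_zero]
      linear_combination (0 : F) * hS.two
    have := mul_mem (inv_mem hh) hgM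
    rwa [mul_inv_rev, inv_inv, inv_mul_cancel_right] at this
  · set c := x / Q b
    have hc : c ^ 2 * Q b + c = 1 := by
      simp only [c]
      field_simp
      linear_combination -hx
    have ht : Alt.tvE hS.alt b c ∈ M := by
      have hh : g * (Alt.tvE hS.alt b c)⁻¹ ∈ M := hO _ fun v => by
        have e : (Alt.tvE hS.alt b c)⁻¹ = Alt.tvE hS.alt b (-c) := Subtype.ext (Alt.tv_inv hS.alt b c)
        rw [e]
        show Q (g.1 (Alt.tv hS.alt b (-c) v)) = Q v
        rw [hb, hS.q_tv, Alt.tv_apply, map_add, LinearMap.add_apply, map_smul, LinearMap.smul_apply, hS.alt b, smul_zero]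
        linear_combination (B v b ^ 2) * hc + (B v b ^ 2 - c * B v b ^ 2) * hS.two
      have := mul_mem (inv_mem hh) hgM
      rwa [mul_inv_rev, inv_inv, inv_mul_cancel_right] at this
    obtain ⟨β, hβ⟩ := hS.sqrt (Q b)
    have hβ0 : β ≠ 0 := fun h => hs (by rw [← hβ, h]; ring)
    obtain ⟨w, hw, -⟩ := exists_two_ne (hS.functional_ne hb0) (hS.functional_ne hb0)
    set w' := (β / B b w) • w
    have hw' : B b w' = β := by simp [w', div_mul_cancel₀ _ hw]
    obtain ⟨u, hu, huQ⟩ := hS.exists_value_pair (hw'.symm ▸ hβ0 : B b w' ≠ 0) (Q b - Q w')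
    obtain ⟨hu1, hu2⟩ := mem_perp2.1 hu
    have hQa : Q (w' + u) = Q b := by rw [hS.add, huQ, hu2]; ring
    have hBa : B (w' + u) b = β := by rw [hS.symm, map_add, hw', hu1, add_zero]
    have ha'0 : w' + u ≠ 0 := fun h => hβ0 (by rw [← hBa, h]; simp)
    set a'' := (Alt.tvE hS.alt b c).1 (w' + u)
    have hsing : Q a'' = 0 := by
      show Q (Alt.tv hS.alt b c (w' + u)) = 0
      rw [hS.q_tv, hQa, hBa, hc, hβ]
      linear_combination Q b * hS.two
    have ha''0 : a'' ≠ 0 := fun h => ha'0 ((Alt.tvE hS.alt b c).1.injective (h.trans (map_zero _).symm))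
    have hc0 : c ≠ 0 := fun h => by simp [h] at hc
    exact sing a'' c ha''0 hsing hc0 (conj _ c (same b c hb0 ht _ ha'0 hQa) _ ht)

end

lemma exists_ne_of_nontrivial_symp {F : Type*} [Field F] {m : ℕ} (hm : 2 ≤ m) : ∃ v : Fin m ⊕ Fin m → F, v ≠ 0 := by
  have := nontrivial_symp (F := F) (show 1 ≤ m by omega)
  exact exists_ne 0

/-- isometries of a quadratic form -/
theorem maximal_quad {F : Type*} [Field F] [Fintype F] (m : ℕ) (hm : 2 ≤ m) (h3 : ∀ a b : F, ∃ t : F, t ≠ a ∧ t ≠ b) (heven : ¬ Odd (Fintype.card F)) (Q : (Fin m ⊕ Fin m → F) → F) (hQ : Cfsg.Geo.IsNondegenerateQuadraticForm Q) (hpol : ∀ u v, QuadraticMap.polar Q u v = Cfsg.sympForm m F u v) : Cfsg.Geo.IsMaximalIn (Cfsg.spGL m F) (Cfsg.Geo.quadSimilarityGroup Q ⊓ Cfsg.spGL m F) := by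
  classical
  let B := sympB m F
  have two : (2 : F) = 0 := by
    have h : ringChar F = 2 := by
      by_contra h
      exact heven (Nat.odd_iff.2 (FiniteField.odd_card_of_char_ne_two h))
    have := CharP.cast_eq_zero F (ringChar F)
    rw [h] at this
    simpa using this
  have : CharP F 2 := by
    refine CharTwo.of_one_ne_zero_of_two_eq_zero one_ne_zero two
  have hS : Setup B Q :=
    { two := two
      sqrt := fun x => ⟨_, (FiniteField.isSquare_of_char_two (by rw [ringChar.eq F 2]) x).choose_spec.symm.trans (by rfl) |> fun h => (pow_two _).trans h⟩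
      smul := hQ.smul
      add := fun u v => by
        rw [sympB_apply, ← hpol u v, QuadraticMap.polar]
        ring
      alt := sympB_isAlt
      nd := sympB_nondeg
      dim := by rw [finrank_symp]; omega
      big := h3 }
  let E : Matrix.GeneralLinearGroup (Fin m ⊕ Fin m) F ≃* ((Fin m ⊕ Fin m → F) ≃ₗ[F] (Fin m ⊕ Fin m → F)) :=
    Matrix.GeneralLinearGroup.toLin.trans (LinearMap.GeneralLinearGroup.generalLinearEquiv F _)
  have hE : ∀ g v, E g v = (g : Matrix (Fin m ⊕ Fin m) (Fin m ⊕ Fin m) F) *ᵥ v := fun g v => rfl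
  have hsp : ∀ g, g ∈ Cfsg.spGL m F ↔ E g ∈ Alt.isoGroup B := fun g => by
    refine ⟨fun h x y => ?_, fun h x y => ?_⟩
    · rw [sympB_apply, sympB_apply, hE, hE]; exact h x y
    · have := h x y
      rw [sympB_apply, sympB_apply, hE, hE] at this
      exact this
  have hmem : ∀ g, g ∈ Cfsg.Geo.quadSimilarityGroup Q ⊓ Cfsg.spGL m F ↔
      E g ∈ Alt.isoGroup B ∧ ∀ v, Q (E g v) = Q v := by
    intro g
    constructor
    · rintro ⟨⟨c, hc⟩, hs⟩
      refine ⟨(hsp g).1 hs, fun v => ?_⟩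
      obtain ⟨v0, hv0⟩ : ∃ v0 : Fin m ⊕ Fin m → F, v0 ≠ 0 := exists_ne_of_nontrivial_symp hm
      obtain ⟨w, hw, -⟩ := exists_two_ne (hS.functional_ne hv0) (hS.functional_ne hv0)
      have hc1 : (c : F) = 1 := by
        have h := (hsp g).1 hs v0 w
        have e1 := hS.add (E g v0) (E g w)
        rw [← map_add, hE, hE, hE, hc, hc, hc, hS.add, ← hE, ← hE, h] at e1
        refine mul_right_cancel₀ hw ?_
        linear_combination e1
      rw [hE, hc, hc1, one_mul]
    · rintro ⟨hs, hq⟩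
      exact ⟨⟨1, fun v => by rw [Units.val_one, one_mul, ← hE]; exact hq v⟩, (hsp g).2 hs⟩
  constructor
  · refine lt_of_le_of_ne inf_le_right fun heq => ?_
    obtain ⟨v0, hv0⟩ : ∃ v0 : Fin m ⊕ Fin m → F, v0 ≠ 0 := exists_ne_of_nontrivial_symp hm
    obtain ⟨a, ha, hQa⟩ := hS.exists_singular v0 hv0
    obtain ⟨w, hw, -⟩ := exists_two_ne (hS.functional_ne ha) (hS.functional_ne ha)
    have hmemt : E.symm (Alt.tv hS.alt a 1) ∈ Cfsg.spGL m F :=
      (hsp _).2 (by rw [MulEquiv.apply_symm_apply]; exact Alt.tv_mem_isoGroup _ _ _)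
    rw [← heq] at hmemt
    have := ((hmem _).1 hmemt).2 w
    rw [MulEquiv.apply_symm_apply, hS.q_tv, hQa, mul_zero, zero_add, one_mul, add_eq_left] at this
    exact hw (by rw [hS.symm]; exact pow_eq_zero_iff (n := 2) (by norm_num) |>.1 this)
  · intro M hM1 hM2
    by_cases hq : ∀ g ∈ M, ∀ v, Q (E g v) = Q v
    · exact Or.inl (le_antisymm (fun g hg => (hmem g).2 ⟨(hsp g).1 (hM2 hg), hq g hg⟩) hM1)
    refine Or.inr (le_antisymm hM2 ?_)
    push Not at hq
    obtain ⟨g, hg, v, hv⟩ := hq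
    let M' : Subgroup (Alt.isoGroup B) := (M.map E.toMonoidHom).comap (Alt.isoGroup B).subtype
    have htop : M' = ⊤ := hS.maximal M' (fun k hk => ⟨E.symm k.1, hM1 ((hmem _).2 ⟨by rw [MulEquiv.apply_symm_apply]; exact k.2,
        fun y => by rw [MulEquiv.apply_symm_apply]; exact hk y⟩), E.apply_symm_apply k.1⟩)
      ⟨⟨E g, (hsp g).1 (hM2 hg)⟩, ⟨g, hg, rfl⟩, v, hv⟩
    intro k hk
    obtain ⟨k', hk', hkk⟩ : (⟨E k, (hsp k).1 hk⟩ : Alt.isoGroup B) ∈ M' := htop ▸ Subgroup.mem_top _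
    exact E.injective hkk ▸ hk'

end Cfsg.Agent.ClassicalMax.Sp4
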