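import Cfsg.Agent.ClassicalMax.Subfield.Sympl

/-!
Four-dimensional symplectic spaces in characteristic two with a rational structure over a subfield: the elements
supported on a rational isotropic plane in a group containing the rational transvections.
-/

set_option autoImplicit false
set_option linter.unusedSectionVars false
set_option linter.style.haveILetI false

namespace Cfsg.Agent.ClassicalMax.Sp4

open Module Cfsg.Agent.Classical Cfsg.Agent.ClassicalMax Cfsg.Agent.ClassicalMax.Subfield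

section El

variable {F V : Type*} [Field F] [AddCommGroup V] [Module F V] {B : LinearMap.BilinForm F V}

/-- the element of the radical of the stabiliser of an isotropic plane -/
def el (hA : B.IsAlt) (u e : V) (a c d : F) : V ≃ₗ[F] V := Alt.tv hA u a * Alt.tv hA e c * cr hA u e d

theorem el_apply (hA : B.IsAlt) {u e : V} (h : B u e = 0) (a c d : F) (x : V) :
    el hA u e a c d x = x + (a * B x u + d * B x e) • u + (d * B x u + c * B x e) • e := by
  have h' : B e u = 0 := by rw [← LinearMap.IsAlt.neg hA, h, neg_zero]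
  rw [el, LinearEquiv.mul_apply, LinearEquiv.mul_apply, cr_apply hA h]
  simp [Alt.tv_apply, hA u, hA e, h, h']
  module

theorem el_add (hA : B.IsAlt) {u e : V} (h : B u e = 0) (a c d a' c' d' : F) :
    el hA u e a c d * el hA u e a' c' d' = el hA u e (a + a') (c + c') (d + d') := LinearEquiv.ext fun x => by
  have h' : B e u = 0 := by rw [← LinearMap.IsAlt.neg hA, h, neg_zero]
  rw [LinearEquiv.mul_apply, el_apply hA h, el_apply hA h, el_apply hA h]
  simp [hA u, hA e, h, h']
  module

theorem el_comm (hA : B.IsAlt) {u e : V} (h : B u e = 0) (a c d : F) : el hA u e a c d = el hA e u c a d :=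
  LinearEquiv.ext fun x => by
    rw [el_apply hA h, el_apply hA (by rw [← LinearMap.IsAlt.neg hA, h, neg_zero])]
    module

theorem el_smul_left (hA : B.IsAlt) {u e : V} (h : B u e = 0) (s a c d : F) :
    el hA (s • u) e a c d = el hA u e (s ^ 2 * a) c (s * d) := LinearEquiv.ext fun x => by
  rw [el_apply hA h, el_apply hA (by simp [h])]
  simp only [map_smul, smul_eq_mul, smul_smul]
  ring_nf

theorem el_conj (hA : B.IsAlt) {g : V ≃ₗ[F] V} (hg : g ∈ Alt.isoGroup B) (u e : V) (a c d : F) :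
    g * el hA u e a c d * g⁻¹ = el hA (g u) (g e) a c d := by
  rw [el, el, ← Alt.conj_tv hA hg, ← Alt.conj_tv hA hg, ← cr_conj hA hg]
  group

theorem el_add_left (hA : B.IsAlt) {u e : V} (h : B u e = 0) (h2 : (2 : F) = 0) (a c d : F) :
    el hA (u + e) e a c d = el hA u e a (a + c) (a + d) := LinearEquiv.ext fun x => by
  rw [el_apply hA h, el_apply hA (by simp [h, hA e])]
  simp only [map_add]
  match_scalars
  · ring
  · ring
  · linear_combination (d * B x e) * h2

theorem el_long (hA : B.IsAlt) (u e : V) (a : F) : el hA u e a 0 0 = Alt.tv hA u a := by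
  have h : cr hA u e 0 = 1 := by simp [cr, Alt.tv_zero]
  rw [el, Alt.tv_zero, h, mul_one, mul_one]

theorem el_cr (hA : B.IsAlt) (u e : V) (d : F) : el hA u e 0 0 d = cr hA u e d := by
  rw [el, Alt.tv_zero, Alt.tv_zero, one_mul, one_mul]

theorem tv_el (hA : B.IsAlt) {u e : V} (h : B u e = 0) (s t c : F) :
    Alt.tv hA (s • u + t • e) c = el hA u e (c * s ^ 2) (c * t ^ 2) (c * s * t) := LinearEquiv.ext fun x => by
  rw [el_apply hA h, Alt.tv_apply]
  simp only [map_add, map_smul, smul_eq_mul]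
  module

end El

variable {ι : Type} [Fintype ι] [DecidableEq ι] {F : Type*} [Field F] [Fintype F]

/-- the standing hypotheses -/
structure EvenOver (F₀ : Subfield F) (B : LinearMap.BilinForm F (ι → F)) (X : Subgroup ((ι → F) ≃ₗ[F] (ι → F))) :
    Prop where
  alt : B.IsAlt
  two : (2 : F) = 0
  nd : ∀ x, (∀ y, B x y = 0) → x = 0
  form : ∀ u v : ι → F, RV F₀ u → RV F₀ v → B u v ∈ F₀
  card : Fintype.card ι = 4
  iso : X ≤ Alt.isoGroup B
  rat : ∀ (v : ι → F) (c : F), RV F₀ v → c ∈ F₀ → Alt.tv alt v c ∈ X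

namespace EvenOver

variable {F₀ : Subfield F} {B : LinearMap.BilinForm F (ι → F)} {X : Subgroup ((ι → F) ≃ₗ[F] (ι → F))}

theorem symm (hO : EvenOver F₀ B X) (x y : ι → F) : B x y = B y x := by
  rw [← LinearMap.IsAlt.neg hO.alt y x]
  linear_combination -(B y x) * hO.two

theorem self_add (hO : EvenOver F₀ B X) (a : F) : a + a = 0 := by
  rw [← two_mul, hO.two, zero_mul]

theorem vself (hO : EvenOver F₀ B X) (x : ι → F) : x + x = 0 := funext fun i => hO.self_add (x i)

theorem neg_eq (hO : EvenOver F₀ B X) (a : F) : -a = a := neg_eq_of_add_eq_zero_left (hO.self_add a)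

theorem mem_of_sq (hO : EvenOver F₀ B X) {x : F} (h : x ^ 2 ∈ F₀) : x ∈ F₀ := by
  haveI : Fintype F₀ := Fintype.ofFinite F₀
  have h2 : ringChar F₀ = 2 := by
    refine CharP.ringChar_of_prime_eq_zero Nat.prime_two ?_
    exact Subtype.ext (by push_cast; exact hO.two)
  obtain ⟨y, hy⟩ := FiniteField.isSquare_of_char_two h2 ⟨x ^ 2, h⟩
  have e : x ^ 2 = (y : F) * (y : F) := congrArg Subtype.val hy
  have h3 : (x - y) ^ 2 = 0 := by linear_combination e + ((y : F) * y - x * y) * hO.two
  rw [sub_eq_zero.1 (pow_eq_zero_iff (n := 2) (by norm_num) |>.1 h3)]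
  exact y.2

theorem exists_of_rf (hO : EvenOver F₀ B X) {f : Dual F (ι → F)} (hf : RF F₀ f) :
    ∃ y, RV F₀ y ∧ ∀ x, B y x = f x := by
  haveI : Fintype F₀ := Fintype.ofFinite F₀
  let L : (ι → F₀) →ₗ[F₀] (ι → F₀) :=
    { toFun := fun y i => ⟨B (fun j => (y j : F)) (Pi.single i 1), hO.form _ _ (fun j => (y j).2) (rv_single i)⟩
      map_add' := fun a b => funext fun i => Subtype.ext (by
        show B (fun j => ((a + b) j : F)) (Pi.single i 1) = B _ _ + B _ _
        rw [← LinearMap.add_apply, ← map_add]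
        rfl)
      map_smul' := fun a b => funext fun i => Subtype.ext (by
        show B (fun j => ((a • b) j : F)) (Pi.single i 1) = (a : F) * B _ _
        rw [← smul_eq_mul, ← LinearMap.smul_apply, ← map_smul]
        rfl) }
  have hinj : Function.Injective L := (injective_iff_map_eq_zero L).2 fun y hy => by
    have h0 : (fun j => (y j : F)) = 0 := hO.nd _ fun z => by
      rw [apply_eq_sum (B fun j => (y j : F)) z]
      refine Finset.sum_eq_zero fun i _ => ?_
      rw [show B (fun j => (y j : F)) (Pi.single i 1) = 0 from congrArg Subtype.val (congrFun hy i), mul_zero]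
    exact funext fun j => Subtype.ext (congrFun h0 j)
  obtain ⟨y, hy⟩ := LinearMap.surjective_of_injective hinj (fun i => ⟨f (Pi.single i 1), hf i⟩)
  refine ⟨fun j => (y j : F), fun j => (y j).2, fun x => ?_⟩
  rw [apply_eq_sum (B fun j => (y j : F)) x, apply_eq_sum f x]
  refine Finset.sum_congr rfl fun i _ => ?_
  congr 1
  exact congrArg Subtype.val (congrFun hy i)

theorem exists_dual (hO : EvenOver F₀ B X) {k : ℕ} {w : Fin k → ι → F} (hw : ∀ j, RV F₀ (w j)) {x : ι → F}
    (hx : RV F₀ x) (h : x ∉ Submodule.span F (Set.range w)) : ∃ y, RV F₀ y ∧ B y x = 1 ∧ ∀ j, B y (w j) = 0 := by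
  obtain ⟨f, hf, hfx, hfw⟩ := exists_rf_sep hw hx h
  obtain ⟨y, hy, e⟩ := hO.exists_of_rf hf
  exact ⟨y, hy, by rw [e, hfx], fun j => by rw [e, hfw]⟩

theorem exists_partner (hO : EvenOver F₀ B X) {v : ι → F} (hv : RV F₀ v) (hv0 : v ≠ 0) :
    ∃ w, RV F₀ w ∧ B v w = 1 := by
  obtain ⟨y, hy, hyv, -⟩ := hO.exists_dual (w := ![]) (fun j => j.elim0) hv (by simpa using hv0)
  exact ⟨y, hy, by rw [hO.symm, hyv]⟩

/-- a hyperbolic pair orthogonal to a given one -/
theorem exists_pair (hO : EvenOver F₀ B X) {v w : ι → F} (hv : RV F₀ v) (hw : RV F₀ w) (hvw : B v w = 1) :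
    ∃ e f, RV F₀ e ∧ RV F₀ f ∧ B e f = 1 ∧ B v e = 0 ∧ B w e = 0 ∧ B v f = 0 ∧ B w f = 0 := by
  obtain ⟨e, he, hep, hen⟩ := exists_avoid (F₀ := F₀) (fun i => B (![v, w] i))
    (fun i j => hO.form _ _ (by fin_cases i <;> assumption) (rv_single j)) ![] (fun j => j.elim0)
    (by rw [hO.card]; omega)
  have hve : B v e = 0 := hep 0
  have hwe : B w e = 0 := hep 1
  obtain ⟨f, hf, hfe, hf0⟩ := hO.exists_dual (w := ![v, w]) (by intro j; fin_cases j <;> assumption) he (fun hm => by
    obtain ⟨s, t, rfl⟩ := OverSp.mem2.1 hm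
    simp [hO.alt v, hvw] at hve
    simp [hO.alt w, hO.symm w v, hvw] at hwe
    exact hen (by simp [hve, hwe]))
  exact ⟨e, f, he, hf, by rw [hO.symm, hfe], hve, hwe, by rw [hO.symm]; exact hf0 0, by rw [hO.symm]; exact hf0 1⟩

theorem cr_mem_rat (hO : EvenOver F₀ B X) {u v : ι → F} (hu : RV F₀ u) (hv : RV F₀ v) {l : F} (hl : l ∈ F₀) :
    cr hO.alt u v l ∈ X :=
  mul_mem (mul_mem (hO.rat _ _ (hu.add hv) hl) (hO.rat _ _ hu (F₀.neg_mem hl))) (hO.rat _ _ hv (F₀.neg_mem hl))

theorem conj_mem {g a : (ι → F) ≃ₗ[F] (ι → F)} (hg : g ∈ X) (ha : a ∈ X) : g * a * g⁻¹ ∈ X :=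
  mul_mem (mul_mem hg ha) (inv_mem hg)

/-- an isotropic pair of rational vectors -/
structure Pair (F₀ : Subfield F) (B : LinearMap.BilinForm F (ι → F)) (u e : ι → F) : Prop where
  ru : RV F₀ u
  re : RV F₀ e
  orth : B u e = 0
  nu : u ∉ F ∙ e
  ne : e ∉ F ∙ u

theorem Pair.swap (hO : EvenOver F₀ B X) {u e : ι → F} (h : Pair F₀ B u e) : Pair F₀ B e u :=
  ⟨h.re, h.ru, by rw [hO.symm]; exact h.orth, h.ne, h.nu⟩

theorem pair_of (hO : EvenOver F₀ B X) {u e : ι → F} (hu : RV F₀ u) (he : RV F₀ e) (h : B u e = 0) (hn : u ∉ F ∙ e)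
    (he0 : e ≠ 0) : Pair F₀ B u e := by
  refine ⟨hu, he, h, hn, fun hm => ?_⟩
  obtain ⟨c, hc⟩ := Submodule.mem_span_singleton.1 hm
  have hc0 : c ≠ 0 := by rintro rfl; exact he0 (by rw [← hc, zero_smul])
  exact hn (Submodule.mem_span_singleton.2 ⟨c⁻¹, by rw [← hc, smul_smul, inv_mul_cancel₀ hc0, one_smul]⟩)

theorem Pair.smul (hO : EvenOver F₀ B X) {u e : ι → F} (h : Pair F₀ B u e) {s : F} (hs : s ∈ F₀) (hs0 : s ≠ 0) :
    Pair F₀ B (s • u) e :=
  pair_of hO (h.ru.smul hs) h.re (by simp [h.orth]) (fun hm => h.nu (by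
    have := (F ∙ e).smul_mem s⁻¹ hm
    rwa [smul_smul, inv_mul_cancel₀ hs0, one_smul] at this)) (fun he => h.ne (by rw [he]; exact zero_mem _))

/-- adding the second vector to the first -/
theorem exists_shift (hO : EvenOver F₀ B X) {u e : ι → F} (h : Pair F₀ B u e) :
    ∃ g ∈ X, g u = u + e ∧ g e = e := by
  obtain ⟨y, hy, hyu, hye⟩ := hO.exists_dual (w := ![e]) (by intro j; fin_cases j; exact h.re) h.ru
    (fun hm => h.nu (OverSp.mem1.1 hm))
  have hye' : B y e = 0 := hye 0
  refine ⟨cr hO.alt y e 1, hO.cr_mem_rat hy h.re F₀.one_mem, ?_, ?_⟩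
  · rw [cr_apply hO.alt hye', h.orth, hO.symm u y, hyu]; simp
  · rw [cr_apply hO.alt hye', hO.alt e, hO.symm e y, hye']; simp

/-- a partner of the second vector orthogonal to the first -/
theorem exists_third (hO : EvenOver F₀ B X) {u e : ι → F} (h : Pair F₀ B u e) :
    ∃ f, Pair F₀ B u f ∧ B e f = 1 ∧ Pair F₀ B u (e + f) := by
  obtain ⟨f, hf, hfe, hfu⟩ := hO.exists_dual (w := ![u]) (by intro j; fin_cases j; exact h.ru) h.re
    (fun hm => h.ne (OverSp.mem1.1 hm))
  have hfu' : B u f = 0 := by rw [hO.symm]; exact hfu 0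
  have hef : B e f = 1 := by rw [hO.symm, hfe]
  have key : ∀ x, RV F₀ x → B e x ≠ 0 → B u x = 0 → Pair F₀ B u x := fun x hx hex hux =>
    pair_of hO h.ru hx hux (fun hm => by
      obtain ⟨c, hc⟩ := Submodule.mem_span_singleton.1 hm
      have := hO.symm e u
      rw [h.orth, ← hc, map_smul, smul_eq_mul] at this
      rcases mul_eq_zero.1 this with rfl | h'
      · rw [zero_smul] at hc
        exact h.nu (by rw [← hc]; exact zero_mem _)
      · exact hex h') (fun e' => hex (by rw [e', map_zero]))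
  exact ⟨f, key f hf (by rw [hef]; exact one_ne_zero) hfu', hef,
    key _ (h.re.add hf) (by rw [map_add, hO.alt e, hef, zero_add]; exact one_ne_zero) (by simp [h.orth, hfu'])⟩

/-- the first reduction -/
theorem el_sum_mem (hO : EvenOver F₀ B X) {u e : ι → F} (h : Pair F₀ B u e) {a d : F}
    (hm : el hO.alt u e a 0 d ∈ X) : el hO.alt u e 0 0 (a + d) ∈ X := by
  have step : ∀ {u e : ι → F}, Pair F₀ B u e → ∀ {a d : F}, el hO.alt u e a 0 d ∈ X → el hO.alt u e 0 a a ∈ X := by
    intro u e h a d hm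
    obtain ⟨g, hg, hgu, hge⟩ := hO.exists_shift h
    have h1 := conj_mem hg hm
    rw [el_conj hO.alt (hO.iso hg), hgu, hge, el_add_left hO.alt h.orth hO.two] at h1
    have h2 := mul_mem hm h1
    rw [el_add hO.alt h.orth, hO.self_add, add_zero, zero_add, add_left_comm, hO.self_add, add_zero] at h2
    exact h2
  have h1 := step h hm
  rw [el_comm hO.alt h.orth] at h1
  have h2 := step (h.swap hO) h1
  rw [el_comm hO.alt (h.swap hO).orth] at h2
  have h3 := mul_mem hm h2
  rwa [el_add hO.alt h.orth, hO.self_add, add_zero, add_comm d a] at h3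

/-- a cross element in the group gives a transvection with a rational centre -/
theorem tv_sq_mem (hO : EvenOver F₀ B X) {u e : ι → F} (h : Pair F₀ B u e) {a d : F}
    (hm : el hO.alt u e a 0 d ∈ X) : Alt.tv hO.alt u (a + d ^ 2) ∈ X := by
  obtain ⟨f, hf, hef, hef'⟩ := hO.exists_third h
  have hfe : B f e = 1 := by rw [hO.symm, hef]
  have g1 := conj_mem (hO.rat (e + f) 1 (h.re.add hf.re) F₀.one_mem) hm
  rw [el_conj hO.alt (Alt.tv_mem_isoGroup _ _ _)] at g1
  have g2 := conj_mem (hO.rat f 1 hf.re F₀.one_mem) hm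
  rw [el_conj hO.alt (Alt.tv_mem_isoGroup _ _ _)] at g2
  simp only [Alt.tv_apply, one_mul, map_add, h.orth, hf.orth, hef, hO.alt e, add_zero, zero_add, zero_smul, one_smul,
    ← add_assoc, hO.vself] at g1 g2
  have e3 : el hO.alt u e a 0 d * el hO.alt u f a 0 d * el hO.alt u (e + f) a 0 d = Alt.tv hO.alt u (a + d ^ 2) :=
    LinearEquiv.ext fun x => by
      rw [LinearEquiv.mul_apply, LinearEquiv.mul_apply, el_apply hO.alt hef'.orth, el_apply hO.alt hf.orth,
        el_apply hO.alt h.orth, Alt.tv_apply]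
      simp only [map_add, map_smul, LinearMap.add_apply, LinearMap.smul_apply, hO.alt u, hO.alt e, hO.alt f, h.orth,
        hf.orth, hO.symm e u, hO.symm f u, hef, hfe, smul_eq_mul, mul_zero, zero_mul, add_zero, zero_add, mul_one]
      match_scalars
      · ring
      · linear_combination (d ^ 2 * B x u + a * B x u + d * B x e + d * B x f) * hO.two
      · linear_combination (d * B x u) * hO.two
      · linear_combination (d * B x u) * hO.two
  exact e3 ▸ mul_mem (mul_mem hm g1) g2

end EvenOver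

/-- every parameter of a transvection with a rational centre in the group is rational -/
structure Strict (F₀ : Subfield F) (B : LinearMap.BilinForm F (ι → F)) (X : Subgroup ((ι → F) ≃ₗ[F] (ι → F))) : Prop
    extends EvenOver F₀ B X where
  small : ∀ (v : ι → F) (c : F), RV F₀ v → v ≠ 0 → Alt.tv alt v c ∈ X → c ∈ F₀

namespace Strict

variable {F₀ : Subfield F} {B : LinearMap.BilinForm F (ι → F)} {X : Subgroup ((ι → F) ≃ₗ[F] (ι → F))}

open EvenOver

theorem pair_ne {u e : ι → F} (h : EvenOver.Pair F₀ B u e) : u ≠ 0 := fun e' => h.nu (by rw [e']; exact zero_mem _)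

/-- a cross parameter is rational -/
theorem cr_rat (hS : Strict F₀ B X) {u e : ι → F} (h : Pair F₀ B u e) {d : F} (hm : el hS.alt u e 0 0 d ∈ X) : d ∈ F₀ := by
  have := hS.small _ _ h.ru (pair_ne h) (hS.toEvenOver.tv_sq_mem h hm)
  rw [zero_add] at this
  exact hS.toEvenOver.mem_of_sq this

/-- elements with one long part -/
theorem el_rat_one (hS : Strict F₀ B X) {u e : ι → F} (h : Pair F₀ B u e) {a d : F} (hm : el hS.alt u e a 0 d ∈ X) :
    d ∈ F₀ := by
  have hO := hS.toEvenOver
  have key : ∀ s ∈ F₀, s ≠ 0 → d ^ 2 + s * d ∈ F₀ := by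
    intro s hs hs0
    have hp := h.smul hO hs hs0
    have hm' : el hS.alt (s • u) e (a / s ^ 2) 0 (d / s) ∈ X := by
      rw [el_smul_left hS.alt h.orth]
      convert hm using 2 <;> field_simp
    have h1 := hS.cr_rat hp (hO.el_sum_mem hp hm')
    have h2 := hS.small _ _ hp.ru (pair_ne hp) (hO.tv_sq_mem hp hm')
    have h3 := F₀.mul_mem (F₀.mul_mem hs hs) (F₀.add_mem h1 h2)
    have e : d ^ 2 + s * d = s * s * (a / s ^ 2 + d / s + (a / s ^ 2 + (d / s) ^ 2)) := by
      field_simp
      linear_combination (-a) * hO.two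
    rw [e]
    exact h3
  have h1 := key 1 F₀.one_mem one_ne_zero
  rw [one_mul] at h1
  by_cases hbig : ∃ s ∈ F₀, s ≠ 0 ∧ s ≠ 1
  · obtain ⟨s, hs, hs0, hs1⟩ := hbig
    have h3 := F₀.mul_mem (F₀.inv_mem (F₀.sub_mem hs F₀.one_mem)) (F₀.sub_mem (key s hs hs0) h1)
    rwa [show (s - 1)⁻¹ * (d ^ 2 + s * d - (d ^ 2 + d)) = d by
      field_simp [sub_ne_zero.2 hs1]; ring] at h3
  push Not at hbig
  by_contra hd
  have hd1 : d ^ 2 + d = 1 := by
    refine hbig _ h1 fun e => hd ?_
    have : d * (d + 1) = 0 := by linear_combination e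
    rcases mul_eq_zero.1 this with h' | h'
    · rw [h']; exact F₀.zero_mem
    · rw [eq_neg_of_add_eq_zero_left h']; exact F₀.neg_mem F₀.one_mem
  -- the long part may be taken equal to the cross part
  have hsum : a + d ∈ F₀ := hS.cr_rat h (hO.el_sum_mem h hm)
  have hm1 : el hS.alt u e d 0 d ∈ X := by
    have h2 : el hS.alt u e (a + d) 0 0 ∈ X := by rw [el_long]; exact hS.rat _ _ h.ru hsum
    have h3 := mul_mem h2 hm
    rw [el_add hS.alt h.orth, add_zero, zero_add, add_comm a d, add_assoc, hO.self_add, add_zero] at h3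
    exact h3
  obtain ⟨g, hg, hgu, hge⟩ := hO.exists_shift h
  have hm2 : el hS.alt u e 0 d d ∈ X := by
    have h1 := conj_mem hg hm1
    rw [el_conj hS.alt (hS.iso hg), hgu, hge, el_add_left hS.alt h.orth hS.two] at h1
    have h2 := mul_mem hm1 h1
    rw [el_add hS.alt h.orth, hO.self_add, add_zero, zero_add] at h2
    simpa [hO.self_add] using h2
  have hT : el hS.alt u e d d 0 ∈ X := by
    have h2 := mul_mem hm1 hm2
    rwa [el_add hS.alt h.orth, add_zero, zero_add, hO.self_add] at h2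
  obtain ⟨f, hf, hef, -⟩ := hO.exists_third h
  have hT' : el hS.alt u f d d 0 ∈ X := by
    have h1 := conj_mem (hS.rat (e + f) 1 (h.re.add hf.re) F₀.one_mem) hT
    rw [el_conj hS.alt (Alt.tv_mem_isoGroup _ _ _)] at h1
    simpa only [Alt.tv_apply, one_mul, map_add, h.orth, hf.orth, hef, hO.alt e, add_zero, zero_add, zero_smul, one_smul,
      ← add_assoc, hO.vself] using h1
  have hP : Alt.tv hS.alt e d * Alt.tv hS.alt f d ∈ X := by
    have h2 := mul_mem hT hT'
    have e' : el hS.alt u e d d 0 * el hS.alt u f d d 0 = Alt.tv hS.alt e d * Alt.tv hS.alt f d :=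
      LinearEquiv.ext fun x => by
        rw [LinearEquiv.mul_apply, LinearEquiv.mul_apply, el_apply hS.alt hf.orth, el_apply hS.alt h.orth]
        simp only [Alt.tv_apply, map_add, map_smul, LinearMap.add_apply, LinearMap.smul_apply, hS.alt u, hO.symm e u,
          hO.symm f u, h.orth, hf.orth, hef, hO.symm f e, smul_eq_mul, mul_zero, zero_mul, add_zero, zero_add, mul_one]
        match_scalars
        · ring
        · linear_combination (d * B x u) * hS.two
        · ring
        · ring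
    rwa [e'] at h2
  have hS' := mul_mem hP (hS.rat e 1 h.re F₀.one_mem)
  have h4 := conj_mem hS' (hS.rat f 1 hf.re F₀.one_mem)
  rw [Alt.conj_tv hS.alt (hS.iso hS')] at h4
  have e5 : (Alt.tv hS.alt e d * Alt.tv hS.alt f d * Alt.tv hS.alt e 1) f = (1 + d) • f := by
    rw [LinearEquiv.mul_apply, LinearEquiv.mul_apply]
    simp only [Alt.tv_apply, map_add, map_smul, LinearMap.add_apply, LinearMap.smul_apply, hS.alt f, hef, hO.symm f e,
      hS.alt e, smul_eq_mul, mul_zero, zero_mul, add_zero, zero_add, mul_one]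
    match_scalars
    · ring
    · linear_combination hd1 + hS.two
  rw [e5, Alt.tv_smul, mul_one] at h4
  refine hd ?_
  have h5 := hS.small _ _ hf.re (fun e' => by rw [e', map_zero] at hef; exact zero_ne_one hef) h4
  rwa [show (1 + d) ^ 2 = d by linear_combination hd1 + (1 : F) * hS.two] at h5

/-- every element of the radical in the group is rational -/
theorem el_rat (hS : Strict F₀ B X) {u e : ι → F} (h : Pair F₀ B u e) {a c d : F} (hm : el hS.alt u e a c d ∈ X) :
    a ∈ F₀ ∧ c ∈ F₀ ∧ d ∈ F₀ := by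
  have hO := hS.toEvenOver
  have step : ∀ {u e : ι → F}, Pair F₀ B u e → ∀ {a c d : F}, el hS.alt u e a c d ∈ X → a ∈ F₀ := by
    intro u e h a c d hm
    obtain ⟨g, hg, hgu, hge⟩ := hO.exists_shift h
    have h1 := conj_mem hg hm
    rw [el_conj hS.alt (hS.iso hg), hgu, hge, el_add_left hS.alt h.orth hS.two] at h1
    have h2 := mul_mem hm h1
    rw [el_add hS.alt h.orth, hO.self_add, add_left_comm c, hO.self_add, add_zero, add_left_comm d, hO.self_add,
      add_zero, el_comm hS.alt h.orth] at h2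
    exact hS.el_rat_one (h.swap hO) h2
  have ha := step h hm
  have hc : c ∈ F₀ := by
    rw [el_comm hS.alt h.orth] at hm
    exact step (h.swap hO) hm
  refine ⟨ha, hc, hS.cr_rat h ?_⟩
  have h1 : el hS.alt u e a c 0 ∈ X := by
    rw [el, show cr hS.alt u e (0 : F) = 1 by simp [cr, Alt.tv_zero], mul_one]
    exact mul_mem (hS.rat _ _ h.ru ha) (hS.rat _ _ h.re hc)
  have h2 := mul_mem h1 hm
  rwa [el_add hS.alt h.orth, hO.self_add, hO.self_add, zero_add] at h2

end Strict

end Cfsg.Agent.ClassicalMax.Sp4
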