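import Cfsg.Agent.ClassicalMax.Sp4.Radical

/-!
If every transvection parameter at a rational centre is rational, the group is the group of rational isometries: the
stabilisers of rational vectors and the centralisers of rational involutions are rational, and two involutions from
different classes have a common neighbour in their dihedral group.
-/

set_option autoImplicit false
set_option linter.unusedSectionVars false
set_option linter.style.haveILetI false

namespace Cfsg.Agent.ClassicalMax.Sp4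

open Module Cfsg.Agent.Classical Cfsg.Agent.ClassicalMax Cfsg.Agent.ClassicalMax.Subfield

/-- two involutions that are not conjugate commute with a third -/
theorem exists_common_commute {G : Type*} [Group G] [Finite G] {s t : G} (hs : s * s = 1) (ht : t * t = 1) :
    (∃ h ∈ Subgroup.closure ({s, t} : Set G), s = h * t * h⁻¹) ∨
      ∃ z ∈ Subgroup.closure ({s, t} : Set G), z ≠ 1 ∧ z * z = 1 ∧ s * z = z * s ∧ t * z = z * t := by
  set H := Subgroup.closure ({s, t} : Set G) with hH
  have hsH : s ∈ H := Subgroup.subset_closure (Or.inl rfl)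
  have htH : t ∈ H := Subgroup.subset_closure (Or.inr rfl)
  have hsi : s⁻¹ = s := inv_eq_of_mul_eq_one_right hs
  have hti : t⁻¹ = t := inv_eq_of_mul_eq_one_right ht
  set r := s * t with hr
  have hrH : r ∈ H := mul_mem hsH htH
  have hrt : t * r * t⁻¹ = r⁻¹ := by
    rw [hr, mul_inv_rev, hsi, mul_assoc, mul_assoc, mul_inv_cancel, mul_one, hti]
  have hrs : s * r * s⁻¹ = r⁻¹ := by
    rw [hr, mul_inv_rev, hsi, hti, ← mul_assoc, hs, one_mul]
  have hpow : ∀ n : ℕ, t * r ^ n = (r ^ n)⁻¹ * t := fun n => by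
    rw [← inv_pow, ← hrt, conj_pow, inv_mul_cancel_right]
  rcases Nat.even_or_odd (orderOf r) with ⟨j, hj⟩ | ⟨j, hj⟩
  · refine Or.inr ⟨r ^ j, pow_mem hrH j, ?_, ?_, ?_, ?_⟩
    · intro e
      have h1 := Nat.le_of_dvd (Nat.pos_of_ne_zero fun h0 => by
        rw [h0, add_zero] at hj
        exact (orderOf_pos r).ne' hj) (orderOf_dvd_of_pow_eq_one e)
      have := orderOf_pos r
      omega
    · rw [← pow_add, ← hj, pow_orderOf_eq_one]
    all_goals
      have hzi : (r ^ j)⁻¹ = r ^ j := inv_eq_of_mul_eq_one_right (by rw [← pow_add, ← hj, pow_orderOf_eq_one])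
    · have h1 : s * r ^ j * s⁻¹ = r ^ j := by rw [← conj_pow, hrs, inv_pow, hzi]
      exact mul_inv_eq_iff_eq_mul.1 h1
    · rw [hpow, hzi]
  · refine Or.inl ⟨t * r ^ j, mul_mem htH (pow_mem hrH j), ?_⟩
    have h1 : r ^ j * t * (r ^ j)⁻¹ = t * s * t := by
      have e1 : r ^ j * t = t * (r ^ j)⁻¹ := by
        have := hpow j
        rw [eq_inv_mul_iff_mul_eq] at this
        rw [eq_mul_inv_iff_mul_eq, mul_assoc, this]
      have e2 : (r ^ j)⁻¹ * (r ^ j)⁻¹ = r := by
        rw [← mul_inv_rev, inv_eq_iff_mul_eq_one, ← pow_add, ← pow_succ, show j + j + 1 = orderOf r by omega,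
          pow_orderOf_eq_one]
      rw [e1, mul_assoc, e2, hr, mul_assoc]
    rw [mul_inv_rev, hti]
    calc s = t * (t * s * t) * t := by
          rw [← mul_assoc, ← mul_assoc, ht, one_mul, mul_assoc, ht, mul_one]
      _ = t * (r ^ j * t * (r ^ j)⁻¹) * t := by rw [h1]
      _ = t * r ^ j * t * ((r ^ j)⁻¹ * t) := by simp only [mul_assoc]

namespace Strict

open EvenOver

variable {ι : Type} [Fintype ι] [DecidableEq ι] {F : Type*} [Field F] [Fintype F] {F₀ : Subfield F}
  {B : LinearMap.BilinForm F (ι → F)} {X : Subgroup ((ι → F) ≃ₗ[F] (ι → F))}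

/-- the rational maps -/
def Rat' (F₀ : Subfield F) (g : (ι → F) ≃ₗ[F] (ι → F)) : Prop := ∀ z, RV F₀ z → RV F₀ (g z)

theorem rat_mul {g h : (ι → F) ≃ₗ[F] (ι → F)} (hg : Rat' F₀ g) (hh : Rat' F₀ h) : Rat' F₀ (g * h) :=
  fun z hz => hg _ (hh z hz)

theorem rv_perp_decomp (hS : Strict F₀ B X) {v k : ι → F} (hv : RV F₀ v) (hv0 : v ≠ 0)
    (h : ∀ u, RV F₀ u → B u v = 0 → B u k ∈ F₀) : ∃ β : F, RV F₀ (k + β • v) := by
  have hO := hS.toEvenOver
  obtain ⟨y, hy, hvy⟩ := hO.exists_partner hv hv0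
  have hyv : B y v = 1 := by rw [hO.symm, hvy]
  refine ⟨B y k, ?_⟩
  obtain ⟨z, hz, hzk⟩ := hO.exists_of_rf (f := B (k + B y k • v)) fun i => by
    set t := B (Pi.single i 1) v with ht
    have htF : t ∈ F₀ := hO.form _ _ (rv_single i) hv
    have h1 := h (Pi.single i 1 + t • y) ((rv_single i).add (hy.smul htF))
      (by simp [hyv, ← ht, hO.self_add])
    rw [hO.symm] 
    convert h1 using 1
    simp [← ht, mul_comm]
  have e : k + B y k • v = z := sub_eq_zero.1 (hO.nd _ fun w => by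
    rw [map_sub, LinearMap.sub_apply, hzk, sub_self])
  rwa [e]

/-- an element carrying a rational vector to a rational one maps its orthogonal rationally -/
theorem perp_rat (hS : Strict F₀ B X) {g : (ι → F) ≃ₗ[F] (ι → F)} (hg : g ∈ X) {v : ι → F} (hv : RV F₀ v) (hv0 : v ≠ 0)
    (hgv : RV F₀ (g v)) {z : ι → F} (hz : RV F₀ z) (hzv : B v z = 0) : RV F₀ (g z) := by
  have hO := hS.toEvenOver
  have hgi := hS.iso hg
  set v' := g v with hv'
  set k := g z with hk
  have hv'0 : v' ≠ 0 := fun e => hv0 (g.map_eq_zero_iff.1 e)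
  have hkv : B v' k = 0 := by rw [hv', hk, hgi, hzv]
  have hX : cr hS.alt v' k 1 ∈ X := by
    rw [hv', hk, ← cr_conj hS.alt hgi]
    exact conj_mem hg (hO.cr_mem_rat hv hz F₀.one_mem)
  obtain ⟨α, hα⟩ := hS.rv_perp_decomp hgv hv'0 (k := k) fun r hr hrv => by
    by_cases hrm : v' ∈ F ∙ r
    · obtain ⟨c, hc⟩ := Submodule.mem_span_singleton.1 hrm
      have hc0 : c ≠ 0 := by rintro rfl; exact hv'0 (by rw [← hc, zero_smul])
      have : B r k = c⁻¹ * B v' k := by
        rw [← hc, map_smul, LinearMap.smul_apply, smul_eq_mul, ← mul_assoc, inv_mul_cancel₀ hc0, one_mul]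
      rw [this, hkv, mul_zero]
      exact F₀.zero_mem
    rcases eq_or_ne r 0 with rfl | hr0
    · simp
    have hp : Pair F₀ B v' r := pair_of hO hgv hr (by rw [hO.symm]; exact hrv) hrm hr0
    have h1 := conj_mem (hS.rat r 1 hr F₀.one_mem) hX
    rw [cr_conj hS.alt (Alt.tv_mem_isoGroup _ _ _)] at h1
    simp only [Alt.tv_apply, one_mul, hp.orth, zero_smul, add_zero] at h1
    set β := B r k with hβ
    have hkr : B k r = β := hO.symm k r
    rw [hkr] at h1
    have h2 := mul_mem hX h1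
    have e : cr hS.alt v' k 1 * cr hS.alt v' (k + β • r) 1 = el hS.alt v' r (β ^ 2) 0 β := LinearEquiv.ext fun x => by
      rw [LinearEquiv.mul_apply, cr_apply hS.alt hkv, cr_apply hS.alt (by simp [hkv, hp.orth]), el_apply hS.alt hp.orth]
      simp only [map_add, map_smul, LinearMap.add_apply, LinearMap.smul_apply, hS.alt v', hS.alt k, hkr, hkv,
        hO.symm k v', hO.symm r v', hp.orth, ← hβ, smul_eq_mul, mul_zero, add_zero, zero_add, one_mul]
      match_scalars
      all_goals first | ring1 | (rw [← sub_eq_zero]; ring_nf; simp [hS.two])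
    rw [e] at h2
    exact hS.el_rat_one hp h2
  set k₀ := k + α • v' with hk₀
  have hkk : k = k₀ + α • v' := by rw [hk₀, add_assoc, hO.vself, add_zero]
  by_cases hm : k₀ ∈ F ∙ v'
  · obtain ⟨c, hc⟩ := Submodule.mem_span_singleton.1 hm
    have hkc : k = (c + α) • v' := by rw [hkk, ← hc, add_smul]
    have hzc : (c + α) • v = z := g.injective (by rw [map_smul, ← hv', ← hkc, hk])
    rw [hkc]
    exact hgv.smul (rv_scalar hv hz hv0 hzc)
  · have hk₀v : B k₀ v' = 0 := by rw [hk₀]; simp [hO.symm k v', hkv, hS.alt v']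
    have hp : Pair F₀ B k₀ v' := pair_of hO hα hgv hk₀v hm hv'0
    have h1 := conj_mem hg (hS.rat z 1 hz F₀.one_mem)
    rw [Alt.conj_tv hS.alt hgi, ← hk, hkk, ← one_smul F k₀, tv_el hS.alt hp.orth] at h1
    obtain ⟨-, -, h3⟩ := hS.el_rat hp h1
    rw [mul_one, one_mul] at h3
    rw [hkk]
    exact hα.add (hgv.smul h3)

theorem inv_apply_rv (hS : Strict F₀ B X) {g : (ι → F) ≃ₗ[F] (ι → F)} {v : ι → F} (hv : RV F₀ v) :
    RV F₀ (g⁻¹ (g v)) := by rwa [show g⁻¹ (g v) = v from g.symm_apply_apply v]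

/-- an element carrying a rational vector to a rational one is rational -/
theorem rat_of_vec (hS : Strict F₀ B X) {g : (ι → F) ≃ₗ[F] (ι → F)} (hg : g ∈ X) {v : ι → F} (hv : RV F₀ v) (hv0 : v ≠ 0)
    (hgv : RV F₀ (g v)) : Rat' F₀ g := by
  have hO := hS.toEvenOver
  have hgi := hS.iso hg
  obtain ⟨w, hw, hvw⟩ := hO.exists_partner hv hv0
  set v' := g v with hv'
  have hv'0 : v' ≠ 0 := fun e => hv0 (g.map_eq_zero_iff.1 e)
  have hgv' : g⁻¹ v' = v := g.symm_apply_apply v
  set k := g w with hk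
  have hkv : B v' k = 1 := by rw [hv', hk, hgi, hvw]
  obtain ⟨α, hα⟩ := hS.rv_perp_decomp hgv hv'0 (k := k) fun r hr hrv => by
    have h1 := hS.perp_rat (inv_mem hg) hgv hv'0 (by rwa [hgv']) hr (by rw [hO.symm]; exact hrv)
    have h2 : B r k = B (g⁻¹ r) w := by
      conv_lhs => rw [← show g (g⁻¹ r) = r from g.apply_symm_apply r]
      exact hgi _ _
    rw [h2]
    exact hS.form _ _ h1 hw
  set k₀ := k + α • v' with hk₀
  have hkk : k = k₀ + α • v' := by rw [hk₀, add_assoc, hO.vself, add_zero]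
  have hk₀v : B v' k₀ = 1 := by rw [hk₀]; simp [hkv, hS.alt v']
  obtain ⟨e, f, he, hf, hef, hve, hke, -, -⟩ := hO.exists_pair hgv hα hk₀v
  have hkw : RV F₀ k := by
    have hke' : B k e = 0 := by rw [hkk]; simp [hke, hve]
    have hp : Pair F₀ B v' e := pair_of hO hgv he hve (fun hm => by
      obtain ⟨c, hc⟩ := Submodule.mem_span_singleton.1 hm
      rw [← hc, map_smul, LinearMap.smul_apply, hO.symm e k₀, hke, smul_zero] at hk₀v
      exact zero_ne_one hk₀v) (fun e' => by rw [e'] at hef; simp at hef)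
    have hq : Pair F₀ B k₀ e := pair_of hO hα he hke (fun hm => by
      obtain ⟨c, hc⟩ := Submodule.mem_span_singleton.1 hm
      rw [← hc, map_smul, hve, smul_zero] at hk₀v
      exact zero_ne_one hk₀v) (fun e' => by rw [e'] at hef; simp at hef)
    have ht : Alt.tv hS.alt k 1 ∈ X := by
      rw [hk, ← Alt.conj_tv hS.alt hgi]
      exact conj_mem hg (hS.rat w 1 hw F₀.one_mem)
    have h1 := conj_mem ht (hO.cr_mem_rat hgv he F₀.one_mem)
    rw [cr_conj hS.alt (Alt.tv_mem_isoGroup _ _ _)] at h1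
    simp only [Alt.tv_apply, one_mul, hkv, hO.symm e k, hke', one_smul, zero_smul, add_zero] at h1
    have e1 : cr hS.alt (v' + k) e 1 * cr hS.alt k₀ e 1 = el hS.alt v' e 0 (1 + α) (1 + α) :=
      LinearEquiv.ext fun x => by
        rw [LinearEquiv.mul_apply, cr_apply hS.alt hq.orth, cr_apply hS.alt (by simp [hve, hke']), el_apply hS.alt hp.orth, hkk]
        simp only [map_add, map_smul, LinearMap.add_apply, LinearMap.smul_apply, hS.alt v', hS.alt k₀, hS.alt e, hve,
          hO.symm e v', hke, hO.symm e k₀, hk₀v, hO.symm k₀ v', smul_eq_mul, mul_zero, add_zero, zero_add, one_mul,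
          mul_one]
        match_scalars
        all_goals first | ring1 | (rw [← sub_eq_zero]; ring_nf; simp [hS.two])
    have h2 := mul_mem h1 (hO.cr_mem_rat hα he F₀.one_mem)
    rw [e1] at h2
    have h3 := (hS.el_rat hp h2).2.2
    have h4 := F₀.add_mem F₀.one_mem h3
    rw [← add_assoc, hO.self_add, zero_add] at h4
    rw [hkk]
    exact hα.add (hgv.smul h4)
  intro z hz
  set t := B v z with ht
  have htF : t ∈ F₀ := hS.form _ _ hv hz
  have hperp := hS.perp_rat hg hv hv0 hgv (hz.add (hw.smul htF)) (by simp [← ht, hvw, hO.self_add])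
  have h2 := hperp.add (hkw.smul htF)
  rwa [map_add, map_smul, ← hk, add_assoc, hO.vself, add_zero] at h2

theorem inv_rat (hS : Strict F₀ B X) {g : (ι → F) ≃ₗ[F] (ι → F)} (hg : g ∈ X) (hr : Rat' F₀ g) : Rat' F₀ g⁻¹ := by
  haveI : Finite ((ι → F) ≃ₗ[F] (ι → F)) :=
    Finite.of_injective (fun g => (g : (ι → F) → (ι → F))) DFunLike.coe_injective
  have hp : ∀ n : ℕ, Rat' F₀ (g ^ n) := fun n => by
    induction n with
    | zero => exact fun z hz => hz
    | succ n ih => rw [pow_succ]; exact rat_mul ih hr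
  have : g⁻¹ = g ^ (orderOf g - 1) := by
    refine inv_eq_of_mul_eq_one_right ?_
    rw [← pow_succ', Nat.sub_add_cancel (orderOf_pos g), pow_orderOf_eq_one]
  rw [this]
  exact hp _

/-- the centraliser of a rational involution is rational -/
theorem commute_rat (hS : Strict F₀ B X) {z h : (ι → F) ≃ₗ[F] (ι → F)} (hz : z ∈ X) (hzr : Rat' F₀ z)
    (hz1 : z ≠ 1) (hz2 : z * z = 1) (hh : h ∈ X) (hc : h * z = z * h) : Rat' F₀ h := by
  have hO := hS.toEvenOver
  have hzi := hS.iso hz
  have hzz : ∀ x, z (z x) = x := fun x => LinearEquiv.congr_fun hz2 x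
  let N : (ι → F) →ₗ[F] (ι → F) := z.toLinearMap + LinearMap.id
  have hN : ∀ x, N x = z x + x := fun _ => rfl
  have hadj : ∀ x y, B (N x) y = B x (N y) := fun x y => by
    have h1 : B (z x) y = B x (z y) := by rw [← hzi x (z y), hzz]
    rw [hN, hN, map_add, map_add, LinearMap.add_apply, h1]
  have hNN : ∀ x, N (N x) = 0 := fun x => by
    rw [hN, hN, map_add, hzz, add_comm x, hO.vself]
  have himg : ∀ x y, B (N x) (N y) = 0 := fun x y => by rw [hadj, hNN, map_zero]
  have hrN : ∀ i, RV F₀ (N (Pi.single i 1)) := fun i => (hzr _ (rv_single i)).add (rv_single i)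
  obtain ⟨i, hi⟩ : ∃ i, N (Pi.single i 1) ≠ 0 := by
    by_contra! hc'
    refine hz1 (LinearEquiv.ext fun x => ?_)
    have h0 : N x = 0 := by rw [eq_sum_single x, map_sum]; simp [hc']
    show z x = x
    rw [hN] at h0
    rw [← add_zero (z x), ← hO.vself x, ← add_assoc, h0, zero_add]
  set r₀ := N (Pi.single i 1) with hr₀
  have hcz : ∀ x, h (z x) = z (h x) := fun x => LinearEquiv.congr_fun hc x
  have hp : h r₀ = N (h (Pi.single i 1)) := by rw [hr₀, hN, hN, map_add, hcz]
  set p := h r₀ with hpd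
  have hp0 : p ≠ 0 := fun e => hi (h.map_eq_zero_iff.1 e)
  have htp : Alt.tv hS.alt p 1 ∈ X := by
    rw [hpd, ← Alt.conj_tv hS.alt (hS.iso hh)]
    exact conj_mem hh (hS.rat r₀ 1 (hrN i) F₀.one_mem)
  have hpm : p ∈ LinearMap.range N := ⟨_, hp.symm⟩
  refine hS.rat_of_vec hh (hrN i) hi ?_
  by_cases hall : ∀ j, N (Pi.single j 1) ∈ F ∙ r₀
  · have hle : LinearMap.range N ≤ F ∙ r₀ := by
      rintro _ ⟨x, rfl⟩
      rw [eq_sum_single x, map_sum]
      exact sum_mem fun j _ => by rw [map_smul]; exact Submodule.smul_mem _ _ (hall j)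
    obtain ⟨c, hcp⟩ := Submodule.mem_span_singleton.1 (hle hpm)
    rw [← hcp, Alt.tv_smul, mul_one] at htp
    show RV F₀ p
    rw [← hcp]
    exact (hrN i).smul (hO.mem_of_sq (hS.small _ _ (hrN i) hi htp))
  push Not at hall
  obtain ⟨j, hj⟩ := hall
  set r₁ := N (Pi.single j 1) with hr₁
  have hpair : Pair F₀ B r₁ r₀ := pair_of hO (hrN j) (hrN i) (himg _ _) hj hi
  have hdim : finrank F (LinearMap.range N) ≤ 2 := by
    have hle : LinearMap.range N ≤ B.orthogonal (LinearMap.range N) := by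
      rintro _ ⟨x, rfl⟩ _ ⟨y, rfl⟩
      exact himg y x
    have h1 := Submodule.finrank_mono hle
    have hnd : B.Nondegenerate := ⟨hS.nd, fun y hy => hS.nd y fun x => by rw [hO.symm]; exact hy x⟩
    rw [LinearMap.BilinForm.finrank_orthogonal hnd, finrank_fintype_fun_eq_card, hS.card] at h1
    omega
  set W := Submodule.span F (Set.range ![r₁, r₀]) with hW
  have hWle : W ≤ LinearMap.range N := Submodule.span_le.2 (by
    rintro _ ⟨l, rfl⟩
    fin_cases l
    · exact ⟨_, rfl⟩
    · exact ⟨_, rfl⟩)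
  have hW2 : 2 ≤ finrank F W := by
    have hli : LinearIndependent F ![r₁, r₀] := by
      rw [LinearIndependent.pair_iff]
      intro s t e
      have hs : s = 0 := by
        by_contra hs
        refine hj (Submodule.mem_span_singleton.2 ⟨-(s⁻¹ * t), ?_⟩)
        have : r₁ = s⁻¹ • (s • r₁) := by rw [smul_smul, inv_mul_cancel₀ hs, one_smul]
        rw [this, eq_neg_of_add_eq_zero_left e, smul_neg, smul_smul, neg_smul]
      refine ⟨hs, ?_⟩
      rw [hs, zero_smul, zero_add] at e
      exact (smul_eq_zero.1 e).resolve_right hi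
    rw [hW, finrank_span_eq_card hli, Fintype.card_fin]
  have heq : W = LinearMap.range N := Submodule.eq_of_le_of_finrank_le hWle (by omega)
  rw [← heq] at hpm
  obtain ⟨s, t, hst⟩ := OverSp.mem2.1 hpm
  rw [← hst, tv_el hS.alt hpair.orth] at htp
  obtain ⟨h1, h2, -⟩ := hS.el_rat hpair htp
  rw [one_mul] at h1 h2
  show RV F₀ p
  rw [← hst]
  exact ((hrN j).smul (hO.mem_of_sq h1)).add ((hrN i).smul (hO.mem_of_sq h2))

/-- the group consists of rational maps -/
theorem all_rat (hS : Strict F₀ B X) : ∀ g ∈ X, Rat' F₀ g := by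
  classical
  have hO := hS.toEvenOver
  haveI : Finite ((ι → F) ≃ₗ[F] (ι → F)) :=
    Finite.of_injective (fun g => (g : (ι → F) → (ι → F))) DFunLike.coe_injective
  obtain ⟨i⟩ : Nonempty ι := Fintype.card_pos_iff.1 (by rw [hS.card]; omega)
  set v : ι → F := Pi.single i 1 with hvd
  have hv : RV F₀ v := rv_single i
  have hv0 : v ≠ 0 := fun h => by simpa [hvd] using congrFun h i
  intro g hg
  obtain ⟨w, hw, hvw⟩ := hO.exists_partner hv hv0
  obtain ⟨e, f, he, hf, hef, hve, hwe, hvf, hwf⟩ := hO.exists_pair hv hw hvw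
  set s := Alt.tv hS.alt v 1 * Alt.tv hS.alt e 1 with hsd
  set p := g v with hpd
  set T := Alt.tv hS.alt p 1 with hTd
  have hsX : s ∈ X := mul_mem (hS.rat _ _ hv F₀.one_mem) (hS.rat _ _ he F₀.one_mem)
  have hTX : T ∈ X := by
    rw [hTd, hpd, ← Alt.conj_tv hS.alt (hS.iso hg)]
    exact conj_mem hg (hS.rat _ _ hv F₀.one_mem)
  have hs_apply : ∀ x, s x = x + B x e • e + B x v • v := fun x => by
    rw [hsd, LinearEquiv.mul_apply, Alt.tv_apply, Alt.tv_apply]
    simp [hve, hO.symm e v]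
  have hs2 : s * s = 1 := LinearEquiv.ext fun x => by
    rw [LinearEquiv.mul_apply, hs_apply, hs_apply]
    simp [hS.alt v, hS.alt e, hve, hO.symm e v]
    match_scalars
    all_goals first | ring1 | (rw [← sub_eq_zero]; ring_nf; simp [hS.two])
  have hT2 : T * T = 1 := by rw [hTd, Alt.tv_add, hO.self_add, Alt.tv_zero]
  have hsr : Rat' F₀ s := fun x hx => by
    rw [hs_apply]
    exact (hx.add (he.smul (hS.form _ _ hx he))).add (hv.smul (hS.form _ _ hx hv))
  have hs1 : s ≠ 1 := fun e' => by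
    have h1 := LinearEquiv.congr_fun e' w
    rw [hs_apply, hwe, zero_smul, add_zero, hO.symm w v, hvw, one_smul] at h1
    exact hv0 (add_eq_left.1 h1)
  have hTr : Rat' F₀ T := by
    rcases exists_common_commute hs2 hT2 with ⟨c, hc, hcs⟩ | ⟨z, hz, hz1, hz2, hsz, hTz⟩
    · exfalso
      have hcX : c ∈ X := (Subgroup.closure_le (K := X)).2
        (by rintro x (rfl | rfl) <;> [exact hsX; exact hTX]) hc
      rw [hTd, Alt.conj_tv hS.alt (hS.iso hcX)] at hcs
      set q := c p
      have h1 := LinearEquiv.congr_fun hcs w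
      have h2 := LinearEquiv.congr_fun hcs f
      rw [hs_apply, Alt.tv_apply, hwe, zero_smul, add_zero, hO.symm w v, hvw, one_smul, one_mul, add_right_inj] at h1
      rw [hs_apply, Alt.tv_apply, hO.symm f e, hef, one_smul, hO.symm f v, hvf, zero_smul, add_zero, one_mul,
        add_right_inj] at h2
      have h3 := congrArg (fun x => B x w) h2
      simp only [map_smul, LinearMap.smul_apply, hO.symm e w, hwe, smul_eq_mul] at h3
      rcases mul_eq_zero.1 h3.symm with h4 | h4
      · rw [h4, zero_smul] at h2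
        rw [h2] at hef
        simp at hef
      · rw [hO.symm w q, h4, zero_smul] at h1
        exact hv0 h1
    · have hzX : z ∈ X := (Subgroup.closure_le (K := X)).2
        (by rintro x (rfl | rfl) <;> [exact hsX; exact hTX]) hz
      exact hS.commute_rat hzX (hS.commute_rat hsX hsr hs1 hs2 hzX hsz.symm) hz1 hz2 hTX hTz
  have hp0 : p ≠ 0 := fun e' => hv0 (g.map_eq_zero_iff.1 e')
  obtain ⟨k, hk⟩ : ∃ k, B (Pi.single k 1) p ≠ 0 := by
    by_contra! hc
    refine hp0 (hS.nd _ fun x => ?_)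
    rw [hO.symm, eq_sum_single x, map_sum, LinearMap.sum_apply]
    simp [hc]
  have h1 := (hTr _ (rv_single k)).add (rv_single (F₀ := F₀) k)
  rw [hTd, Alt.tv_apply, one_mul, add_comm _ (B _ p • p), add_assoc, hO.vself, add_zero] at h1
  set c := B (Pi.single k 1) p
  set p' := c • p with hp'
  have hp'0 : p' ≠ 0 := smul_ne_zero hk hp0
  have h2 : Alt.tv hS.alt p' (c⁻¹ ^ 2) ∈ X := by
    rw [hp', Alt.tv_smul, ← mul_pow, mul_inv_cancel₀ hk, one_pow]
    exact hTX
  have hc : c⁻¹ ∈ F₀ := hO.mem_of_sq (hS.small _ _ h1 hp'0 h2)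
  refine hS.rat_of_vec hg hv hv0 ?_
  have h3 := h1.smul hc
  rwa [hp', smul_smul, inv_mul_cancel₀ hk, one_smul] at h3

end Strict

end Cfsg.Agent.ClassicalMax.Sp4
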