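import Cfsg.Agent.ClassicalMax.Sp4.NdThree
import Cfsg.Agent.ClassicalMax.Sp4.ExtraSpecial

/-!
A skew-adjoint square root of a non-zero scalar anticommutes with a non-degenerate plane of the five-dimensional space of
self-adjoint operators of trace zero: its normaliser in the four-dimensional symplectic group is maximal. This covers the
stabilisers of pairs of complementary totally isotropic planes and of unitary structures.
-/

set_option autoImplicit false
set_option linter.unusedSectionVars false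
set_option linter.style.haveILetI false

namespace Cfsg.Agent.ClassicalMax.Sp4.Five

open Module QuadraticMap Matrix Cfsg.Agent.Classical Cfsg.Agent.Classical.Klein Cfsg.Agent.Classical.Exc
open Cfsg.Agent.ClassicalMax.RootPlanes (NdOn)

variable {F : Type*} [Field F]

local notation "M4" => Matrix (Fin 2 ⊕ Fin 2) (Fin 2 ⊕ Fin 2) F
local notation "G4" => GL (Fin 2 ⊕ Fin 2) F
local notation "𝒪" => op (F := F)
local notation "Jm" => Matrix.J (Fin 2) F

/-- adjointness of two matrices, in matrices -/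
theorem adj_iff (X Y : M4) :
    (∀ u v, sympForm 2 F (X *ᵥ u) v = sympForm 2 F u (Y *ᵥ v)) ↔ Xᵀ * Jm = Jm * Y := by
  have e : ∀ u v, sympForm 2 F (X *ᵥ u) v = u ⬝ᵥ ((Xᵀ * Jm) *ᵥ v) := fun u v => by
    rw [sympForm, dotProduct_comm, Matrix.dotProduct_mulVec, ← Matrix.mulVec_transpose, dotProduct_comm,
      Matrix.mulVec_mulVec]
  have e' : ∀ u v, sympForm 2 F u (Y *ᵥ v) = u ⬝ᵥ ((Jm * Y) *ᵥ v) := fun u v => by
    rw [sympForm, Matrix.mulVec_mulVec]
  constructor
  · intro h
    ext i j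
    have := h (Pi.single i 1) (Pi.single j 1)
    rw [e, e'] at this
    simpa [Matrix.mulVec_single_one] using this
  · intro h u v
    rw [e, e', h]

theorem op_selfadj (v : I5 → F) : (𝒪 v)ᵀ * Jm = Jm * 𝒪 v := by
  apply (spToFour (F := F)).injective
  rw [map_mul, map_mul, spToFour_transpose, spToFour_J, op_apply]
  generalize perpEmb F (Quad.oddCoord 2 v) = x
  ext i j
  fin_cases i <;> fin_cases j <;> simp [skew, omegaMat, Matrix.mul_apply, Fin.sum_univ_four]

/-- the operators have no common centraliser except the scalars -/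
theorem eq_scalar_of_commute (h2 : (2 : F) ≠ 0) {X : M4} (h : ∀ v, X * 𝒪 v = 𝒪 v * X) : ∃ c : F, X = c • 1 := by
  obtain ⟨Y, rfl⟩ : ∃ Y, X = (spToFour (F := F)).symm Y := ⟨spToFour X, ((spToFour (F := F)).symm_apply_apply X).symm⟩
  have key : ∀ v, Y * (skew (perpEmb F (Quad.oddCoord 2 v)) * omegaMat F) =
      (skew (perpEmb F (Quad.oddCoord 2 v)) * omegaMat F) * Y := fun v => by
    have := congrArg spToFour (h v)
    rwa [map_mul, map_mul, op_apply, AlgEquiv.apply_symm_apply] at this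
  have key' : ∀ w, Y * (skew (perpEmb F w) * omegaMat F) = (skew (perpEmb F w) * omegaMat F) * Y := fun w => by
    simpa using key ((Quad.oddCoord 2).symm w)
  refine ⟨Y 0 0, (spToFour (F := F)).injective ?_⟩
  rw [AlgEquiv.apply_symm_apply, map_smul, map_one]
  have e := fun w i j => congrFun (congrFun (key' w) i) j
  have a := e ((![1, 0], 0), 0)
  have b := e ((![0, 1], 0), 0)
  have c := e ((0, ![1, 0]), 0)
  have d := e ((0, ![0, 1]), 0)
  have m := e ((0, 0), 1)
  ext i j
  simp only [Fin.forall_fin_succ, skew, perpEmb, omegaMat, Matrix.mul_apply, Fin.sum_univ_four] at a b c d m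
  simp at a b c d m
  fin_cases i <;> fin_cases j <;> simp <;> grind

section Skew

/-- the hypotheses on the operator -/
structure SkewRoot (J : M4) (ε : F) : Prop where
  two : (2 : F) ≠ 0
  skew : Jᵀ * Jm = -(Jm * J)
  sq : J * J = ε • 1
  ne : ε ≠ 0

variable {J : Matrix (Fin 2 ⊕ Fin 2) (Fin 2 ⊕ Fin 2) F} {ε : F}

theorem SkewRoot.exists_ad (h : SkewRoot J ε) (v : I5 → F) : ∃ w : I5 → F, 𝒪 w = J * 𝒪 v - 𝒪 v * J := by
  refine exists_op (F := F) h.two ?_ ?_
  · rw [Matrix.transpose_sub, Matrix.transpose_mul, Matrix.transpose_mul, Matrix.sub_mul, Matrix.mul_sub,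
      Matrix.mul_assoc, Matrix.mul_assoc, h.skew, op_selfadj, Matrix.mul_neg, ← Matrix.mul_assoc (𝒪 v)ᵀ, op_selfadj,
      ← Matrix.mul_assoc Jᵀ, h.skew, Matrix.neg_mul]
    simp only [Matrix.mul_assoc]
    abel
  · rw [Matrix.trace_sub, Matrix.trace_mul_comm, sub_self]

/-- commutation with the operator, on the five coordinates -/
noncomputable def SkewRoot.ad (h : SkewRoot J ε) : (I5 → F) →ₗ[F] (I5 → F) where
  toFun v := (h.exists_ad v).choose
  map_add' u v := op_injective ((h.exists_ad (u + v)).choose_spec.trans (by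
    rw [map_add 𝒪, map_add 𝒪, (h.exists_ad u).choose_spec, (h.exists_ad v).choose_spec, Matrix.mul_add, Matrix.add_mul]
    abel))
  map_smul' c v := op_injective ((h.exists_ad (c • v)).choose_spec.trans (by
    rw [RingHom.id_apply, map_smul 𝒪, map_smul 𝒪, (h.exists_ad v).choose_spec, Matrix.mul_smul, Matrix.smul_mul, smul_sub]))

theorem SkewRoot.op_ad (h : SkewRoot J ε) (v : I5 → F) : 𝒪 (h.ad v) = J * 𝒪 v - 𝒪 v * J :=
  (h.exists_ad v).choose_spec

theorem SkewRoot.ad_three (h : SkewRoot J ε) (v : I5 → F) : h.ad (h.ad (h.ad v)) = (4 * ε) • h.ad v := by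
  apply op_injective
  rw [map_smul, h.op_ad, h.op_ad, h.op_ad]
  have e1 : ∀ X : M4, J * (J * X) = ε • X := fun X => by
    rw [← Matrix.mul_assoc, h.sq, Matrix.smul_mul, Matrix.one_mul]
  simp only [Matrix.mul_sub, Matrix.sub_mul, Matrix.mul_assoc, h.sq, e1, Matrix.mul_smul, Matrix.smul_mul,
    Matrix.mul_one]
  module

theorem SkewRoot.ad_skew (h : SkewRoot J ε) (u v : I5 → F) :
    polar (Q5 F) (h.ad u) v + polar (Q5 F) u (h.ad v) = 0 := by
  refine smul_left_injective F (one_ne_zero : (1 : M4) ≠ 0) ?_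
  show _ • (1 : M4) = (0 : F) • (1 : M4)
  rw [add_smul, ← op_anti, ← op_anti, h.op_ad, h.op_ad, zero_smul]
  calc _ = J * (𝒪 u * 𝒪 v + 𝒪 v * 𝒪 u) - (𝒪 u * 𝒪 v + 𝒪 v * 𝒪 u) * J := by
        simp only [Matrix.mul_add, Matrix.add_mul, Matrix.sub_mul, Matrix.mul_sub, Matrix.mul_assoc]
        abel
    _ = 0 := by rw [op_anti, Matrix.mul_smul, Matrix.smul_mul, Matrix.mul_one, Matrix.one_mul, sub_self]

theorem SkewRoot.mem_ker (h : SkewRoot J ε) {v : I5 → F} :
    v ∈ LinearMap.ker h.ad ↔ J * 𝒪 v = 𝒪 v * J := by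
  rw [LinearMap.mem_ker, ← sub_eq_zero (a := J * 𝒪 v), ← h.op_ad]
  exact ⟨fun e => by rw [e, map_zero], fun e => op_injective (by rw [e, map_zero])⟩

theorem SkewRoot.anti (h : SkewRoot J ε) {v : I5 → F} (hv : v ∈ LinearMap.range h.ad) :
    J * 𝒪 v = -(𝒪 v * J) := by
  obtain ⟨u, rfl⟩ := hv
  rw [h.op_ad, Matrix.mul_sub, Matrix.sub_mul, ← Matrix.mul_assoc J J, Matrix.mul_assoc (𝒪 u) J J, h.sq,
    Matrix.smul_mul, Matrix.mul_smul, Matrix.one_mul, Matrix.mul_one, Matrix.mul_assoc J (𝒪 u) J, neg_sub]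

theorem SkewRoot.four (h : SkewRoot J ε) : 4 * ε ≠ 0 := by
  rw [show (4 : F) = 2 * 2 by norm_num]
  exact mul_ne_zero (mul_ne_zero h.two h.two) h.ne

theorem SkewRoot.compl (h : SkewRoot J ε) : IsCompl (LinearMap.ker h.ad) (LinearMap.range h.ad) := by
  constructor
  · refine Submodule.disjoint_def.2 ?_
    rintro _ hx ⟨v, rfl⟩
    have h1 := h.ad_three v
    rw [LinearMap.mem_ker.1 hx, map_zero] at h1
    exact (smul_eq_zero.1 h1.symm).resolve_left h.four
  · refine Submodule.codisjoint_iff_exists_add_eq.2 fun x => ?_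
    refine ⟨x - (4 * ε)⁻¹ • h.ad (h.ad x), (4 * ε)⁻¹ • h.ad (h.ad x), ?_,
      (LinearMap.range h.ad).smul_mem _ ⟨_, rfl⟩, sub_add_cancel _ _⟩
    rw [LinearMap.mem_ker, map_sub, map_smul, h.ad_three, smul_smul, inv_mul_cancel₀ h.four, one_smul, sub_self]

theorem SkewRoot.perp (h : SkewRoot J ε) :
    ∀ a ∈ LinearMap.ker h.ad, ∀ b ∈ LinearMap.range h.ad, polar (Q5 F) a b = 0 := by
  rintro a ha _ ⟨v, rfl⟩
  have h1 := h.ad_skew a v
  rw [LinearMap.mem_ker.1 ha] at h1
  simpa [polar] using h1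

/-- a vector of one part orthogonal to it vanishes -/
theorem SkewRoot.nd_parts (h : SkewRoot J ε) (hQ : (polarBilin (Q5 F)).Nondegenerate) :
    NdOn (Q5 F) (LinearMap.ker h.ad) ∧ NdOn (Q5 F) (LinearMap.range h.ad) := by
  refine ⟨fun x hx hperp => hQ.1 x fun y => ?_, fun x hx hperp => hQ.1 x fun y => ?_⟩ <;>
    obtain ⟨a, b, ha, hb, rfl⟩ := Submodule.codisjoint_iff_exists_add_eq.1 h.compl.codisjoint y <;>
    rw [polarBilin_apply_apply, polar_add_right]
  · rw [hperp a ha, h.perp x hx b hb, add_zero]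
  · rw [hperp b hb, polar_comm, h.perp a ha x hx, add_zero]

theorem SkewRoot.finrank_parts (h : SkewRoot J ε) (hQ : (polarBilin (Q5 F)).Nondegenerate) :
    finrank F (LinearMap.ker h.ad) = 3 ∧ finrank F (LinearMap.range h.ad) = 2 := by
  have hsum := LinearMap.finrank_range_add_finrank_ker h.ad
  rw [show finrank F (I5 → F) = 5 by simp] at hsum
  obtain ⟨hnA, hnB⟩ := h.nd_parts hQ
  set P := LinearMap.range h.ad with hP
  have hJ0 : ∀ u : I5 → F, J ≠ 𝒪 u := fun u e => by
    have h1 := op_selfadj u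
    rw [← e, h.skew, neg_eq_iff_add_eq_zero, ← two_smul F] at h1
    have h2 := (smul_eq_zero.1 h1).resolve_left h.two
    have h3 : J = 0 := by
      have h4 := congrArg (fun X => Matrix.J (Fin 2) F * X) h2
      simpa [← Matrix.mul_assoc, Matrix.J_squared] using h4
    have h5 := h.sq
    rw [h3, Matrix.mul_zero] at h5
    exact h.ne ((smul_eq_zero.1 h5.symm).resolve_right one_ne_zero)
  have h4 : finrank F P ≠ 4 := fun h4 => by
    obtain ⟨u, hu, hu0⟩ := Submodule.exists_mem_ne_zero_of_ne_bot (show LinearMap.ker h.ad ≠ ⊥ from fun e => by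
      rw [e, finrank_bot] at hsum; omega)
    have hqu : Q5 F u ≠ 0 := fun hq => hu0 (hnA u hu fun y hy => by
      obtain ⟨t, ht⟩ := (finrank_eq_one_iff_of_nonzero' (⟨u, hu⟩ : LinearMap.ker h.ad)
        (fun e => hu0 (congrArg Subtype.val e))).1 (show finrank F (LinearMap.ker h.ad) = 1 by omega) ⟨y, hy⟩
      have ht' : t • u = y := congrArg Subtype.val ht
      rw [← ht', QuadraticMap.polar_smul_right, Quad.polar_self', hq, mul_zero, smul_zero])
    have hJu := h.mem_ker.1 hu
    obtain ⟨c, hc⟩ := eq_scalar_of_commute h.two (X := J * 𝒪 u) fun v => by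
      obtain ⟨a, b, ha, hb, rfl⟩ := Submodule.codisjoint_iff_exists_add_eq.1 h.compl.codisjoint v
      obtain ⟨t, ht⟩ := (finrank_eq_one_iff_of_nonzero' (⟨u, hu⟩ : LinearMap.ker h.ad)
        (fun e => hu0 (congrArg Subtype.val e))).1 (show finrank F (LinearMap.ker h.ad) = 1 by omega) ⟨a, ha⟩
      have ht' : t • u = a := congrArg Subtype.val ht
      have e1 : 𝒪 u * 𝒪 b = -(𝒪 b * 𝒪 u) := eq_neg_of_add_eq_zero_left (by
        rw [op_anti, h.perp u hu b hb, zero_smul])
      have e2 := h.anti hb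
      rw [map_add, ← ht', map_smul, Matrix.mul_add, Matrix.add_mul, Matrix.mul_smul, Matrix.smul_mul,
        ← Matrix.mul_assoc (𝒪 u) J, ← hJu, Matrix.mul_assoc J (𝒪 u) (𝒪 b), e1, Matrix.mul_neg, ← Matrix.mul_assoc J (𝒪 b),
        e2, Matrix.neg_mul, neg_neg, Matrix.mul_assoc (𝒪 b) J]
    have h6 : Q5 F u • J = c • 𝒪 u := by
      have h7 := congrArg (fun X => X * 𝒪 u) hc
      simpa [Matrix.mul_assoc, op_sq, Matrix.smul_mul] using h7
    refine hJ0 ((c / Q5 F u) • u) ?_
    rw [map_smul, div_eq_inv_mul, mul_smul, ← h6, smul_smul, inv_mul_cancel₀ hqu, one_smul]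
  have hne : finrank F P ≠ 0 := fun h0 => by
    obtain ⟨c, hc⟩ := eq_scalar_of_commute h.two (X := J) fun v => h.mem_ker.1 (LinearMap.mem_ker.2 (by
      have : h.ad v ∈ P := ⟨v, rfl⟩
      rwa [Submodule.finrank_eq_zero.1 h0, Submodule.mem_bot] at this))
    have h1 := h.skew
    rw [hc, Matrix.transpose_smul, Matrix.transpose_one, Matrix.smul_mul, Matrix.one_mul, Matrix.mul_smul,
      Matrix.mul_one, eq_neg_iff_add_eq_zero, ← add_smul] at h1
    have hJm : (Matrix.J (Fin 2) F) ≠ 0 := fun e => by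
      have h3 := congrArg (fun X => Matrix.J (Fin 2) F * X) e
      simp [Matrix.J_squared] at h3
    have h3 := (smul_eq_zero.1 h1).resolve_right hJm
    have h4 : c = 0 := (mul_eq_zero.1 (show (2 : F) * c = 0 by linear_combination h3)).resolve_left h.two
    have h5 := h.sq
    rw [hc, h4, zero_smul, Matrix.mul_zero] at h5
    exact h.ne ((smul_eq_zero.1 h5.symm).resolve_right one_ne_zero)
  have heven : Even (finrank F P) := by
    by_contra hodd
    rw [Nat.not_even_iff_odd] at hodd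
    let b := Module.finBasis F P
    let M : Matrix (Fin (finrank F P)) (Fin (finrank F P)) F :=
      Matrix.of fun i j => polar (Q5 F) (h.ad (b i : I5 → F)) (b j : I5 → F)
    have hM : Mᵀ = -M := by
      ext i j
      simp only [M, Matrix.transpose_apply, Matrix.neg_apply, Matrix.of_apply]
      have := h.ad_skew (b j : I5 → F) (b i : I5 → F)
      rw [polar_comm (Q5 F) (b j : I5 → F)] at this
      linear_combination this
    have hdet : M.det = 0 := by
      have h1 := congrArg Matrix.det hM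
      rw [Matrix.det_transpose, Matrix.det_neg, Fintype.card_fin, hodd.neg_one_pow, neg_one_mul] at h1
      exact (mul_eq_zero.1 (show (2 : F) * M.det = 0 by linear_combination h1)).resolve_left h.two
    obtain ⟨c, hc0, hc⟩ := Matrix.exists_mulVec_eq_zero_iff.2 hdet
    set p : P := ∑ i, c i • b i with hp
    have hzero : ∀ i, polar (Q5 F) (h.ad (b i : I5 → F)) (p : I5 → F) = 0 := fun i => by
      have := congrFun hc i
      simp only [Matrix.mulVec, dotProduct, M, Matrix.of_apply, Pi.zero_apply] at this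
      rw [← this, hp, Submodule.coe_sum, ← polarBilin_apply_apply, map_sum]
      exact Finset.sum_congr rfl fun j _ => by simp [polarBilin_apply_apply, mul_comm]
    have hall : ∀ y ∈ P, polar (Q5 F) (p : I5 → F) y = 0 := by
      rintro _ ⟨v, rfl⟩
      obtain ⟨a, q, ha, hq, rfl⟩ := Submodule.codisjoint_iff_exists_add_eq.1 h.compl.codisjoint v
      rw [map_add, LinearMap.mem_ker.1 ha, zero_add, polar_comm]
      have hq' : q = ((∑ i, b.repr ⟨q, hq⟩ i • b i : P) : I5 → F) := by rw [b.sum_repr]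
      rw [hq', Submodule.coe_sum, map_sum, ← polarBilin_apply_apply, map_sum, LinearMap.sum_apply]
      exact Finset.sum_eq_zero fun i _ => by simp [polarBilin_apply_apply, hzero]
    refine hc0 (funext fun i => ?_)
    have hp0 : p = 0 := Subtype.ext (hnB _ p.2 hall)
    exact Fintype.linearIndependent_iff.1 b.linearIndependent c hp0 i
  obtain ⟨k, hk⟩ := heven
  have : finrank F P = 2 := by omega
  exact ⟨by omega, this⟩

variable [Fintype F]

theorem mem_subspaceStabilizer_of (W : Submodule F (I5 → F)) (g : Cfsg.spGL 2 F) :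
    mat g ∈ Cfsg.Geo.subspaceStabilizer W ↔ ∀ v, v ∈ W ↔ (act g).1 v ∈ W := by
  have e : ∀ v, Matrix.mulVec (Cfsg.glToMat I5 F (mat g)) v = (act g).1 v := fun v => by
    rw [← mat_mulVec g v, Matrix.toLin'_apply]; rfl
  exact ⟨fun h v => e v ▸ h v, fun h v => (e v).symm ▸ h v⟩

theorem SkewRoot.maximal (h : SkewRoot J ε) (hodd : Odd (Fintype.card F)) (hq : 5 ≤ Fintype.card F) (S : Subgroup G4)
    (hS : ∀ g : Cfsg.spGL 2 F, (g : G4) ∈ S ↔
      ((g : G4) : M4) * J * (((g : G4)⁻¹ : G4) : M4) = J ∨ ((g : G4) : M4) * J * (((g : G4)⁻¹ : G4) : M4) = -J) :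
    Cfsg.Geo.IsMaximalIn (Cfsg.spGL 2 F) (S ⊓ Cfsg.spGL 2 F) := by
  classical
  have hQ := Q5_nondeg (F := F) hodd
  obtain ⟨hA, hB⟩ := h.finrank_parts hQ
  obtain ⟨hnA, hnB⟩ := h.nd_parts hQ
  refine maximal_of_five hodd S (Cfsg.Geo.subspaceStabilizer (LinearMap.ker h.ad)) (fun g => ?_)
    (NdThree.isMaximalIn_plane (Q5 F) ⟨h.two, hQ, h.compl, h.perp, hnA, hnB, hA, hB,
      by rw [Nat.card_eq_fintype_card]; exact hq⟩ (Or.inl rfl) (by simp))
  rw [hS, mem_subspaceStabilizer_of]
  set G := ((g : G4) : M4) with hG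
  set G' := (((g : G4)⁻¹ : G4) : M4) with hG'
  have h1 : G * G' = 1 := by rw [hG, hG', ← Units.val_mul, mul_inv_cancel, Units.val_one]
  have h1' : G' * G = 1 := by rw [hG, hG', ← Units.val_mul, inv_mul_cancel, Units.val_one]
  have hconj : ∀ X Y : M4, G * X * G' * (G * Y * G') = G * (X * Y) * G' := fun X Y => by
    simp only [Matrix.mul_assoc]
    rw [← Matrix.mul_assoc G' G, h1', Matrix.one_mul]
  have hinj : ∀ X Y : M4, G * X * G' = G * Y * G' → X = Y := fun X Y e => by
    have := congrArg (fun Z => G' * Z * G) e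
    simp only [← Matrix.mul_assoc, h1', Matrix.one_mul] at this
    simpa [Matrix.mul_assoc, h1'] using this
  constructor
  · intro hJ v
    rw [h.mem_ker, h.mem_ker, op_act]
    have hc : ∀ X Y : M4, (G * J * G' = J ∨ G * J * G' = -J) →
        (J * (G * X * G') = G * Y * G' * J ↔ G * (J * X) * G' = G * (Y * J) * G') := by
      rintro X Y (e | e)
      · rw [← hconj, ← hconj, e]
      · rw [← hconj, ← hconj, e, Matrix.neg_mul, Matrix.mul_neg, neg_inj]
    rw [hc _ _ hJ]
    exact ⟨fun e => by rw [e], fun e => hinj _ _ e⟩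
  · intro hW
    have hPW : ∀ p ∈ LinearMap.range h.ad, (act g).1 p ∈ LinearMap.range h.ad := by
      intro p hp
      obtain ⟨a, b, ha, hb, e⟩ := Submodule.codisjoint_iff_exists_add_eq.1 h.compl.codisjoint ((act g).1 p)
      have : a = 0 := hnA a ha fun y hy => by
        obtain ⟨x, rfl⟩ := (act g).1.surjective y
        have hx : x ∈ LinearMap.ker h.ad := (hW x).2 hy
        have h2 : polar (Q5 F) (a + b) ((act g).1 x) = 0 := by
          rw [e, Quad.polar_eq_of_mem (act g).2, polar_comm, h.perp x hx p hp]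
        rwa [polar_add_left, polar_comm _ b, h.perp _ hy b hb, add_zero] at h2
      rw [← e, this, zero_add]
      exact hb
    set X := G' * J * G with hX
    have hXc : ∀ u ∈ LinearMap.ker h.ad, X * 𝒪 u = 𝒪 u * X := fun u hu => by
      have h2 := h.mem_ker.1 ((hW u).1 hu)
      rw [op_act, ← hG, ← hG'] at h2
      have h3 := congrArg (fun Z => G' * Z * G) h2
      simp only [← Matrix.mul_assoc] at h3
      simp only [Matrix.mul_assoc, h1', Matrix.mul_one] at h3
      simp only [← Matrix.mul_assoc] at h3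
      rw [hX]
      simpa [Matrix.mul_assoc, ← Matrix.mul_assoc G' G, h1'] using h3
    have hXa : ∀ p ∈ LinearMap.range h.ad, X * 𝒪 p = -(𝒪 p * X) := fun p hp => by
      have h2 := h.anti (hPW p hp)
      rw [op_act, ← hG, ← hG'] at h2
      have h3 := congrArg (fun Z => G' * Z * G) h2
      simp only [← Matrix.mul_assoc, Matrix.mul_neg, Matrix.neg_mul] at h3
      simp only [Matrix.mul_assoc, h1', Matrix.mul_one] at h3
      rw [hX]
      simpa [Matrix.mul_assoc, ← Matrix.mul_assoc G' G, h1'] using h3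
    obtain ⟨c, hc⟩ := eq_scalar_of_commute h.two (X := J * X) fun v => by
      obtain ⟨a, b, ha, hb, rfl⟩ := Submodule.codisjoint_iff_exists_add_eq.1 h.compl.codisjoint v
      rw [map_add, Matrix.mul_add, Matrix.add_mul, Matrix.mul_assoc J X, hXc a ha, ← Matrix.mul_assoc J,
        h.mem_ker.1 ha, Matrix.mul_assoc J X (𝒪 b), hXa b hb, Matrix.mul_neg, ← Matrix.mul_assoc J (𝒪 b), h.anti hb,
        Matrix.neg_mul, neg_neg, Matrix.mul_assoc (𝒪 a), Matrix.mul_assoc (𝒪 b)]
    have hXJ : X = (c / ε) • J := by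
      have h3 : ε • X = c • J := by
        have h4 := congrArg (fun Z => J * Z) hc
        simp only [← Matrix.mul_assoc, h.sq, Matrix.smul_mul, Matrix.one_mul, Matrix.mul_smul, Matrix.mul_one] at h4
        exact h4
      rw [div_eq_inv_mul, mul_smul, ← h3, smul_smul, inv_mul_cancel₀ h.ne, one_smul]
    have hXX : X * X = ε • 1 := by
      rw [hX]
      simp only [Matrix.mul_assoc]
      rw [← Matrix.mul_assoc G G', h1, Matrix.one_mul, ← Matrix.mul_assoc J J, h.sq, Matrix.smul_mul, Matrix.one_mul,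
        Matrix.mul_smul, h1']
    rw [hXJ, Matrix.smul_mul, Matrix.mul_smul, h.sq, smul_smul, smul_smul] at hXX
    have h5 := smul_left_injective F (one_ne_zero : (1 : M4) ≠ 0) hXX
    have h6 : c / ε * (c / ε) = 1 := mul_right_cancel₀ h.ne (by rw [one_mul]; exact h5)
    have hback : G * X * G' = J := by
      rw [hX]
      simp only [← Matrix.mul_assoc, h1, Matrix.one_mul]
      rw [Matrix.mul_assoc, h1, Matrix.mul_one]
    rw [hXJ, Matrix.mul_smul, Matrix.smul_mul] at hback
    rcases mul_self_eq_one_iff.1 h6 with e | e <;> rw [e] at hback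
    · exact Or.inl (by rwa [one_smul] at hback)
    · refine Or.inr ?_
      rw [neg_one_smul, neg_eq_iff_eq_neg] at hback
      exact hback

end Skew

variable [Fintype F]

theorem form_eq_sympB (u v : Fin 2 ⊕ Fin 2 → F) : sympForm 2 F u v = sympB 2 F u v := (sympB_apply u v).symm

/-- stabilisers of pairs of complementary totally isotropic planes -/
theorem maximal_lagrangian (hodd : Odd (Fintype.card F)) (hq : 5 ≤ Fintype.card F)
    (D : Fin 2 → Submodule F (Fin 2 ⊕ Fin 2 → F)) (hD : Cfsg.Geo.IsMDecomposition 2 D)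
    (hTS : ∀ i, Cfsg.Geo.IsTotallySingularFor (Cfsg.sympForm 2 F) (D i)) :
    Cfsg.Geo.IsMaximalIn (Cfsg.spGL 2 F) (Cfsg.Geo.decompositionStabilizer D ⊓ Cfsg.spGL 2 F) := by
  classical
  have h2 := two_ne hodd
  have hc : IsCompl (D 0) (D 1) := by
    constructor
    · exact hD.indep.pairwiseDisjoint (by decide : (0 : Fin 2) ≠ 1)
    · rw [codisjoint_iff, ← hD.iSup_eq_top]
      refine le_antisymm (sup_le (le_iSup D 0) (le_iSup D 1)) (iSup_le fun i => ?_)
      fin_cases i
      exacts [le_sup_left, le_sup_right]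
  set L := (D 0).subtype.comp ((D 0).linearProjOfIsCompl (D 1) hc) with hL
  set T : (Fin 2 ⊕ Fin 2 → F) →ₗ[F] (Fin 2 ⊕ Fin 2 → F) := (2 : F) • L - LinearMap.id with hT
  set J := LinearMap.toMatrix' T with hJ
  have hJv : ∀ x, J *ᵥ x = T x := fun x => by rw [hJ, ← Matrix.toLin'_apply, Matrix.toLin'_toMatrix']
  have hT0 : ∀ x ∈ D 0, T x = x := fun x hx => by
    have e : (D 0).linearProjOfIsCompl (D 1) hc x = ⟨x, hx⟩ := Submodule.linearProjOfIsCompl_apply_left hc ⟨x, hx⟩
    rw [hT, hL]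
    simp [e, two_smul]
  have hT1 : ∀ x ∈ D 1, T x = -x := fun x hx => by
    have e : (D 0).linearProjOfIsCompl (D 1) hc x = 0 := Submodule.linearProjOfIsCompl_apply_right hc ⟨x, hx⟩
    rw [hT, hL]
    simp [e]
  have hsplit : ∀ x, ∃ a ∈ D 0, ∃ b ∈ D 1, x = a + b := fun x => RootPlanes.exists_split hc x
  have hT2 : ∀ x, T (T x) = x := fun x => by
    obtain ⟨a, ha, b, hb, rfl⟩ := hsplit x
    rw [map_add, hT0 a ha, hT1 b hb, map_add, map_neg, hT0 a ha, hT1 b hb, neg_neg]
  have hR : SkewRoot J (1 : F) := by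
    refine ⟨h2, ?_, ?_, one_ne_zero⟩
    · rw [← Matrix.mul_neg, ← adj_iff]
      intro u v
      obtain ⟨a, ha, b, hb, rfl⟩ := hsplit u
      obtain ⟨c, hc', d, hd, rfl⟩ := hsplit v
      rw [hJv, Matrix.neg_mulVec, hJv, map_add, map_add, hT0 a ha, hT1 b hb, hT0 c hc', hT1 d hd, form_eq_sympB,
        form_eq_sympB]
      have e1 := hTS 0 a ha c hc'
      have e2 := hTS 1 b hb d hd
      rw [form_eq_sympB] at e1 e2
      simp [e1, e2]
    · refine Matrix.toLin'.injective (LinearMap.ext fun x => ?_)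
      rw [Matrix.toLin'_mul, LinearMap.comp_apply, hJ, Matrix.toLin'_toMatrix', hT2, one_smul, Matrix.toLin'_one]
      rfl
  have hmem0 : ∀ x, x ∈ D 0 ↔ T x = x := fun x => ⟨hT0 x, fun e => by
    obtain ⟨a, ha, b, hb, rfl⟩ := hsplit x
    rw [map_add, hT0 a ha, hT1 b hb, add_right_inj, neg_eq_iff_add_eq_zero, ← two_smul F] at e
    rw [(smul_eq_zero.1 e).resolve_left h2, add_zero]
    exact ha⟩
  have hmem1 : ∀ x, x ∈ D 1 ↔ T x = -x := fun x => ⟨hT1 x, fun e => by
    obtain ⟨a, ha, b, hb, rfl⟩ := hsplit x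
    rw [map_add, hT0 a ha, hT1 b hb, neg_add, add_left_inj, eq_neg_iff_add_eq_zero, ← two_smul F] at e
    rw [(smul_eq_zero.1 e).resolve_left h2, zero_add]
    exact hb⟩
  refine hR.maximal hodd hq _ fun g => ?_
  have hgJ : ∀ Z : M4, ((g : G4) : M4) * J * (((g : G4)⁻¹ : G4) : M4) = Z ↔
      ∀ x, ((g : G4) : M4) *ᵥ T x = Z *ᵥ (((g : G4) : M4) *ᵥ x) := by
    intro Z
    constructor
    · intro e x
      rw [← e, Matrix.mulVec_mulVec, Matrix.mul_assoc, ← Units.val_mul, inv_mul_cancel, Units.val_one, Matrix.mul_one,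
        ← Matrix.mulVec_mulVec, hJv]
    · intro e
      have h1 : ((g : G4) : M4) * J = Z * ((g : G4) : M4) := Matrix.toLin'.injective (LinearMap.ext fun x => by
        rw [Matrix.toLin'_apply, Matrix.toLin'_apply, ← Matrix.mulVec_mulVec, ← Matrix.mulVec_mulVec, hJv, e])
      rw [h1, Matrix.mul_assoc, ← Units.val_mul, mul_inv_cancel, Units.val_one, Matrix.mul_one]
  rw [hgJ, hgJ]
  simp only [Matrix.neg_mulVec, hJv]
  set L' := Matrix.toLin' ((g : G4) : M4) with hL'
  have hGv : ∀ x, ((g : G4) : M4) *ᵥ x = L' x := fun x => rfl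
  simp only [hGv]
  have hinj : Function.Injective L' := fun x y e => by
    have := congrArg (fun z => (((g : G4)⁻¹ : G4) : M4) *ᵥ z) e
    simpa [hL', Matrix.mulVec_mulVec, ← Units.val_mul] using this
  constructor
  · rintro ⟨σ, hσ⟩
    have h0 : ∀ x ∈ D 0, L' x ∈ D (σ 0) := fun x hx => hσ 0 ▸ Submodule.mem_map_of_mem hx
    have h1 : ∀ x ∈ D 1, L' x ∈ D (σ 1) := fun x hx => hσ 1 ▸ Submodule.mem_map_of_mem hx
    rcases (by fin_cases σ <;> decide : σ 0 = 0 ∧ σ 1 = 1 ∨ σ 0 = 1 ∧ σ 1 = 0) with ⟨e0, e1⟩ | ⟨e0, e1⟩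
    · refine Or.inl fun x => ?_
      obtain ⟨a, ha, b, hb, rfl⟩ := hsplit x
      rw [map_add L', map_add T, map_add T, hT0 a ha, hT1 b hb, map_add, map_neg, hT0 _ (e0 ▸ h0 a ha),
        hT1 _ (e1 ▸ h1 b hb)]
    · refine Or.inr fun x => ?_
      obtain ⟨a, ha, b, hb, rfl⟩ := hsplit x
      rw [map_add L', map_add T, map_add T, hT0 a ha, hT1 b hb, map_add, map_neg, hT1 _ (e0 ▸ h0 a ha),
        hT0 _ (e1 ▸ h1 b hb)]
      abel
  · have hmap : ∀ i j, (∀ x ∈ D i, L' x ∈ D j) → (D i).map L' = D j := fun i j hij =>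
      Submodule.eq_of_le_of_finrank_eq (by rintro _ ⟨x, hx, rfl⟩; exact hij x hx) (by
        rw [← (Submodule.equivMapOfInjective L' hinj (D i)).finrank_eq, hD.finrank_eq, hD.finrank_eq])
    rintro (e | e)
    · refine ⟨1, fun i => hmap i i fun x hx => ?_⟩
      fin_cases i
      · exact (hmem0 _).2 (by rw [← e x, hT0 x hx])
      · exact (hmem1 _).2 (by rw [← e x, hT1 x hx, map_neg])
    · refine ⟨Equiv.swap 0 1, fun i => ?_⟩
      fin_cases i
      · refine hmap 0 1 fun x hx => (hmem1 _).2 ?_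
        have h1 := e x
        rw [hT0 x hx] at h1
        exact (neg_eq_iff_eq_neg.1 h1.symm)
      · refine hmap 1 0 fun x hx => (hmem0 _).2 ?_
        have h1 := e x
        rw [hT1 x hx, map_neg, neg_inj] at h1
        exact h1.symm

/-- normalisers of unitary structures -/
theorem maximal_unitary (hodd : Odd (Fintype.card F)) (hq : 5 ≤ Fintype.card F) (K : Subalgebra F M4)
    (hK : Cfsg.Geo.IsFieldSubalgebra 2 K) (hac : Cfsg.Geo.IsAdjointClosedFor (Cfsg.sympForm 2 F) K)
    (hns : ¬ Cfsg.Geo.IsSelfAdjointFor (Cfsg.sympForm 2 F) K) :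
    Cfsg.Geo.IsMaximalIn (Cfsg.spGL 2 F) (Cfsg.Geo.subalgebraNormalizer K ⊓ Cfsg.spGL 2 F) := by
  classical
  have h2 := two_ne hodd
  simp only [Cfsg.Geo.IsSelfAdjointFor, not_forall] at hns
  obtain ⟨k, hk, hns⟩ := hns
  obtain ⟨k', hk', hadj⟩ := hac k hk
  have hne : k ≠ k' := fun e => by
    obtain ⟨u, v, huv⟩ := hns
    exact huv (by rw [hadj u v, ← e])
  have a1 : kᵀ * Jm = Jm * k' := (adj_iff _ _).1 hadj
  have a2 : k'ᵀ * Jm = Jm * k := (adj_iff _ _).1 fun u v => by
    have hneg := LinearMap.IsAlt.neg (sympB_isAlt (F := F) (m := 2))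
    have h3 := hadj v u
    rw [form_eq_sympB, form_eq_sympB] at h3 ⊢
    linear_combination h3 + hneg (k *ᵥ v) u - hneg v (k' *ᵥ u)
  set J := k - k' with hJ
  have hJK : J ∈ K := K.sub_mem hk hk'
  have hsk : Jᵀ * Jm = -(Jm * J) := by
    rw [hJ, Matrix.transpose_sub, Matrix.sub_mul, a1, a2, Matrix.mul_sub, neg_sub]
  have hJm2 : Jm * Jm = -1 := Matrix.J_squared (Fin 2) F
  have hzero : ∀ X : M4, Xᵀ * Jm = Jm * X → Xᵀ * Jm = -(Jm * X) → X = 0 := fun X e1 e2 => by
    rw [e1, eq_neg_iff_add_eq_zero, ← two_smul F] at e2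
    have h3 := congrArg (fun Z => Jm * Z) ((smul_eq_zero.1 e2).resolve_left h2)
    simpa [← Matrix.mul_assoc, hJm2] using h3
  have hJ0 : J ≠ 0 := sub_ne_zero.2 hne
  have hli : LinearIndependent F ![(⟨1, K.one_mem⟩ : K), ⟨J, hJK⟩] := by
    rw [LinearIndependent.pair_iff]
    intro s t e
    have e' : s • (1 : M4) + t • J = 0 := congrArg Subtype.val e
    by_cases ht : t = 0
    · rw [ht, zero_smul, add_zero] at e'
      exact ⟨(smul_eq_zero.1 e').resolve_right one_ne_zero, ht⟩
    refine absurd (hzero J ?_ hsk) hJ0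
    rw [← inv_smul_smul₀ ht J, eq_neg_of_add_eq_zero_right e', ← neg_smul, smul_smul]
    simp
  have hspan : ∀ X ∈ K, ∃ a b : F, X = a • 1 + b • J := fun X hX => by
    have htop := hli.span_eq_top_of_card_eq_finrank (by rw [Fintype.card_fin, hK.finrank_eq])
    have hm : (⟨X, hX⟩ : K) ∈ Submodule.span F (Set.range ![(⟨1, K.one_mem⟩ : K), ⟨J, hJK⟩]) :=
      htop ▸ Submodule.mem_top
    obtain ⟨c, hc⟩ := (Submodule.mem_span_range_iff_exists_fun F).1 hm
    refine ⟨c 0, c 1, ?_⟩
    have := congrArg Subtype.val hc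
    simp [Fin.sum_univ_two] at this
    exact this.symm
  obtain ⟨a, b, hab⟩ := hspan (J * J) (K.mul_mem hJK hJK)
  clear_value J
  have hb : b • J = 0 := by
    refine hzero _ ?_ (by rw [Matrix.transpose_smul, Matrix.smul_mul, hsk, Matrix.mul_smul, smul_neg])
    have e : (J * J)ᵀ * Jm = Jm * (J * J) := by
      rw [Matrix.transpose_mul, Matrix.mul_assoc, hsk, Matrix.mul_neg, ← Matrix.mul_assoc, hsk, Matrix.neg_mul, neg_neg,
        Matrix.mul_assoc]
    rw [show b • J = J * J - a • 1 by rw [hab]; abel, Matrix.transpose_sub, Matrix.transpose_smul, Matrix.transpose_one,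
      Matrix.sub_mul, e, Matrix.smul_mul, Matrix.one_mul, Matrix.mul_sub, Matrix.mul_smul, Matrix.mul_one]
  have hsq : J * J = a • 1 := by rw [hab, hb, add_zero]
  have ha : a ≠ 0 := fun e => by
    obtain ⟨y, hy, hJy⟩ := hK.inv J hJK hJ0
    have h3 := congrArg (fun Z => Z * y) hsq
    rw [e, zero_smul, Matrix.zero_mul, Matrix.mul_assoc, hJy, Matrix.mul_one] at h3
    exact hJ0 h3
  refine (SkewRoot.mk h2 hsk hsq ha).maximal hodd hq _ fun g => ?_
  set G := ((g : G4) : M4) with hG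
  set G' := (((g : G4)⁻¹ : G4) : M4) with hG'
  have h1 : G * G' = 1 := by rw [hG, hG', ← Units.val_mul, mul_inv_cancel, Units.val_one]
  have h1' : G' * G = 1 := by rw [hG, hG', ← Units.val_mul, inv_mul_cancel, Units.val_one]
  have hadjG : ∀ u v, sympForm 2 F (G *ᵥ u) (G *ᵥ v) = sympForm 2 F u v := g.2
  constructor
  · intro hg
    have hm := (hg J).1 hJK
    obtain ⟨s, t, hst⟩ := hspan _ hm
    have hG'T : G'ᵀ * Jm = Jm * G := (adj_iff _ _).1 fun u v => by
      have := hadjG (G' *ᵥ u) v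
      rw [Matrix.mulVec_mulVec, h1, Matrix.one_mulVec] at this
      exact this.symm
    have hGT : Gᵀ * Jm = Jm * G' := (adj_iff _ _).1 fun u v => by
      have := hadjG u (G' *ᵥ v)
      rwa [Matrix.mulVec_mulVec, h1, Matrix.one_mulVec] at this
    have hXsk : (G * J * G')ᵀ * Jm = -(Jm * (G * J * G')) := by
      rw [Matrix.transpose_mul, Matrix.transpose_mul, Matrix.mul_assoc, Matrix.mul_assoc, hGT,
        ← Matrix.mul_assoc Jᵀ, hsk, Matrix.neg_mul, Matrix.mul_neg, ← Matrix.mul_assoc, ← Matrix.mul_assoc, hG'T]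
      simp only [Matrix.mul_assoc]
    rw [hst] at hXsk
    have hs : s = 0 := by
      by_contra hs
      refine hs ?_
      have h3 : (s • (1 : M4)) = 0 := hzero _ (by simp) (by
        simp only [Matrix.transpose_add, Matrix.transpose_smul, Matrix.transpose_one, Matrix.add_mul, Matrix.smul_mul,
          Matrix.one_mul, Matrix.mul_add, Matrix.mul_smul, Matrix.mul_one, neg_add_rev, hsk, smul_neg] at hXsk ⊢
        exact add_right_cancel (hXsk.trans (add_comm _ _)))
      exact (smul_eq_zero.1 h3).resolve_right one_ne_zero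
    rw [hs, zero_smul, zero_add] at hst
    have h4 : (G * J * G') * (G * J * G') = a • 1 := by
      simp only [Matrix.mul_assoc]
      rw [← Matrix.mul_assoc G' G, h1', Matrix.one_mul, ← Matrix.mul_assoc J J, hsq, Matrix.smul_mul, Matrix.one_mul,
        Matrix.mul_smul, h1]
    rw [hst, Matrix.smul_mul, Matrix.mul_smul, hsq, smul_smul, smul_smul] at h4
    have h5 := smul_left_injective F (one_ne_zero : (1 : M4) ≠ 0) h4
    rcases mul_self_eq_one_iff.1 (mul_right_cancel₀ ha (by rw [one_mul]; exact h5) : t * t = 1) with e | e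
    · exact Or.inl (by rw [hst, e, one_smul])
    · exact Or.inr (by rw [hst, e, neg_one_smul])
  · intro hJ'
    obtain ⟨d, hd⟩ : ∃ d : F, G * J * G' = d • J ∧ d * d = 1 := by
      rcases hJ' with e | e
      · exact ⟨1, by rw [e, one_smul], one_mul 1⟩
      · exact ⟨-1, by rw [e, neg_one_smul], by ring⟩
    have hd' : G' * J * G = d • J := by
      have h3 := congrArg (fun Z => G' * Z * G) hd.1
      simp only [Matrix.mul_assoc, h1', Matrix.mul_one, Matrix.mul_smul, Matrix.smul_mul] at h3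
      simp only [← Matrix.mul_assoc, h1', Matrix.one_mul] at h3
      have h4 := congrArg (fun Z => d • Z) h3
      simp only [smul_smul, hd.2, one_smul] at h4
      exact h4.symm
    intro X
    show X ∈ K ↔ G * X * G' ∈ K
    constructor
    · intro hX
      obtain ⟨s, t, rfl⟩ := hspan X hX
      rw [Matrix.mul_add, Matrix.add_mul, Matrix.mul_smul, Matrix.smul_mul, Matrix.mul_one, h1, Matrix.mul_smul,
        Matrix.smul_mul, hd.1]
      exact K.add_mem (K.smul_mem K.one_mem s) (K.smul_mem (K.smul_mem hJK d) t)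
    · intro hX
      obtain ⟨s, t, e⟩ := hspan _ hX
      have h3 := congrArg (fun Z => G' * Z * G) e
      simp only [Matrix.mul_add, Matrix.add_mul, Matrix.mul_smul, Matrix.smul_mul, Matrix.mul_one, h1', hd'] at h3
      simp only [Matrix.mul_assoc, h1', Matrix.mul_one] at h3
      simp only [← Matrix.mul_assoc, h1', Matrix.one_mul] at h3
      rw [h3]
      exact K.add_mem (K.smul_mem K.one_mem s) (K.smul_mem (K.smul_mem hJK d) t)

end Cfsg.Agent.ClassicalMax.Sp4.Five
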